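import Mathlib
import Cfsg.Agent.Lib.RankOnePush.Setup
import Cfsg.Agent.Lib.PushingUp.Setup
import Cfsg.Agent.Lib.PushingUp.Replace
/-!
Abelian subgroups of largest order in a pushing-up situation in which `Z(S)` is not normal
(Glauberman–Niles).
-/

set_option autoImplicit false
set_option linter.unusedSectionVars false

namespace Cfsg.Agent.Lib.GNiles

open Subgroup
open Cfsg.Agent.Lib
open Cfsg.Agent.Lib.SL2 (SLtwo PSLtwo proj upper lower)
open Cfsg.Agent.Lib.RankOnePush (upperP normal_eq_bot)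
open scoped commutatorElement

variable {G : Type*} [Group G] [Finite G] {p : ℕ} [hp : Fact p.Prime]
  {F : Type} [Field F] [Fintype F] {n : ℕ}

/-- The centre of the subgroup `S`, inside `G`. -/
abbrev zen (S : Subgroup G) : Subgroup G := S ⊓ centralizer (S : Set G)

/-- An abelian subgroup of largest order of `S`. -/
structure IsLag (S A : Subgroup G) : Prop where
  le : A ≤ S
  comm : A ≤ centralizer (A : Set G)
  max : ∀ B ≤ S, B ≤ centralizer (B : Set G) → Nat.card B ≤ Nat.card A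

theorem comm_eq {A B : Subgroup G} (h : A ≤ centralizer (B : Set G)) {a b : G} (ha : a ∈ A)
    (hb : b ∈ B) : a * b = b * a :=
  (mem_centralizer_iff.1 (h ha) b hb).symm

theorem sup_le_centralizer {H K : Subgroup G}
    (hH : H ≤ centralizer (H : Set G)) (hK : K ≤ centralizer (K : Set G))
    (hHK : H ≤ centralizer (K : Set G)) :
    H ⊔ K ≤ centralizer ((H ⊔ K : Subgroup G) : Set G) :=
  CD.isMulCommutative_sup_of_le_centralizer hH hK hHK

namespace IsLag

variable {S A : Subgroup G}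

theorem cent (h : IsLag S A) {x : G} (hx : x ∈ S) (hc : ∀ a ∈ A, a * x = x * a) : x ∈ A := by
  have hxc : zpowers x ≤ centralizer (A : Set G) := zpowers_le.2 (mem_centralizer_iff.2 hc)
  have hab := sup_le_centralizer h.comm (le_centralizer_iff_isMulCommutative.2
    (inferInstance : IsMulCommutative (zpowers x))) (le_centralizer_iff.1 hxc)
  have e := eq_of_le_of_card_ge (le_sup_left (b := zpowers x))
    (h.max _ (sup_le h.le (zpowers_le.2 hx)) hab)
  exact e.symm.le (mem_sup_right (mem_zpowers x))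

theorem zen_le (h : IsLag S A) : zen S ≤ A := fun _ hz =>
  h.cent hz.1 fun a ha => mem_centralizer_iff.1 hz.2 a (h.le ha)

theorem map_conj (h : IsLag S A) {g : G} (hg : A.map (MulAut.conj g).toMonoidHom ≤ S) :
    IsLag S (A.map (MulAut.conj g).toMonoidHom) := by
  refine ⟨hg, ?_, fun B hB hBc => ?_⟩
  · rintro _ ⟨a, ha, rfl⟩
    refine mem_centralizer_iff.2 ?_
    rintro _ ⟨b, hb, rfl⟩
    rw [← map_mul, ← map_mul, mem_centralizer_iff.1 (h.comm ha) b hb]
  · exact (h.max B hB hBc).trans_eq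
      (card_map_of_injective (K := A) (f := (MulAut.conj g).toMonoidHom) (MulAut.conj g).injective).symm

end IsLag

/-- A pushing-up situation in which `Z(S)` is not normal. -/
structure Ctx (p : ℕ) (S : Subgroup G) (n : ℕ) (ψ : G →* PSLtwo F) : Prop where
  data : ∃ M : Subgroup G, PushingUp.Data p S M n F ψ
  setup : RankOnePush.Setup p S (Cfsg.pCore p G) n ψ
  nz : ¬ (zen S).Normal

theorem exists_ctx {S : Subgroup G} (h : Cfsg.IsPushingUpSituation p S) (hn : ¬ (zen S).Normal) :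
    ∃ (n : ℕ) (F : Type) (_ : Field F) (_ : Fintype F) (ψ : G →* PSLtwo F), Ctx p S n ψ := by
  obtain ⟨M, n, F, iF, iFt, ψ, d⟩ := PushingUp.exists_data h
  obtain ⟨ψ', -, s⟩ := RankOnePush.exists_setup d
  exact ⟨n, F, iF, iFt, ψ', ⟨M, d.sylow, d.cent, d.coatom, d.le, d.uniq, s.surj, d.card, d.pos⟩, s, hn⟩

variable {S A : Subgroup G} {ψ : G →* PSLtwo F}

/-- In a `p`-group a subgroup invariant under commutation has an element fixed modulo a proper
subgroup. -/
theorem exists_fixed_mod (hS : IsPGroup p S) {P K H : Subgroup G} (hP : P ≤ S) (hK : K ≤ S)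
    (hKH : ¬ K ≤ H) (hnorm : ∀ k ∈ K, ∀ s ∈ P, ⁅k, s⁆ ∈ K) :
    ∃ k ∈ K, k ∉ H ∧ ∀ s ∈ P, ⁅k, s⁆ ∈ H := by
  by_contra hcon
  push Not at hcon
  apply hKH
  haveI : Group.IsNilpotent S := hS.isNilpotent
  obtain ⟨m, hm⟩ := Subgroup.nilpotent_iff_lowerCentralSeries.1 (inferInstance : Group.IsNilpotent S)
  have key : ∀ j, j ≤ m →
      ∀ x : S, x ∈ (⊤ : Subgroup S).lowerCentralSeries (m - j) → (x : G) ∈ K → (x : G) ∈ H := by
    intro j
    induction j with
    | zero =>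
      intro _ x hx _
      rw [Nat.sub_zero, hm, mem_bot] at hx
      simp [hx]
    | succ j ih =>
      intro hj x hx hxK
      by_contra hxH
      obtain ⟨s, hs, hsH⟩ := hcon x hxK hxH
      refine hsH (ih (by omega) ⁅x, ⟨s, hP hs⟩⁆ ?_ ?_)
      · rw [show m - j = m - (j + 1) + 1 by omega, Subgroup.lowerCentralSeries_succ]
        exact commutator_mem_commutator hx (mem_top _)
      · exact hnorm x hxK s hs
  intro k hk
  exact key m le_rfl ⟨k, hK hk⟩ (by rw [Nat.sub_self, Subgroup.lowerCentralSeries_zero]; exact mem_top _) hk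

namespace Ctx

variable (c : Ctx p S n ψ)

include c

theorem W_le : centralizer (Cfsg.pCore p G : Set G) ≤ Cfsg.pCore p G := by
  obtain ⟨M, d⟩ := c.data
  exact d.cent

theorem zen_le_W : zen S ≤ centralizer (Cfsg.pCore p G : Set G) := fun _ hz =>
  mem_centralizer_iff.2 fun x hx => mem_centralizer_iff.1 hz.2 x (c.setup.le_S hx)

theorem zen_le_D : zen S ≤ Cfsg.pCore p G := c.zen_le_W.trans c.W_le

theorem W_comm {u v : G} (hu : u ∈ centralizer (Cfsg.pCore p G : Set G))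
    (hv : v ∈ centralizer (Cfsg.pCore p G : Set G)) : u * v = v * u :=
  (mem_centralizer_iff.1 hu v (c.W_le hv)).symm

theorem D_comm_W {d w : G} (hd : d ∈ Cfsg.pCore p G)
    (hw : w ∈ centralizer (Cfsg.pCore p G : Set G)) : d * w = w * d :=
  mem_centralizer_iff.1 hw d hd

theorem center_le_zen : center G ≤ zen S := fun z hz => by
  have hc : z ∈ centralizer (S : Set G) := mem_centralizer_iff.2 fun x _ => mem_center_iff.1 hz x
  exact ⟨c.setup.le_S (c.W_le (mem_centralizer_iff.2 fun x _ => mem_center_iff.1 hz x)), hc⟩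

theorem index_D : (Cfsg.pCore p G).relIndex S = p ^ n := by
  obtain ⟨M, d⟩ := c.data
  exact d.relIndex_pCore

theorem exists_V : ∃ V : Subgroup G, V.Normal ∧ V ≤ centralizer (Cfsg.pCore p G : Set G) ∧
    (∀ v ∈ V, v ^ p = 1) ∧
    ∀ a ∈ S, a ∉ Cfsg.pCore p G → p ^ n ≤ (V ⊓ centralizer {a}).relIndex V := by
  obtain ⟨M, d⟩ := c.data
  obtain ⟨V, hVn, hVD, hDV, hVp, hCV⟩ := d.exists_elementary c.nz
  exact ⟨V, hVn, le_centralizer_iff.1 hDV, hVp, fun a ha haD =>
    d.le_relIndex (PSolvable.pCore_isPGroup.to_le hVD) hCV ha haD⟩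

theorem lag_basic (hA : IsLag S A) (hAD : ¬ A ≤ Cfsg.pCore p G) :
    (Cfsg.pCore p G).relIndex A = p ^ n ∧ A ⊔ Cfsg.pCore p G = S ∧
      centralizer (Cfsg.pCore p G : Set G) ⊓ A = zen S ∧
      IsLag S ((A ⊓ Cfsg.pCore p G) ⊔ centralizer (Cfsg.pCore p G : Set G)) ∧
      (zen S).relIndex (centralizer (Cfsg.pCore p G : Set G)) = p ^ n ∧
      (∀ w ∈ centralizer (Cfsg.pCore p G : Set G), ∃ v z : G, v ^ p = 1 ∧ z ∈ zen S ∧ w = v * z) ∧
      (∀ s ∈ S, s ∉ Cfsg.pCore p G → ∀ w ∈ centralizer (Cfsg.pCore p G : Set G),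
        s * w = w * s → w ∈ zen S) := by
  set D := Cfsg.pCore p G
  set W := centralizer (D : Set G) with hW
  obtain ⟨V, hVn, hVW, hVp, hbound⟩ := c.exists_V
  obtain ⟨a, haA, haD⟩ := SetLike.not_le_iff_exists.1 hAD
  set U := A ⊓ D
  have hDS : D ≤ S := c.setup.le_S
  have hVD : V ≤ D := hVW.trans c.W_le
  have hUV : U ≤ centralizer (V : Set G) := inf_le_right.trans (le_centralizer_iff.1 hVW)
  have hUc : U ≤ centralizer (U : Set G) :=
    inf_le_left.trans (hA.comm.trans (centralizer_le (show (U : Set G) ⊆ A from inf_le_left)))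
  have hVc : V ≤ centralizer (V : Set G) := fun v hv =>
    mem_centralizer_iff.2 fun u hu => c.W_comm (hVW hu) (hVW hv)
  have habV := sup_le_centralizer hUc hVc hUV
  have hleS : U ⊔ V ≤ S := sup_le (inf_le_right.trans hDS) (hVD.trans hDS)
  have hmax := hA.max _ hleS habV
  have hUiV : U ⊓ V = A ⊓ V := by rw [inf_assoc, inf_eq_right.2 hVD]
  have hlow : p ^ n ≤ A.relIndex V := by
    refine (hbound a (hA.le haA) haD).trans ?_
    rw [← inf_relIndex_right A V]
    refine relIndex_le_of_le_left (fun v hv => ⟨hv.2, mem_centralizer_singleton_iff.2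
      (comm_eq hA.comm hv.1 haA)⟩) (by rw [relIndex]; exact index_ne_zero_of_finite)
  have hidx : D.relIndex A ≤ p ^ n := c.index_D ▸
    relIndex_le_of_le_right hA.le (by rw [relIndex]; exact index_ne_zero_of_finite)
  have ecard : Nat.card (U ⊔ V : Subgroup G) = Nat.card U * A.relIndex V := by
    have h1 := PushingUp.card_sup_mul_card_inf_of_commute hUV
    have h2 : Nat.card V = Nat.card (A ⊓ V : Subgroup G) * A.relIndex V := by
      rw [← relIndex_bot_left, ← relIndex_mul_relIndex ⊥ (A ⊓ V) V bot_le inf_le_right,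
        relIndex_bot_left, inf_relIndex_right]
    rw [hUiV, h2] at h1
    refine Nat.eq_of_mul_eq_mul_right (Nat.card_pos : 0 < Nat.card (A ⊓ V : Subgroup G)) ?_
    rw [h1]; ring
  have ecardA : Nat.card A = Nat.card U * D.relIndex A := by
    rw [← relIndex_bot_left, ← relIndex_mul_relIndex ⊥ U A bot_le inf_le_left, relIndex_bot_left,
      inf_relIndex_left]
  have hq1 : D.relIndex A = p ^ n := by
    refine le_antisymm hidx (hlow.trans (Nat.le_of_mul_le_mul_left ?_ (Nat.card_pos : 0 < Nat.card U)))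
    rw [← ecard, ← ecardA]; exact hmax
  have hq2 : A.relIndex V = p ^ n := by
    refine le_antisymm (Nat.le_of_mul_le_mul_left ?_ (Nat.card_pos : 0 < Nat.card U)) hlow
    rw [← ecard, ← hq1, ← ecardA]; exact hmax
  have hUVlag : IsLag S (U ⊔ V) := ⟨hleS, habV, fun B hB hBc => (hA.max B hB hBc).trans
    (le_of_eq (by rw [ecardA, ecard, hq1, hq2]))⟩
  have hWUV : W ≤ U ⊔ V := fun w hw => hUVlag.cent (hDS (c.W_le hw)) fun x hx =>
    c.D_comm_W ((sup_le (inf_le_right : U ≤ D) hVD) hx) hw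
  have hUW : U ⊔ W = U ⊔ V := le_antisymm (sup_le le_sup_left hWUV) (sup_le_sup_left hVW _)
  have hAD' : A ⊔ D = S := by
    refine le_antisymm (sup_le hA.le hDS) (relIndex_eq_one.1 ?_)
    have h1 : D.relIndex (A ⊔ D) = D.relIndex A := relIndex_sup_right A D
    have h2 := relIndex_mul_relIndex D (A ⊔ D) S le_sup_right (sup_le hA.le hDS)
    rw [h1, hq1, c.index_D] at h2
    exact Nat.eq_of_mul_eq_mul_left (pow_pos hp.out.pos n) (h2.trans (mul_one _).symm)
  have hWA : W ⊓ A = zen S := by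
    refine le_antisymm (fun w hw => ?_) (le_inf c.zen_le_W hA.zen_le)
    refine ⟨hA.le hw.2, mem_centralizer_iff.2 fun x hx => ?_⟩
    have hle : A ⊔ D ≤ centralizer {w} := sup_le
      (fun u hu => mem_centralizer_singleton_iff.2 (comm_eq hA.comm hu hw.2))
      (fun u hu => mem_centralizer_singleton_iff.2 (c.D_comm_W hu hw.1))
    exact mem_centralizer_singleton_iff.1 (hle (hAD'.ge hx))
  have hUWi : U ⊓ W = zen S := by
    rw [← hWA, inf_assoc, inf_eq_right.2 c.W_le, inf_comm]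
  have hZW : (zen S).relIndex W = p ^ n := by
    have h1 := PushingUp.card_sup_mul_card_inf_of_commute
      ((inf_le_right : U ≤ D).trans (le_centralizer_iff.1 le_rfl) : U ≤ centralizer (W : Set G))
    have h2 : Nat.card W = Nat.card (zen S) * (zen S).relIndex W := by
      rw [← relIndex_bot_left, ← relIndex_mul_relIndex ⊥ (zen S) W bot_le c.zen_le_W,
        relIndex_bot_left]
    rw [hUW, hUWi, ecard, hq2, h2] at h1
    refine (Nat.eq_of_mul_eq_mul_left (Nat.mul_pos (Nat.card_pos : 0 < Nat.card U)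
      (Nat.card_pos : 0 < Nat.card (zen S))) ?_).symm
    rw [mul_right_comm, h1]; ring
  have hdec : ∀ w ∈ W, ∃ v z : G, v ∈ V ∧ z ∈ zen S ∧ w = v * z := by
    intro w hw
    have h := hWUV hw
    rw [← SetLike.mem_coe, coe_mul_of_left_le_normalizer_right _ _
      (hUV.trans (centralizer_le_normalizer _))] at h
    obtain ⟨u, hu, v, hv, rfl⟩ := Set.mem_mul.1 h
    refine ⟨v, u, hv, hWA.le ⟨?_, hu.1⟩, (c.D_comm_W hu.2 (hVW hv))⟩
    simpa using W.mul_mem hw (W.inv_mem (hVW hv))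
  refine ⟨hq1, hAD', hWA, hUW.symm ▸ hUVlag, hZW, fun w hw => ?_, fun s hs hsD w hw hsw => ?_⟩
  · obtain ⟨v, z, hv, hz, rfl⟩ := hdec w hw
    exact ⟨v, z, hVp v hv, hz, rfl⟩
  · obtain ⟨v, z, hv, hz, rfl⟩ := hdec w hw
    refine mul_mem ?_ hz
    have hsv : s * v = v * s := by
      have hzs : s * z = z * s := mem_centralizer_iff.1 hz.2 s hs
      have : s * v * z = v * s * z := by
        rw [mul_assoc, hsw, mul_assoc, ← hzs, ← mul_assoc]
      exact mul_right_cancel this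
    have hsub : V ⊓ A ≤ V ⊓ centralizer {s} := fun x hx => ⟨hx.1, mem_centralizer_singleton_iff.2
      (mem_centralizer_iff.1 (hWA.le ⟨hVW hx.1, hx.2⟩).2 s hs).symm⟩
    have heq : V ⊓ A = V ⊓ centralizer {s} := by
      refine le_antisymm hsub (relIndex_eq_one.1 ?_)
      have h1 := relIndex_mul_relIndex (V ⊓ A) (V ⊓ centralizer {s}) V hsub inf_le_left
      rw [inf_relIndex_left V A, hq2] at h1
      have h2 := hbound s hs hsD
      have h3 : (V ⊓ A).relIndex (V ⊓ centralizer {s}) * (V ⊓ centralizer {s}).relIndex V ≤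
          1 * (V ⊓ centralizer {s}).relIndex V := by rw [h1, one_mul]; exact h2
      have h4 := Nat.le_of_mul_le_mul_right h3 (Nat.lt_of_lt_of_le (pow_pos hp.out.pos n) h2)
      have h5 : (V ⊓ A).relIndex (V ⊓ centralizer {s}) ≠ 0 := index_ne_zero_of_finite
      omega
    have hv' := heq.ge ⟨hv, mem_centralizer_singleton_iff.2 hsv.symm⟩
    exact hWA.le ⟨hVW hv, hv'.2⟩

theorem relIndex_lag (hA : IsLag S A) (hAD : ¬ A ≤ Cfsg.pCore p G) :
    (Cfsg.pCore p G).relIndex A = p ^ n := (c.lag_basic hA hAD).1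

theorem sup_D (hA : IsLag S A) (hAD : ¬ A ≤ Cfsg.pCore p G) : A ⊔ Cfsg.pCore p G = S :=
  (c.lag_basic hA hAD).2.1

theorem W_inf (hA : IsLag S A) (hAD : ¬ A ≤ Cfsg.pCore p G) :
    centralizer (Cfsg.pCore p G : Set G) ⊓ A = zen S := (c.lag_basic hA hAD).2.2.1

theorem lagUW (hA : IsLag S A) (hAD : ¬ A ≤ Cfsg.pCore p G) :
    IsLag S ((A ⊓ Cfsg.pCore p G) ⊔ centralizer (Cfsg.pCore p G : Set G)) :=
  (c.lag_basic hA hAD).2.2.2.1

theorem index_zen (hA : IsLag S A) (hAD : ¬ A ≤ Cfsg.pCore p G) :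
    (zen S).relIndex (centralizer (Cfsg.pCore p G : Set G)) = p ^ n :=
  (c.lag_basic hA hAD).2.2.2.2.1

theorem W_dec (hA : IsLag S A) (hAD : ¬ A ≤ Cfsg.pCore p G) {w : G}
    (hw : w ∈ centralizer (Cfsg.pCore p G : Set G)) :
    ∃ v z : G, v ^ p = 1 ∧ z ∈ zen S ∧ w = v * z :=
  (c.lag_basic hA hAD).2.2.2.2.2.1 w hw

theorem fix_W (hA : IsLag S A) (hAD : ¬ A ≤ Cfsg.pCore p G) {s w : G} (hs : s ∈ S)
    (hsD : s ∉ Cfsg.pCore p G) (hw : w ∈ centralizer (Cfsg.pCore p G : Set G))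
    (hsw : s * w = w * s) : w ∈ zen S :=
  (c.lag_basic hA hAD).2.2.2.2.2.2 s hs hsD w hw hsw

/-- Every element of `S` is an element of `A` times one of `O_p(G)`. -/
theorem exists_mul (hA : IsLag S A) (hAD : ¬ A ≤ Cfsg.pCore p G) {s : G} (hs : s ∈ S) :
    ∃ a ∈ A, ∃ d ∈ Cfsg.pCore p G, a * d = s :=
  mem_sup_of_normal_right.1 ((c.sup_D hA hAD).ge hs)

/-- `[W, S] ≤ Z(S)`. -/
theorem comm_W_mem (hA : IsLag S A) (hAD : ¬ A ≤ Cfsg.pCore p G) {s w : G} (hs : s ∈ S)
    (hw : w ∈ centralizer (Cfsg.pCore p G : Set G)) : ⁅w, s⁆ ∈ zen S := by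
  classical
  set D := Cfsg.pCore p G
  set W := centralizer (D : Set G)
  haveI : W.Normal := inferInstance
  have hcw : ∀ x ∈ W, ∀ t : G, ⁅x, t⁆ ∈ W := fun x hx t => by
    rw [show ⁅x, t⁆ = x * (t * x⁻¹ * t⁻¹) by rw [commutatorElement_def]; group]
    exact W.mul_mem hx ((inferInstance : W.Normal).conj_mem _ (W.inv_mem hx) t)
  have hmul : ∀ x ∈ W, ∀ y ∈ W, ∀ t : G, ⁅x * y, t⁆ = ⁅x, t⁆ * ⁅y, t⁆ := by
    intro x hx y hy t
    have h1 : x * ⁅y, t⁆ * x⁻¹ = ⁅y, t⁆ := by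
      rw [c.W_comm hx (hcw y hy t), mul_inv_cancel_right]
    calc ⁅x * y, t⁆ = x * ⁅y, t⁆ * x⁻¹ * ⁅x, t⁆ := by simp [commutatorElement_def, mul_assoc]
      _ = ⁅y, t⁆ * ⁅x, t⁆ := by rw [h1]
      _ = _ := c.W_comm (hcw y hy t) (hcw x hx t)
  let W1 : Subgroup G :=
    { carrier := {x | x ∈ W ∧ ∀ t ∈ S, ⁅x, t⁆ ∈ zen S}
      one_mem' := ⟨W.one_mem, fun t _ => by simp⟩
      mul_mem' := fun {x y} hx hy => ⟨W.mul_mem hx.1 hy.1, fun t ht => by
        rw [hmul x hx.1 y hy.1 t]; exact mul_mem (hx.2 t ht) (hy.2 t ht)⟩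
      inv_mem' := fun {x} hx => ⟨W.inv_mem hx.1, fun t ht => by
        have h := hmul x hx.1 x⁻¹ (W.inv_mem hx.1) t
        rw [mul_inv_cancel, commutatorElement_one_left] at h
        rw [eq_inv_of_mul_eq_one_right h.symm]
        exact inv_mem (hx.2 t ht)⟩ }
  by_contra hcon
  have hW1 : ¬ W ≤ W1 := fun h => hcon ((h hw).2 s hs)
  obtain ⟨v, hv, hv1, hvs⟩ := exists_fixed_mod c.setup.isPGroup le_rfl (K := W) (H := W1)
    (c.W_le.trans c.setup.le_S) hW1 fun k hk t _ => hcw k hk t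
  have hZ1 : zen S ≤ W1 := fun z hz => ⟨c.zen_le_W hz, fun t ht => by
    rw [commutatorElement_eq_one_iff_mul_comm.2 (mem_centralizer_iff.1 hz.2 t ht).symm]
    exact one_mem _⟩
  set T := D.subgroupOf A
  let f : A ⧸ T → W1 ⧸ (zen S).subgroupOf W1 := fun x =>
    QuotientGroup.mk (⟨⁅v, (x.out : G)⁆, hvs _ (hA.le x.out.2)⟩ : W1)
  have hlt : Nat.card (W1 ⧸ (zen S).subgroupOf W1) < Nat.card (A ⧸ T) := by
    show (zen S).relIndex W1 < D.relIndex A
    rw [c.relIndex_lag hA hAD, ← c.index_zen hA hAD,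
      ← relIndex_mul_relIndex (zen S) W1 W hZ1 (fun x hx => hx.1)]
    refine lt_mul_of_one_lt_right (Nat.pos_of_ne_zero index_ne_zero_of_finite) ?_
    have h0 : W1.relIndex W ≠ 0 := index_ne_zero_of_finite
    have h1 : W1.relIndex W ≠ 1 := fun h => hW1 (relIndex_eq_one.1 h)
    omega
  obtain ⟨x, y, hxy, hne⟩ : ∃ x y, f x = f y ∧ x ≠ y := by
    by_contra h
    push Not at h
    exact absurd (Nat.card_le_card_of_injective f fun x y e => h x y e) (Nat.not_le.2 hlt)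
  set a := (x.out : G)
  set b := (y.out : G)
  set a₀ := a⁻¹ * b
  have ha₀A : a₀ ∈ A := A.mul_mem (A.inv_mem x.out.2) y.out.2
  have ha₀D : a₀ ∉ D := fun h => hne (by
    rw [← QuotientGroup.out_eq' x, ← QuotientGroup.out_eq' y]
    exact QuotientGroup.eq.2 h)
  have hfz : ⁅v, a⁆⁻¹ * ⁅v, b⁆ ∈ zen S := mem_subgroupOf.1 (QuotientGroup.eq.1 hxy)
  have hz0 : ⁅v, a₀⁆ ∈ zen S := by
    have e : ⁅v, a⁆⁻¹ * ⁅v, b⁆ = a * ⁅v, a₀⁆ * a⁻¹ := by
      simp [a₀, commutatorElement_def, mul_assoc]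
    rw [e] at hfz
    have h2 := mem_centralizer_iff.1 hfz.2 a (hA.le x.out.2)
    have e2 : a * ⁅v, a₀⁆ * a⁻¹ = ⁅v, a₀⁆ := by
      calc a * ⁅v, a₀⁆ * a⁻¹ = a⁻¹ * (a * (a * ⁅v, a₀⁆ * a⁻¹)) * 1 := by group
        _ = a⁻¹ * (a * ⁅v, a₀⁆ * a⁻¹ * a) * 1 := by rw [h2]
        _ = _ := by group
    rwa [e2] at hfz
  -- every `⁅t, v⁆` with `t ∈ A` is fixed by `a₀`, hence central in `S`
  have key : ∀ t ∈ A, t * v * t⁻¹ * v⁻¹ ∈ zen S := by
    intro t ht
    set z := ⁅v, a₀⁆ with hz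
    have hzW := c.zen_le_W hz0
    have hav : a₀ * v * a₀⁻¹ = z⁻¹ * v := by
      rw [hz, commutatorElement_def]; group
    have hzt : t * z = z * t := mem_centralizer_iff.1 hz0.2 t (hA.le ht)
    have hta : t * a₀ = a₀ * t := comm_eq hA.comm ht ha₀A
    have hzv : v * z = z * v := c.W_comm hv hzW
    refine c.fix_W hA hAD (hA.le ha₀A) ha₀D (W.mul_mem
      ((inferInstance : W.Normal).conj_mem v hv t) (W.inv_mem hv)) ?_
    have e1 : a₀ * (t * v * t⁻¹ * v⁻¹) * a₀⁻¹ = t * v * t⁻¹ * v⁻¹ := by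
      have hza : (z⁻¹ * v)⁻¹ = v⁻¹ * z := by group
      have htinv : t⁻¹ * a₀⁻¹ = a₀⁻¹ * t⁻¹ := by
        rw [← mul_inv_rev, ← mul_inv_rev, hta]
      have hzt' : t * z⁻¹ = z⁻¹ * t := (show Commute t z from hzt).inv_right.eq
      calc a₀ * (t * v * t⁻¹ * v⁻¹) * a₀⁻¹
          = (a₀ * t) * v * (t⁻¹ * a₀⁻¹) * (a₀ * v⁻¹ * a₀⁻¹) := by group
        _ = (t * a₀) * v * (a₀⁻¹ * t⁻¹) * (a₀ * v * a₀⁻¹)⁻¹ := by rw [hta, htinv]; group
        _ = t * (a₀ * v * a₀⁻¹) * t⁻¹ * (a₀ * v * a₀⁻¹)⁻¹ := by group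
        _ = (t * z⁻¹) * v * t⁻¹ * (v⁻¹ * z) := by rw [hav, hza]; group
        _ = z⁻¹ * (t * v * t⁻¹ * v⁻¹) * z := by rw [hzt']; group
        _ = _ := by
            rw [mul_assoc, c.W_comm (W.mul_mem ((inferInstance : W.Normal).conj_mem v hv t)
              (W.inv_mem hv)) hzW, inv_mul_cancel_left]
    calc a₀ * (t * v * t⁻¹ * v⁻¹) = a₀ * (t * v * t⁻¹ * v⁻¹) * a₀⁻¹ * a₀ := by group
      _ = _ := by rw [e1]
  refine hv1 ⟨hv, fun t ht => ?_⟩
  obtain ⟨a', ha', d, hd, rfl⟩ := c.exists_mul hA hAD ht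
  rw [show ⁅v, a' * d⁆ = (a' * v * a'⁻¹ * v⁻¹)⁻¹ * (a' * (v * d * v⁻¹ * d⁻¹) * a'⁻¹) by
    simp [commutatorElement_def, mul_assoc], ← c.D_comm_W hd hv]
  simpa using inv_mem (key a' ha')

/-- A normal subgroup containing `S` is everything. -/
theorem eq_top_of_normal {N : Subgroup G} [hN : N.Normal] (hSN : S ≤ N) : N = ⊤ := by
  haveI : (N.map ψ).Normal := hN.map ψ c.setup.surj
  have hle : upperP F ≤ N.map ψ := c.setup.image ▸ map_mono hSN
  refine c.setup.full N hSN ?_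
  by_contra hne
  have hbot := normal_eq_bot (N.map ψ) (by rwa [sup_eq_left.2 hle])
  have h1 : Nat.card (upperP F) ≤ 1 := by
    rw [hbot, le_bot_iff] at hle
    rw [hle, card_bot]
  rw [PushingUp.card_range_unipHom c.setup.card] at h1
  exact absurd c.setup.one_lt (Nat.not_lt.2 h1)

theorem normal_le_center {N : Subgroup G} [N.Normal] (hN : N ≤ zen S) : N ≤ center G := by
  have h : centralizer (N : Set G) = ⊤ := c.eq_top_of_normal
    (le_centralizer_iff.1 (hN.trans inf_le_right))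
  exact fun x hx => mem_center_iff.2 fun g =>
    (mem_centralizer_iff.1 (h.symm ▸ mem_top g : g ∈ centralizer (N : Set G)) x hx).symm

/-- Fixed points of an element outside `O_p(G)` modulo the centre. -/
theorem fix_W_mod (hA : IsLag S A) (hAD : ¬ A ≤ Cfsg.pCore p G) {a w : G} (ha : a ∈ S)
    (haD : a ∉ Cfsg.pCore p G) (hw : w ∈ centralizer (Cfsg.pCore p G : Set G))
    (haw : ⁅a, w⁆ ∈ center G) : w ∈ zen S := by
  set D := Cfsg.pCore p G
  set W := centralizer (D : Set G)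
  set π := QuotientGroup.mk' (center G)
  haveI hWn : (W.map π).Normal :=
    (inferInstance : W.Normal).map π (QuotientGroup.mk'_surjective _)
  have hCk : center G ≤ ψ.ker := fun x hx => c.setup.le_ker (c.zen_le_D (c.center_le_zen hx))
  let ψ' : G ⧸ center G →* PSLtwo F := QuotientGroup.lift (center G) ψ hCk
  set N := (centralizer (W.map π : Set (G ⧸ center G))).comap π
  haveI : N.Normal := (inferInstance : (centralizer (W.map π : Set (G ⧸ center G))).Normal).comap π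
  have hNk : N ≤ ψ.ker := by
    haveI : (N.map ψ).Normal := (inferInstance : N.Normal).map ψ c.setup.surj
    refine (Subgroup.map_eq_bot_iff _).1 (normal_eq_bot _ fun h => c.nz ⟨fun z hz g => ?_⟩)
    have htop : N ⊔ S = ⊤ := c.setup.full _ le_sup_right (by rw [Subgroup.map_sup, c.setup.image, h])
    obtain ⟨k, hk, t, ht, rfl⟩ := mem_sup_of_normal_left.1 (htop.symm ▸ mem_top g : g ∈ N ⊔ S)
    have ezt : t * z * t⁻¹ = z := by rw [mem_centralizer_iff.1 hz.2 t ht, mul_inv_cancel_right]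
    rw [show k * t * z * (k * t)⁻¹ = k * (t * z * t⁻¹) * k⁻¹ by group, ezt]
    have hkz : π (k * z * k⁻¹) = π z := by
      rw [map_mul, map_mul, map_inv, ← mem_centralizer_iff.1 hk (π z)
        (mem_map_of_mem π (c.zen_le_W hz)), mul_inv_cancel_right]
    have := mul_mem hz (c.center_le_zen (QuotientGroup.eq.1 hkz.symm))
    rwa [mul_inv_cancel_left] at this
  have hWp : IsPGroup p (W.map π) :=
    ((PSolvable.pCore_isPGroup).to_le c.W_le).map π
  obtain ⟨j, hj⟩ := c.setup.isPGroup.exists_card_eq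
  have hapow : a ^ p ^ j = 1 := by
    have h1 : (⟨a, ha⟩ : S) ^ p ^ j = 1 := by rw [← hj]; exact pow_card_eq_one'
    simpa using congrArg Subtype.val h1
  have hlow := PushingUp.card_le_relIndex_centralizer c.setup.card (H := ⊤) hWp
    (by rw [normalizer_eq_top_iff.2 hWn]) (ψ'.comp (⊤ : Subgroup (G ⧸ center G)).subtype)
    (fun x => by
      obtain ⟨g, hg⟩ := c.setup.surj x
      exact ⟨⟨π g, mem_top _⟩, hg⟩)
    (fun h hh => by
      obtain ⟨g, hg⟩ := QuotientGroup.mk'_surjective (center G) (h : G ⧸ center G)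
      show ψ' h = 1
      rw [← hg] at hh ⊢
      exact hNk (show g ∈ N from hh))
    (a := ⟨π a, mem_top _⟩) (c.setup.apply_ne_one ha haD)
    ⟨j, Subtype.ext (by simp [← map_pow, hapow])⟩
  rw [← relIndex_comap] at hlow
  set K := (W.map π ⊓ centralizer {π a}).comap π
  have hZK : zen S ≤ K ⊓ W := fun z hz => ⟨⟨mem_map_of_mem π (c.zen_le_W hz),
    mem_centralizer_singleton_iff.2 (by
      rw [← map_mul, ← map_mul, mem_centralizer_iff.1 hz.2 a ha])⟩, c.zen_le_W hz⟩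
  have h1 := relIndex_mul_relIndex (zen S) (K ⊓ W) W hZK inf_le_right
  rw [inf_relIndex_right, c.index_zen hA hAD] at h1
  have h2 : (zen S).relIndex (K ⊓ W) = 1 := by
    have h3 : (zen S).relIndex (K ⊓ W) * K.relIndex W ≤ 1 * K.relIndex W := by
      rw [h1, one_mul]; exact hlow
    have h4 := Nat.le_of_mul_le_mul_right h3 (Nat.lt_of_lt_of_le (pow_pos hp.out.pos n) hlow)
    have h5 : (zen S).relIndex (K ⊓ W) ≠ 0 := index_ne_zero_of_finite
    omega
  refine relIndex_eq_one.1 h2 ⟨⟨mem_map_of_mem π hw, mem_centralizer_singleton_iff.2 ?_⟩, hw⟩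
  have h6 : π ⁅a, w⁆ = 1 := (QuotientGroup.eq_one_iff _).2 haw
  rw [map_commutatorElement, commutatorElement_eq_one_iff_mul_comm] at h6
  exact h6.symm

end Ctx

end Cfsg.Agent.Lib.GNiles
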