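import Mathlib
import Cfsg.Agent.Lib.GNiles.Basic
/-!
Opposite conjugates of `S`, and `W = Z(S) Z(S)^g`.
-/

set_option autoImplicit false
set_option linter.unusedSectionVars false
set_option linter.unusedSimpArgs false

namespace Cfsg.Agent.Lib.GNiles

open Subgroup
open Cfsg.Agent.Lib
open Cfsg.Agent.Lib.SL2 (SLtwo PSLtwo proj upper lower)
open Cfsg.Agent.Lib.RankOnePush (upperP mem_upperP)
open scoped commutatorElement

variable {G : Type*} [Group G] [Finite G] {p : ℕ} [hp : Fact p.Prime]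
  {F : Type} [Field F] [Fintype F] {n : ℕ}

/-- Conjugation by `g`, as an endomorphism. -/
abbrev cj (g : G) : G →* G := (MulAut.conj g).toMonoidHom

theorem cj_apply (g x : G) : cj g x = g * x * g⁻¹ := rfl

theorem mem_map_cj {H : Subgroup G} {g x : G} : x ∈ H.map (cj g) ↔ g⁻¹ * x * g ∈ H := by
  constructor
  · rintro ⟨y, hy, rfl⟩
    simpa [cj_apply, mul_assoc] using hy
  · intro h
    exact ⟨g⁻¹ * x * g, h, by simp [cj_apply, mul_assoc]⟩

theorem card_map_cj (H : Subgroup G) (g : G) : Nat.card (H.map (cj g)) = Nat.card H :=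
  card_map_of_injective (K := H) (f := cj g) (MulAut.conj g).injective

theorem map_cj_normal (N : Subgroup G) [hN : N.Normal] (g : G) : N.map (cj g) = N := by
  ext x
  rw [mem_map_cj]
  constructor
  · intro h
    simpa [mul_assoc] using hN.conj_mem _ h g
  · intro h
    simpa [mul_assoc] using hN.conj_mem _ h g⁻¹

/-- `g` moves the upper unipotent group to another one. -/
def Opp (ψ : G →* PSLtwo F) (g : G) : Prop := ∀ M : SLtwo F, proj M = ψ g → M 1 0 ≠ 0

variable {S A : Subgroup G} {ψ : G →* PSLtwo F}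

theorem opp_of_lift {g : G} {M : SLtwo F} (hM : proj M = ψ g) (h : M 1 0 ≠ 0) : Opp ψ g := by
  intro N hN
  rcases SL2.proj_eq_proj_iff.1 (hN.trans hM.symm) with e | e <;> intro h0 <;> refine h ?_ <;>
    simp [e, h0]

theorem Opp.inv {g : G} (h : Opp ψ g) : Opp ψ g⁻¹ := by
  obtain ⟨M, hM⟩ := SL2.proj_surjective (ψ g)
  refine opp_of_lift (M := M⁻¹) (by rw [map_inv, map_inv, hM]) ?_
  rw [SL2.inv_10]
  exact neg_ne_zero.2 (h M hM)

namespace Ctx

variable (c : Ctx p S n ψ)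

include c

theorem exists_t {s : G} (hs : s ∈ S) (hsD : s ∉ Cfsg.pCore p G) :
    ∃ t : F, t ≠ 0 ∧ ψ s = proj (upper t) := by
  obtain ⟨t, ht⟩ := c.setup.exists_upper hs
  refine ⟨t, fun h => c.setup.apply_ne_one hs hsD ?_, ht⟩
  rw [ht, h, SL2.upper_zero, map_one]

theorem opp_mul_right {g s : G} (h : Opp ψ g) (hs : s ∈ S) : Opp ψ (g * s) := by
  obtain ⟨M, hM⟩ := SL2.proj_surjective (ψ g)
  obtain ⟨t, ht⟩ := c.setup.exists_upper hs
  refine opp_of_lift (M := M * upper t) (by rw [map_mul, map_mul, hM, ht]) ?_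
  simpa [SL2.mul_10] using h M hM

theorem opp_mul_left {g s : G} (h : Opp ψ g) (hs : s ∈ S) : Opp ψ (s * g) := by
  obtain ⟨M, hM⟩ := SL2.proj_surjective (ψ g)
  obtain ⟨t, ht⟩ := c.setup.exists_upper hs
  refine opp_of_lift (M := upper t * M) (by rw [map_mul, map_mul, hM, ht]) ?_
  simpa [SL2.mul_10] using h M hM

/-- An element of the opposite conjugate outside `O_p(G)` is opposite. -/
theorem opp_conj {g a : G} (h : Opp ψ g) (ha : a ∈ S) (haD : a ∉ Cfsg.pCore p G) :
    Opp ψ (g * a * g⁻¹) := by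
  obtain ⟨M, hM⟩ := SL2.proj_surjective (ψ g)
  obtain ⟨t, ht0, ht⟩ := c.exists_t ha haD
  refine opp_of_lift (M := M * upper t * M⁻¹) (by simp only [map_mul, map_inv, hM, ht]) ?_
  have e : (M * upper t * M⁻¹) 1 0 = -(t * M 1 0 * M 1 0) := by
    simp [SL2.mul_10, SL2.mul_11, SL2.inv_00, SL2.inv_10]
    ring
  rw [e, neg_ne_zero]
  exact mul_ne_zero (mul_ne_zero ht0 (h M hM)) (h M hM)

theorem opp_not_mem {g : G} (h : Opp ψ g) : g ∉ S := fun hg => by
  obtain ⟨t, ht⟩ := c.setup.exists_upper hg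
  exact h (upper t) ht.symm rfl

theorem sup_conj {g : G} (h : Opp ψ g) : S ⊔ S.map (cj g) = ⊤ := by
  refine c.setup.sup_conj_eq_top fun hle => ?_
  obtain ⟨M, hM⟩ := SL2.proj_surjective (ψ g)
  obtain ⟨s, hs, hsψ⟩ := c.setup.exists_mem 1
  have h1 := hle ⟨_, mem_map_of_mem _ hs, rfl⟩
  simp only [MulEquiv.coe_toMonoidHom, MulAut.conj_apply, map_mul, map_inv, ← hM, hsψ] at h1
  rw [← map_inv, ← map_mul, ← map_mul] at h1
  obtain ⟨u, hu⟩ := mem_upperP.1 h1
  have e10 : (M * upper 1 * M⁻¹ : SLtwo F) 1 0 = 0 := by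
    rcases SL2.proj_eq_proj_iff.1 hu with e | e <;> simp [e]
  simp [SL2.mul_10, SL2.mul_11, SL2.inv_00, SL2.inv_10] at e10
  exact h M hM (mul_self_eq_zero.1 (by linear_combination (-1 : F) * e10))

theorem conj_not_mem (g : G) {a : G} (haD : a ∉ Cfsg.pCore p G) :
    g * a * g⁻¹ ∉ Cfsg.pCore p G := fun h => haD (by
  simpa [mul_assoc] using (inferInstance : (Cfsg.pCore p G).Normal).conj_mem _ h g⁻¹)

theorem zen_map_le_W (g : G) : (zen S).map (cj g) ≤ centralizer (Cfsg.pCore p G : Set G) :=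
  (map_mono c.zen_le_W).trans (map_cj_normal _ g).le

theorem center_le_map (g : G) : center G ≤ (zen S).map (cj g) := fun x hx => by
  rw [mem_map_cj, mem_center_iff.1 hx g⁻¹, inv_mul_cancel_right]
  exact c.center_le_zen hx

theorem inf_zen_conj {g : G} (h : Opp ψ g) : zen S ⊓ (zen S).map (cj g) = center G := by
  refine le_antisymm (fun x hx => mem_center_iff.2 fun y => ?_)
    (le_inf c.center_le_zen (c.center_le_map g))
  have hle : S ⊔ S.map (cj g) ≤ centralizer {x} := by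
    refine sup_le (fun s hs => mem_centralizer_singleton_iff.2
      (mem_centralizer_iff.1 hx.1.2 s hs)) ?_
    rintro _ ⟨s, hs, rfl⟩
    obtain ⟨z, hz, rfl⟩ := hx.2
    rw [mem_centralizer_singleton_iff, ← map_mul, ← map_mul, mem_centralizer_iff.1 hz.2 s hs]
  exact mem_centralizer_singleton_iff.1 (hle ((c.sup_conj h).symm ▸ mem_top y))

/-- Fixed points modulo the centre of an element of a conjugate of `S`. -/
theorem fix_W_mod_conj (hA : IsLag S A) (hAD : ¬ A ≤ Cfsg.pCore p G) (g : G) {a w : G} (ha : a ∈ S)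
    (haD : a ∉ Cfsg.pCore p G) (hw : w ∈ centralizer (Cfsg.pCore p G : Set G))
    (haw : ⁅g * a * g⁻¹, w⁆ ∈ center G) : w ∈ (zen S).map (cj g) := by
  rw [mem_map_cj]
  refine c.fix_W_mod hA hAD ha haD (by
    simpa using (inferInstance : (centralizer (Cfsg.pCore p G : Set G)).Normal).conj_mem _ hw g⁻¹) ?_
  have := (inferInstance : (center G).Normal).conj_mem _ haw g⁻¹
  simpa [commutatorElement_def, mul_assoc] using this

/-- Commutation with a fixed `w ∈ W` outside `Z(S)` separates the cosets of `O_p(G)` in `A`. -/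
theorem comm_injective (hA : IsLag S A) (hAD : ¬ A ≤ Cfsg.pCore p G) {w : G}
    (hw : w ∈ centralizer (Cfsg.pCore p G : Set G)) (hwZ : w ∉ zen S) {a b : G} (ha : a ∈ A)
    (hb : b ∈ A) (h : ⁅a, w⁆⁻¹ * ⁅b, w⁆ ∈ center G) : a⁻¹ * b ∈ Cfsg.pCore p G := by
  by_contra hD
  refine hwZ (c.fix_W_mod hA hAD (mul_mem (inv_mem (hA.le ha)) (hA.le hb)) hD hw ?_)
  have e : ⁅a, w⁆⁻¹ * ⁅b, w⁆ = w * a * w⁻¹ * ⁅a⁻¹ * b, w⁆ * (w * a * w⁻¹)⁻¹ := by
    simp [commutatorElement_def, mul_assoc]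
  rw [e] at h
  have := (inferInstance : (center G).Normal).conj_mem _ h (w * a * w⁻¹)⁻¹
  simpa [mul_assoc] using this

theorem comm_mem_zen (hA : IsLag S A) (hAD : ¬ A ≤ Cfsg.pCore p G) {s w : G} (hs : s ∈ S)
    (hw : w ∈ centralizer (Cfsg.pCore p G : Set G)) : ⁅s, w⁆ ∈ zen S := by
  rw [← commutatorElement_inv w s]
  exact inv_mem (c.comm_W_mem hA hAD hs hw)

/-- A normal subgroup between the centre and `W`: the part in `Z(S)` is large. -/
theorem relIndex_center_inf (hA : IsLag S A) (hAD : ¬ A ≤ Cfsg.pCore p G) {N : Subgroup G}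
    [hN : N.Normal] (hNW : N ≤ centralizer (Cfsg.pCore p G : Set G)) (hNZ : ¬ N ≤ zen S) :
    p ^ n ≤ (center G).relIndex (N ⊓ zen S) := by
  obtain ⟨w, hw, hwZ⟩ := SetLike.not_le_iff_exists.1 hNZ
  set T := (Cfsg.pCore p G).subgroupOf A
  have hmem : ∀ a : A, ⁅(a : G), w⁆ ∈ N ⊓ zen S := fun a => ⟨by
    rw [commutatorElement_def]
    exact N.mul_mem (hN.conj_mem w hw a) (N.inv_mem hw), c.comm_mem_zen hA hAD (hA.le a.2) (hNW hw)⟩
  let f : A ⧸ T → (N ⊓ zen S : Subgroup G) ⧸ (center G).subgroupOf (N ⊓ zen S) := fun x =>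
    QuotientGroup.mk ⟨_, hmem x.out⟩
  rw [← c.relIndex_lag hA hAD]
  refine Nat.card_le_card_of_injective f fun x y e => ?_
  rw [← QuotientGroup.out_eq' x, ← QuotientGroup.out_eq' y]
  exact QuotientGroup.eq.2
    (c.comm_injective hA hAD (hNW hw) hwZ x.out.2 y.out.2 (mem_subgroupOf.1 (QuotientGroup.eq.1 e)))

theorem sup_zen_conj (hA : IsLag S A) (hAD : ¬ A ≤ Cfsg.pCore p G) {g : G} (h : Opp ψ g) :
    zen S ⊔ (zen S).map (cj g) = centralizer (Cfsg.pCore p G : Set G) ∧
      (center G).relIndex (zen S) = p ^ n := by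
  set W := centralizer (Cfsg.pCore p G : Set G)
  set Z' := (zen S).map (cj g)
  have hWZ : ¬ W ≤ zen S := fun hle => by
    have := c.index_zen hA hAD
    rw [relIndex_eq_one.2 hle] at this
    exact c.setup.one_lt.ne this
  have hlow : p ^ n ≤ (center G).relIndex (zen S) := by
    refine (c.relIndex_center_inf hA hAD (N := W) le_rfl hWZ).trans (le_of_eq ?_)
    rw [inf_eq_right.2 c.zen_le_W]
  have hcZ : Nat.card (zen S) = Nat.card (center G) * (center G).relIndex (zen S) := by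
    rw [← relIndex_bot_left, ← relIndex_mul_relIndex ⊥ (center G) (zen S) bot_le c.center_le_zen,
      relIndex_bot_left]
  have hcW : Nat.card W = Nat.card (zen S) * p ^ n := by
    rw [← relIndex_bot_left, ← relIndex_mul_relIndex ⊥ (zen S) W bot_le c.zen_le_W,
      relIndex_bot_left, c.index_zen hA hAD]
  have hle : zen S ⊔ Z' ≤ W := sup_le c.zen_le_W (c.zen_map_le_W g)
  have hprod := CD.card_mul_card_le (zen S) Z'
  rw [c.inf_zen_conj h, card_map_cj] at hprod
  have hupper : Nat.card (zen S ⊔ Z' : Subgroup G) ≤ Nat.card W := card_le_of_le hle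
  have h1 : (center G).relIndex (zen S) ≤ p ^ n := by
    refine Nat.le_of_mul_le_mul_left ?_ (Nat.mul_pos (Nat.card_pos : 0 < Nat.card (zen S))
      (Nat.card_pos : 0 < Nat.card (center G)))
    calc _ = Nat.card (zen S) * Nat.card (zen S) := by rw [hcZ]; ring
      _ ≤ Nat.card (zen S ⊔ Z' : Subgroup G) * Nat.card (center G) := hprod
      _ ≤ Nat.card W * Nat.card (center G) := Nat.mul_le_mul_right _ hupper
      _ = _ := by rw [hcW]; ring
  refine ⟨eq_of_le_of_card_ge hle ?_, le_antisymm h1 hlow⟩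
  refine Nat.le_of_mul_le_mul_right ?_ (Nat.card_pos : 0 < Nat.card (center G))
  refine le_trans (le_of_eq ?_) hprod
  rw [hcW]
  conv_rhs => arg 2; rw [hcZ, le_antisymm h1 hlow]
  ring

theorem W_mul (hA : IsLag S A) (hAD : ¬ A ≤ Cfsg.pCore p G) {g : G} (h : Opp ψ g) {w : G}
    (hw : w ∈ centralizer (Cfsg.pCore p G : Set G)) :
    ∃ z ∈ zen S, ∃ z' ∈ (zen S).map (cj g), w = z * z' := by
  rw [← (c.sup_zen_conj hA hAD h).1, ← SetLike.mem_coe,
    coe_mul_of_left_le_normalizer_right _ _ ((c.zen_le_W.trans (fun x hx =>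
      mem_centralizer_iff.2 fun y hy =>
        c.W_comm (c.zen_map_le_W g hy) hx)).trans (centralizer_le_normalizer _))] at hw
  obtain ⟨z, hz, z', hz', e⟩ := Set.mem_mul.1 hw
  exact ⟨z, hz, z', hz', e.symm⟩

/-- A normal subgroup between the centre and `W` is one of them. -/
theorem normal_dichotomy (hA : IsLag S A) (hAD : ¬ A ≤ Cfsg.pCore p G) {g : G} (h : Opp ψ g)
    {N : Subgroup G} [N.Normal] (hCN : center G ≤ N)
    (hNW : N ≤ centralizer (Cfsg.pCore p G : Set G)) :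
    N = center G ∨ N = centralizer (Cfsg.pCore p G : Set G) := by
  by_cases hNZ : N ≤ zen S
  · exact Or.inl (le_antisymm (c.normal_le_center hNZ) hCN)
  right
  obtain ⟨hsup, hidx⟩ := c.sup_zen_conj hA hAD h
  have h1 := c.relIndex_center_inf hA hAD hNW hNZ
  have h2 := relIndex_mul_relIndex (center G) (N ⊓ zen S) (zen S) (le_inf hCN c.center_le_zen)
    inf_le_right
  rw [hidx] at h2
  have h3 : (N ⊓ zen S).relIndex (zen S) = 1 := by
    have h4 : (center G).relIndex (N ⊓ zen S) * (N ⊓ zen S).relIndex (zen S) ≤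
        (center G).relIndex (N ⊓ zen S) * 1 := by rw [h2, mul_one]; exact h1
    have h5 := Nat.le_of_mul_le_mul_left h4 (Nat.lt_of_lt_of_le (pow_pos hp.out.pos n) h1)
    have h6 : (N ⊓ zen S).relIndex (zen S) ≠ 0 := index_ne_zero_of_finite
    omega
  have hZN : zen S ≤ N := (relIndex_eq_one.1 h3).trans inf_le_left
  refine le_antisymm hNW (hsup ▸ sup_le hZN ?_)
  exact (map_mono hZN).trans (map_cj_normal N g).le

end Ctx

end Cfsg.Agent.Lib.GNiles
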