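import Mathlib
import Cfsg.Agent.Lib.GNiles.Opp
import Cfsg.Agent.Lib.Coprime.ThreeSubgroup
/-!
The subgroup generated by the elements of order prime to `p`, `[O_p(G), O^p(G)]` and
`C(O^p(G)) ∩ O_p(G)`.
-/

set_option autoImplicit false
set_option linter.unusedSectionVars false

namespace Cfsg.Agent.Lib.GNiles

open Subgroup
open Cfsg.Agent.Lib
open Cfsg.Agent.Lib.SL2 (SLtwo PSLtwo proj upper lower weyl)
open scoped commutatorElement

variable {G : Type*} [Group G] [Finite G] {p : ℕ} [hp : Fact p.Prime]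
  {F : Type} [Field F] [Fintype F] {n : ℕ}

/-- The subgroup generated by the elements of `L` of order prime to `p`. -/
def pp (p : ℕ) (L : Subgroup G) : Subgroup G :=
  closure {x | x ∈ L ∧ p.Coprime (orderOf x)}

/-- `O^p(G)`. -/
abbrev opG (p : ℕ) (G : Type*) [Group G] [Finite G] : Subgroup G := pp p (⊤ : Subgroup G)

/-- `[O_p(G), O^p(G)]`. -/
abbrev xo (p : ℕ) (G : Type*) [Group G] [Finite G] : Subgroup G := ⁅Cfsg.pCore p G, opG p G⁆

/-- The elements of `O_p(G)` centralising `O^p(G)`. -/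
abbrev c0 (p : ℕ) (G : Type*) [Group G] [Finite G] : Subgroup G :=
  Cfsg.pCore p G ⊓ centralizer (opG p G : Set G)

theorem pp_le (L : Subgroup G) : pp p L ≤ L := (closure_le _).2 fun _ hx => hx.1

theorem pp_mono {L L' : Subgroup G} (h : L ≤ L') : pp p L ≤ pp p L' :=
  closure_mono fun _ hx => ⟨h hx.1, hx.2⟩

theorem mem_pp {L : Subgroup G} {x : G} (hx : x ∈ L) (ho : p.Coprime (orderOf x)) : x ∈ pp p L :=
  subset_closure ⟨hx, ho⟩

omit hp in
theorem conj_pp {L : Subgroup G} {g : G} (hg : g ∈ normalizer (L : Set G)) {x : G}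
    (hx : x ∈ pp p L) : g * x * g⁻¹ ∈ pp p L := by
  suffices h : (pp p L).map (cj g) ≤ pp p L from h (mem_map_of_mem _ hx)
  rw [pp, MonoidHom.map_closure, closure_le]
  rintro _ ⟨y, hy, rfl⟩
  refine subset_closure ⟨(mem_normalizer_iff.1 hg y).1 hy.1, ?_⟩
  show p.Coprime (orderOf ((MulAut.conj g) y))
  rw [MulEquiv.orderOf_eq]
  exact hy.2

omit hp in
instance opG_normal : (opG p G).Normal :=
  ⟨fun x hx g => conj_pp (L := ⊤) (by
    rw [normalizer_eq_top_iff.2 (inferInstance : (⊤ : Subgroup G).Normal)]; exact mem_top g) hx⟩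

omit hp in
instance xo_normal : (xo p G).Normal := inferInstance

omit hp in
instance c0_normal : (c0 p G).Normal := inferInstance

theorem pow_mem_pp {L : Subgroup G} {x : G} (hx : x ∈ L) : ∃ k, x ^ p ^ k ∈ pp p L := by
  refine ⟨(orderOf x).factorization p, mem_pp (L.pow_mem hx _) ?_⟩
  rw [orderOf_pow_of_dvd (pow_ne_zero _ hp.out.ne_zero) (Nat.ordProj_dvd _ p)]
  exact Nat.coprime_ordCompl hp.out (orderOf_pos x).ne'

/-- A normal subgroup containing a `p`-power of every element contains `O^p(G)`. -/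
theorem opG_le {N : Subgroup G} (hN : N.Normal) (h : ∀ g : G, ∃ k, g ^ p ^ k ∈ N) : opG p G ≤ N := by
  haveI := hN
  refine (closure_le _).2 fun x hx => ?_
  obtain ⟨k, hk⟩ := h x
  show x ∈ N
  rw [← QuotientGroup.eq_one_iff]
  have h1 : (x : G ⧸ N) ^ p ^ k = 1 := by
    rw [← QuotientGroup.mk_pow]; exact (QuotientGroup.eq_one_iff _).2 hk
  have h2 : (x : G ⧸ N) ^ orderOf x = 1 := by
    rw [← QuotientGroup.mk_pow, pow_orderOf_eq_one, QuotientGroup.mk_one]
  have h3 : Nat.gcd (p ^ k) (orderOf x) = 1 := (Nat.Coprime.pow_left k hx.2)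
  have h4 := pow_gcd_eq_one.2 ⟨h1, h2⟩
  rwa [h3, pow_one] at h4

theorem exists_pow_mem_sup {N D : Subgroup G} [N.Normal] (hD : IsPGroup p D) {g : G}
    (hg : g ∈ N ⊔ D) : ∃ j, g ^ p ^ j ∈ N := by
  obtain ⟨m, hm, d, hd, rfl⟩ := mem_sup_of_normal_left.1 hg
  obtain ⟨j, hj⟩ := hD ⟨d, hd⟩
  refine ⟨j, ?_⟩
  rw [← QuotientGroup.eq_one_iff, QuotientGroup.mk_pow, QuotientGroup.mk_mul,
    (QuotientGroup.eq_one_iff m).2 hm, one_mul, ← QuotientGroup.mk_pow,
    show d ^ p ^ j = 1 by simpa using congrArg Subtype.val hj, QuotientGroup.mk_one]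

/-- `⁅z, x⁆` commuting with an element `x` of order prime to `p` is trivial if it is a `p`-element. -/
theorem comm_eq_one {P : Subgroup G} (hP : IsPGroup p P) {z x : G} (hx : p.Coprime (orderOf x))
    (hc : ⁅z, x⁆ ∈ P) (hcx : Commute ⁅z, x⁆ x) : ⁅z, x⁆ = 1 := by
  have e : z * x * z⁻¹ = ⁅z, x⁆ * x := by rw [commutatorElement_def]; group
  have h1 : (⁅z, x⁆ * x) ^ orderOf x = 1 := by
    rw [← e, conj_pow, pow_orderOf_eq_one, mul_one, mul_inv_cancel]
  rw [hcx.mul_pow, pow_orderOf_eq_one, mul_one] at h1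
  obtain ⟨j, hj⟩ := hP ⟨_, hc⟩
  have h2 : ⁅z, x⁆ ^ p ^ j = 1 := by simpa using congrArg Subtype.val hj
  have h3 := pow_gcd_eq_one.2 ⟨h2, h1⟩
  rwa [show Nat.gcd (p ^ j) (orderOf x) = 1 from Nat.Coprime.pow_left j hx, pow_one] at h3

/-- An element of `O_p(G)` centralised by `O^p(G)` up to central elements lies in `c0`. -/
theorem mem_c0 {z : G} (hz : z ∈ Cfsg.pCore p G)
    (h : ∀ x : G, p.Coprime (orderOf x) → Commute ⁅z, x⁆ x) : z ∈ c0 p G := by
  refine ⟨hz, mem_centralizer_iff.2 ?_⟩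
  have hle : opG p G ≤ centralizer {z} := (closure_le _).2 fun x hx => by
    have h1 : ⁅z, x⁆ ∈ Cfsg.pCore p G := by
      rw [show ⁅z, x⁆ = z * (x * z⁻¹ * x⁻¹) by rw [commutatorElement_def]; group]
      exact mul_mem hz ((inferInstance : (Cfsg.pCore p G).Normal).conj_mem _ (inv_mem hz) x)
    exact mem_centralizer_singleton_iff.2 (commutatorElement_eq_one_iff_mul_comm.1
      (comm_eq_one PSolvable.pCore_isPGroup hx.2 h1 (h x hx.2))).symm
  exact fun x hx => mem_centralizer_singleton_iff.1 (hle hx)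

theorem comm_le_center {H : Subgroup G} (hHD : H ≤ Cfsg.pCore p G)
    (h : ⁅H, opG p G⁆ ≤ center G) : ⁅H, opG p G⁆ = ⊥ := by
  rw [commutator_eq_bot_iff_le_centralizer]
  intro z hz
  exact (mem_c0 (hHD hz) fun x hx => mem_center_iff.1
    (h (commutator_mem_commutator hz (mem_pp (mem_top x) hx))) x |>.symm).2

/-- `C(O^p(G)) ∩ O_p(G)` centralises `[O_p(G), O^p(G)]`. -/
theorem comm_xo_c0 : ⁅xo p G, c0 p G⁆ = ⊥ := by
  set D := Cfsg.pCore p G
  set P := opG p G
  have h1 : ⁅P, c0 p G⁆ = ⊥ :=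
    commutator_eq_bot_iff_le_centralizer.2 (le_centralizer_iff.1 inf_le_right)
  have h2 : ⁅⁅c0 p G, D⁆, P⁆ = ⊥ := by
    have hle : ⁅c0 p G, D⁆ ≤ c0 p G := commutator_le_left _ _
    rw [eq_bot_iff]
    refine (commutator_mono hle le_rfl).trans (le_of_eq ?_)
    exact commutator_eq_bot_iff_le_centralizer.2 inf_le_right
  exact commutator_commutator_eq_bot_of_rotate (by rw [h1, commutator_bot_left]) h2

theorem xo_comm_c0 {x y : G} (hx : x ∈ xo p G) (hy : y ∈ c0 p G) : x * y = y * x :=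
  commutatorElement_eq_one_iff_mul_comm.1 (by
    rw [← mem_bot, ← comm_xo_c0 (p := p)]; exact commutator_mem_commutator hx hy)

theorem xo_le_opG : xo p G ≤ opG p G := commutator_le_right _ _

theorem xo_le_pCore : xo p G ≤ Cfsg.pCore p G := commutator_le_left _ _

variable {S A : Subgroup G} {ψ : G →* PSLtwo F}

namespace Ctx

variable (c : Ctx p S n ψ)

include c

theorem opG_sup : opG p G ⊔ S = ⊤ := by
  obtain ⟨P, hP⟩ := c.setup.sylow
  rw [← index_eq_one]
  have h1 : (opG p G ⊔ S).index ∣ (opG p G).index := index_dvd_of_le le_sup_left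
  have h2 : (opG p G ⊔ S).index ∣ S.index := index_dvd_of_le le_sup_right
  have h3 : IsPGroup p (G ⧸ opG p G) := fun x => by
    obtain ⟨g, rfl⟩ := QuotientGroup.mk_surjective x
    obtain ⟨k, hk⟩ := pow_mem_pp (p := p) (L := ⊤) (mem_top g)
    exact ⟨k, by rw [← QuotientGroup.mk_pow]; exact (QuotientGroup.eq_one_iff _).2 hk⟩
  obtain ⟨k, hk⟩ := h3.exists_card_eq
  rw [← index_eq_card] at hk
  have h4 : (p ^ k).Coprime S.index := Nat.Coprime.pow_left k
    ((hp.out.coprime_iff_not_dvd).2 (hP ▸ P.not_dvd_index))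
  exact Nat.eq_one_of_dvd_coprimes h4 (hk ▸ h1) h2

theorem exists_opp : ∃ o ∈ opG p G, Opp ψ o := by
  obtain ⟨w, hw, -⟩ := c.setup.exists_weyl
  obtain ⟨o, ho, s, hs, rfl⟩ :=
    mem_sup_of_normal_left.1 (c.opG_sup.symm ▸ mem_top w : w ∈ opG p G ⊔ S)
  refine ⟨o, ho, ?_⟩
  have h : Opp ψ (o * s) := opp_of_lift hw.symm (by simp)
  simpa using c.opp_mul_right h (inv_mem hs)

theorem W_inf_opG (hA : IsLag S A) (hAD : ¬ A ≤ Cfsg.pCore p G) :
    centralizer (Cfsg.pCore p G : Set G) ⊓ centralizer (opG p G : Set G) = center G := by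
  obtain ⟨o, -, ho⟩ := c.exists_opp
  have hCN : center G ≤ centralizer (Cfsg.pCore p G : Set G) ⊓ centralizer (opG p G : Set G) :=
    fun x hx => ⟨mem_centralizer_iff.2 fun y _ => mem_center_iff.1 hx y,
      mem_centralizer_iff.2 fun y _ => mem_center_iff.1 hx y⟩
  refine (c.normal_dichotomy hA hAD ho hCN inf_le_left).resolve_right fun h => c.nz ⟨fun z hz g => ?_⟩
  obtain ⟨k, hk, t, ht, rfl⟩ :=
    mem_sup_of_normal_left.1 (c.opG_sup.symm ▸ mem_top g : g ∈ opG p G ⊔ S)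
  rw [show k * t * z * (k * t)⁻¹ = k * (t * z * t⁻¹) * k⁻¹ by group,
    mem_centralizer_iff.1 hz.2 t ht, mul_inv_cancel_right,
    mem_centralizer_iff.1 (h.ge (c.zen_le_W hz)).2 k hk, mul_inv_cancel_right]
  exact hz

theorem W_inf_c0 (hA : IsLag S A) (hAD : ¬ A ≤ Cfsg.pCore p G) :
    centralizer (Cfsg.pCore p G : Set G) ⊓ c0 p G = center G := by
  rw [← c.W_inf_opG hA hAD, ← inf_assoc, inf_eq_left.2 c.W_le]

theorem center_le_c0 : center G ≤ c0 p G := fun x hx =>
  ⟨c.zen_le_D (c.center_le_zen hx), mem_centralizer_iff.2 fun y _ => mem_center_iff.1 hx y⟩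

theorem opG_le_sup {L : Subgroup G} (hL : L ⊔ Cfsg.pCore p G = ⊤) :
    opG p G ≤ pp p L ⊔ Cfsg.pCore p G ∧ opG p G ≤ pp p L ⊔ xo p G := by
  set D := Cfsg.pCore p G
  have hnL : L ≤ normalizer (pp p L : Set G) := fun l hl =>
    mem_normalizer_iff.2 fun v => ⟨fun hv => conj_pp (le_normalizer hl) hv, fun hv => by
      simpa [mul_assoc] using conj_pp (le_normalizer (inv_mem hl)) hv⟩
  have key : ∀ (N : Subgroup G), N.Normal → pp p L ≤ N → opG p G ≤ N := by
    intro N hN hle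
    haveI := hN
    refine opG_le hN fun g => ?_
    obtain ⟨l, hl, d, hd, rfl⟩ := mem_sup_of_normal_right.1 (hL.symm ▸ mem_top g : g ∈ L ⊔ D)
    obtain ⟨k, hk⟩ := pow_mem_pp (p := p) hl
    have h1 : (l * d) ^ p ^ k ∈ N ⊔ D := by
      rw [← QuotientGroup.eq_one_iff, QuotientGroup.mk_pow, QuotientGroup.mk_mul,
        (QuotientGroup.eq_one_iff d).2 (mem_sup_right hd), mul_one, ← QuotientGroup.mk_pow]
      exact (QuotientGroup.eq_one_iff _).2 (mem_sup_left (hle hk))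
    obtain ⟨j, hj⟩ := exists_pow_mem_sup PSolvable.pCore_isPGroup h1
    exact ⟨k + j, by rwa [pow_add, pow_mul]⟩
  have hnorm : ∀ (N : Subgroup G), L ≤ normalizer (N : Set G) → D ≤ normalizer (N : Set G) →
      N.Normal := fun N h1 h2 => normalizer_eq_top_iff.1 (eq_top_iff.2 (hL ▸ sup_le h1 h2))
  have hsupn : ∀ (M : Subgroup G) [M.Normal], L ≤ normalizer ((pp p L ⊔ M : Subgroup G) : Set G) := by
    intro M _ l hl
    refine mem_normalizer_iff_map_conj_eq.2 ?_
    show (pp p L ⊔ M).map (cj l) = pp p L ⊔ M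
    rw [Subgroup.map_sup, map_cj_normal M l]
    exact congrArg (· ⊔ M) (mem_normalizer_iff_map_conj_eq.1 (hnL hl))
  constructor
  · exact key _ (hnorm _ (hsupn D) (le_sup_right.trans le_normalizer)) le_sup_left
  · refine key _ (hnorm _ (hsupn _) fun d hd => mem_normalizer_iff.2 fun v => ?_) le_sup_left
    have hfwd : ∀ e ∈ D, ∀ v ∈ pp p L ⊔ xo p G, e * v * e⁻¹ ∈ pp p L ⊔ xo p G := by
      intro e he v hv
      obtain ⟨x, hx, y, hy, rfl⟩ := mem_sup_of_normal_right.1 hv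
      rw [show e * (x * y) * e⁻¹ = ⁅e, x⁆ * x * (e * y * e⁻¹) by rw [commutatorElement_def]; group]
      exact mul_mem (mul_mem (mem_sup_right (commutator_mem_commutator he
        (pp_mono le_top hx))) (mem_sup_left hx))
        (mem_sup_right ((inferInstance : (xo p G).Normal).conj_mem _ hy e))
    exact ⟨hfwd d hd v, fun hv => by simpa [mul_assoc] using hfwd _ (inv_mem hd) _ hv⟩

end Ctx

end Cfsg.Agent.Lib.GNiles
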