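import Mathlib
import Cfsg.Agent.Lib.GNiles.Pair
/-!
`[O_p(G), O^p(G)]` centralises the subgroup `Y` centralising all `O^p(G)`-conjugates of `(A ∩ D) W`.
-/

set_option autoImplicit false
set_option linter.unusedSectionVars false

namespace Cfsg.Agent.Lib.GNiles

open Subgroup
open Cfsg.Agent.Lib
open Cfsg.Agent.Lib.SL2 (SLtwo PSLtwo)
open scoped commutatorElement

variable {G : Type*} [Group G] [Finite G] {p : ℕ} [hp : Fact p.Prime]
  {F : Type} [Field F] [Fintype F] {n : ℕ}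
variable {S A : Subgroup G} {ψ : G →* PSLtwo F}

/-- A subgroup of `O^p(G)` normalised by it and supplemented by `O_p(G)` is all of it. -/
theorem opG_le_of_sup {M : Subgroup G} (hM : M ≤ opG p G)
    (hn : opG p G ≤ normalizer (M : Set G)) (hsup : opG p G ≤ M ⊔ Cfsg.pCore p G) : opG p G ≤ M := by
  refine (closure_le _).2 fun x hx => ?_
  have hxP : x ∈ opG p G := mem_pp hx.1 hx.2
  obtain ⟨m, hm, d, hd, rfl⟩ := mem_sup_of_normal_right.1 (hsup hxP)
  have hdP : d ∈ opG p G := by simpa using mul_mem (inv_mem (hM hm)) hxP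
  haveI : (M.subgroupOf (opG p G)).Normal := normal_subgroupOf_of_le_normalizer hn
  set π := QuotientGroup.mk' (M.subgroupOf (opG p G))
  have e : π ⟨m * d, hxP⟩ = π ⟨d, hdP⟩ := by
    rw [show (⟨m * d, hxP⟩ : opG p G) = ⟨m, hM hm⟩ * ⟨d, hdP⟩ from rfl, map_mul,
      show π ⟨m, hM hm⟩ = 1 from (QuotientGroup.eq_one_iff _).2 hm, one_mul]
  obtain ⟨j, hj⟩ := (PSolvable.pCore_isPGroup : IsPGroup p (Cfsg.pCore p G)) ⟨d, hd⟩
  have h1 : (π ⟨m * d, hxP⟩) ^ p ^ j = 1 := by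
    have hdj : (⟨d, hdP⟩ : opG p G) ^ p ^ j = 1 :=
      Subtype.ext (by simpa using congrArg Subtype.val hj)
    rw [e, ← map_pow, hdj, map_one]
  have h2 : (π ⟨m * d, hxP⟩) ^ orderOf (m * d) = 1 := by
    have hxj : (⟨m * d, hxP⟩ : opG p G) ^ orderOf (m * d) = 1 :=
      Subtype.ext (by simpa using pow_orderOf_eq_one (m * d))
    rw [← map_pow, hxj, map_one]
  have h3 := pow_gcd_eq_one.2 ⟨h1, h2⟩
  rw [show Nat.gcd (p ^ j) (orderOf (m * d)) = 1 from Nat.Coprime.pow_left j hx.2, pow_one] at h3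
  exact mem_subgroupOf.1 ((QuotientGroup.eq_one_iff _).1 h3)

/-- Two three-subgroup consequences. -/
theorem comm_xo_eq_bot {H : Subgroup G} (hH : H ≤ Cfsg.pCore p G)
    (h1 : ⁅opG p G, H⁆ ≤ centralizer (Cfsg.pCore p G : Set G)) (h2 : ⁅xo p G, H⁆ ≤ center G) :
    ⁅xo p G, H⁆ = ⊥ ∧ ⁅⁅H, Cfsg.pCore p G⁆, opG p G⁆ = ⊥ := by
  set D := Cfsg.pCore p G
  set P := opG p G
  have e1 : ⁅⁅P, H⁆, D⁆ = ⊥ := commutator_eq_bot_iff_le_centralizer.2 h1
  have hn : ∀ K : Subgroup G, K ≤ normalizer (center G : Set G) := fun K =>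
    (normalizer_eq_top_iff.2 (inferInstance : (center G).Normal)).symm ▸ le_top
  have hHD : ⁅H, D⁆ ≤ D := commutator_le_right _ _
  have e2 : ⁅⁅H, D⁆, P⁆ = ⊥ := comm_le_center hHD
    (Coprime.commutator_commutator_le_of_rotate (hn _) (hn _) (hn _) h2 (e1.trans_le bot_le))
  exact ⟨commutator_commutator_eq_bot_of_rotate e1 e2, e2⟩

/-- The join of the `O^p(G)`-conjugates of `(A ∩ O_p(G)) W`. -/
def nCirc (p : ℕ) (A : Subgroup G) : Subgroup G :=
  ⨆ h : opG p G, (uPart p A ⊔ centralizer (Cfsg.pCore p G : Set G)).map (cj (h : G))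

/-- The centraliser in `S` of `nCirc`. -/
def yPart (p : ℕ) (S A : Subgroup G) : Subgroup G := S ⊓ centralizer (nCirc p A : Set G)

namespace Base

variable (b : Base p S A n ψ)

include b

theorem le_nCirc : uPart p A ⊔ centralizer (Cfsg.pCore p G : Set G) ≤ nCirc p A := by
  intro x hx
  exact le_iSup (fun h : opG p G => (uPart p A ⊔ centralizer (Cfsg.pCore p G : Set G)).map (cj (h : G)))
    1 ⟨x, hx, by simp [cj_apply]⟩

theorem nCirc_le : nCirc p A ≤ Cfsg.pCore p G := iSup_le fun h =>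
  (map_mono (sup_le inf_le_right b.ctx.W_le)).trans (map_cj_normal _ _).le

theorem large_nCirc : Large S (nCirc p A) := by
  rw [nCirc, iSup]
  refine b.sat.large_sSup ⟨_, 1, rfl⟩ ?_
  rintro _ ⟨h, rfl⟩
  exact b.sat.large_lag ((b.ctx.lagUW b.lag b.out).map_conj
    (((map_mono (sup_le inf_le_right b.ctx.W_le)).trans (map_cj_normal _ _).le).trans b.ctx.setup.le_S))

theorem yPart_le : yPart p S A ≤ uPart p A ⊔ centralizer (Cfsg.pCore p G : Set G) := fun _ hy =>
  (b.ctx.lagUW b.lag b.out).cent hy.1 fun u hu => mem_centralizer_iff.1 hy.2 u (b.le_nCirc hu)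

theorem yPart_le_pCore : yPart p S A ≤ Cfsg.pCore p G :=
  b.yPart_le.trans (sup_le inf_le_right b.ctx.W_le)

theorem centralizer_yPart : S ⊓ centralizer (yPart p S A : Set G) = nCirc p A :=
  b.sat.centralizer_centralizer b.large_nCirc

theorem sup_pCore_eq_top : (opG p G ⊔ A) ⊔ Cfsg.pCore p G = ⊤ := by
  rw [sup_assoc, b.ctx.sup_D b.lag b.out, b.ctx.opG_sup]

theorem nCirc_conj {g : G} (hg : g ∈ opG p G ⊔ A) {x : G} (hx : x ∈ nCirc p A) :
    g * x * g⁻¹ ∈ nCirc p A := by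
  obtain ⟨k, hk, a, ha, rfl⟩ := mem_sup_of_normal_left.1 hg
  set H := uPart p A ⊔ centralizer (Cfsg.pCore p G : Set G)
  have haH : H.map (cj a) = H := by
    rw [Subgroup.map_sup, map_cj_normal (centralizer (Cfsg.pCore p G : Set G)) a]
    congr 1
    ext v
    rw [mem_map_cj]
    refine ⟨fun hv => ?_, fun hv => ?_⟩
    · have e := comm_eq b.lag.comm hv.1 ha
      have : v = a⁻¹ * v * a := by
        have h1 : a * (a⁻¹ * v * a) = a⁻¹ * v * a * a := e.symm
        calc v = a * (a⁻¹ * v * a) * a⁻¹ := by group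
          _ = a⁻¹ * v * a * a * a⁻¹ := by rw [h1]
          _ = _ := by group
      rw [this]; exact hv
    · rw [mul_assoc, comm_eq b.lag.comm hv.1 ha, inv_mul_cancel_left]
      exact hv
  suffices h : (nCirc p A).map (cj (k * a)) ≤ nCirc p A from h (mem_map_of_mem _ hx)
  rw [nCirc, Subgroup.map_iSup]
  refine iSup_le fun h => ?_
  have e : (H.map (cj (h : G))).map (cj (k * a)) = H.map (cj (k * (a * h * a⁻¹))) := by
    conv_rhs => rw [← haH]
    rw [map_map, map_map]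
    congr 1
    ext v
    simp [cj_apply, mul_assoc]
  rw [e]
  exact le_iSup (fun h : opG p G => H.map (cj (h : G)))
    ⟨k * (a * h * a⁻¹), mul_mem hk ((inferInstance : (opG p G).Normal).conj_mem _ h.2 a)⟩

theorem yPart_conj {g : G} (hg : g ∈ opG p G ⊔ A) {y : G} (hy : y ∈ yPart p S A) :
    g * y * g⁻¹ ∈ yPart p S A := by
  refine ⟨b.ctx.setup.le_S
    ((inferInstance : (Cfsg.pCore p G).Normal).conj_mem _ (b.yPart_le_pCore hy) g),
    mem_centralizer_iff.2 fun x hx => ?_⟩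
  have h1 := mem_centralizer_iff.1 hy.2 _ (b.nCirc_conj (inv_mem hg) hx)
  rw [inv_inv] at h1
  calc x * (g * y * g⁻¹) = g * (g⁻¹ * x * g * y) * g⁻¹ := by group
    _ = g * (y * (g⁻¹ * x * g)) * g⁻¹ := by rw [h1]
    _ = _ := by group

/-- `O^p(G)` and `A` act on `Y` trivially modulo `W`. -/
theorem yPart_comm_W {g y : G} (hg : g ∈ opG p G ⊔ A) (hy : y ∈ yPart p S A) :
    ⁅g, y⁆ ∈ centralizer (Cfsg.pCore p G : Set G) := by
  set D := Cfsg.pCore p G
  set W := centralizer (D : Set G)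
  haveI hWn : W.Normal := inferInstance
  set π := QuotientGroup.mk' W
  set R := (centralizer ((yPart p S A).map π : Set (G ⧸ W))).comap π
  have hRmem : ∀ r : G, r ∈ R ↔ ∀ v ∈ yPart p S A, ⁅r, v⁆ ∈ W := fun r => by
    constructor
    · intro hr v hv
      refine (QuotientGroup.eq_one_iff _).1 (show π ⁅r, v⁆ = 1 from ?_)
      rw [map_commutatorElement, commutatorElement_eq_one_iff_mul_comm]
      exact (mem_centralizer_iff.1 hr _ (mem_map_of_mem π hv)).symm
    · intro hr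
      refine mem_centralizer_iff.2 ?_
      rintro _ ⟨v, hv, rfl⟩
      refine (commutatorElement_eq_one_iff_mul_comm.1 ?_).symm
      rw [← map_commutatorElement]
      exact (QuotientGroup.eq_one_iff _).2 (hr v hv)
  have hRn : ∀ k ∈ opG p G ⊔ A, ∀ r ∈ R, k * r * k⁻¹ ∈ R := fun k hk r hr => (hRmem _).2 fun v hv => by
    have h2 := hWn.conj_mem _ ((hRmem r).1 hr _ (b.yPart_conj (inv_mem hk) hv)) k
    simpa [commutatorElement_def, mul_assoc] using h2
  obtain ⟨o, ho, hopp⟩ := b.ctx.exists_opp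
  set L := A ⊔ A.map (cj o)
  have hL : L ≤ R := fun l hl => (hRmem l).2 fun v hv => by
    obtain ⟨u, hu, w, hw, rfl⟩ := mem_sup_of_normal_right.1 (b.yPart_le hv)
    have huw : u ∈ (uPart p A).map (cj o) ⊔ W := by
      have h1 : (uPart p A ⊔ W).map (cj o) ≤ nCirc p A := le_iSup (fun h : opG p G =>
        (uPart p A ⊔ W).map (cj (h : G))) ⟨o, ho⟩
      rw [Subgroup.map_sup, map_cj_normal W o] at h1
      have hK := (b.ctx.lagUW b.lag b.out).map_conj (g := o)
        (((map_mono (sup_le inf_le_right b.ctx.W_le)).trans (map_cj_normal D o).le).trans b.ctx.setup.le_S)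
      rw [Subgroup.map_sup, map_cj_normal W o] at hK
      have h2 : u * w ∈ (uPart p A).map (cj o) ⊔ W := hK.cent hv.1 fun x hx =>
        mem_centralizer_iff.1 hv.2 x (h1 hx)
      have hw' : w ∈ (uPart p A).map (cj o) ⊔ W := mem_sup_right hw
      simpa using mul_mem h2 (inv_mem hw')
    obtain ⟨i, hi, z, hz, rfl⟩ := (b.pair hopp).2.2.2.2.2 u hu huw
    have h3 : ⁅l, i⁆ = 1 := commutatorElement_eq_one_iff_mul_comm.2
      (mem_centralizer_iff.1 (b.pair_le_centralizer o hl) i hi).symm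
    rw [show ⁅l, i * z * w⁆ = ⁅l, i⁆ * (i * (l * (z * w) * l⁻¹ * (z * w)⁻¹) * i⁻¹) by
      simp [commutatorElement_def, mul_assoc], h3, one_mul]
    have hzw := W.mul_mem (b.ctx.zen_le_W hz) hw
    exact hWn.conj_mem _ (W.mul_mem (hWn.conj_mem _ hzw l) (W.inv_mem hzw)) i
  have hnorm : opG p G ≤ normalizer ((R ⊓ opG p G : Subgroup G) : Set G) := fun k hk =>
    mem_normalizer_iff.2 fun v => ⟨fun hv => ⟨hRn k (mem_sup_left hk) v hv.1,
      (inferInstance : (opG p G).Normal).conj_mem v hv.2 k⟩, fun hv => by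
        have h1 := hRn k⁻¹ (mem_sup_left (inv_mem hk)) _ hv.1
        have h2 := (inferInstance : (opG p G).Normal).conj_mem _ hv.2 k⁻¹
        simp only [inv_inv, mul_assoc, inv_mul_cancel, mul_one, inv_mul_cancel_left] at h1 h2
        exact ⟨h1, h2⟩⟩
  have hP : opG p G ≤ R := (opG_le_of_sup inf_le_right hnorm
    ((b.ctx.opG_le_sup (b.gen_top hopp)).1.trans
      (sup_le_sup_right (le_inf ((pp_le _).trans hL) (pp_mono le_top)) _))).trans inf_le_left
  exact (hRmem g).1 (sup_le hP (le_sup_left.trans hL) hg) y hy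

/-- The counting argument: `Y` centralises `[O_p(G), O^p(G)]` modulo the centre. -/
theorem comm_xo_yPart_le : ⁅xo p G, yPart p S A⁆ ≤ center G := by
  classical
  set D := Cfsg.pCore p G
  set W := centralizer (D : Set G)
  haveI hWn : W.Normal := inferInstance
  set Y := yPart p S A
  set G₁ := opG p G ⊔ A
  have hG₁ : G₁ ⊔ D = ⊤ := b.sup_pCore_eq_top
  have hxD : xo p G ≤ D := xo_le_pCore
  have hval : ∀ y ∈ Y, ∀ x ∈ xo p G, ⁅y, x⁆ ∈ W := fun y hy x hx => by
    rw [← commutatorElement_inv]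
    exact W.inv_mem (b.yPart_comm_W (mem_sup_left (xo_le_opG hx)) hy)
  have hmulx : ∀ y ∈ Y, ∀ x ∈ xo p G, ∀ x' ∈ xo p G, ⁅y, x * x'⁆ = ⁅y, x⁆ * ⁅y, x'⁆ := by
    intro y hy x hx x' hx'
    rw [show ⁅y, x * x'⁆ = ⁅y, x⁆ * (x * ⁅y, x'⁆ * x⁻¹) by simp [commutatorElement_def, mul_assoc],
      b.ctx.D_comm_W (hxD hx) (hval y hy x' hx'), mul_inv_cancel_right]
  have hmuly : ∀ y ∈ Y, ∀ y' ∈ Y, ∀ x ∈ xo p G, ⁅y * y', x⁆ = ⁅y, x⁆ * ⁅y', x⁆ := by
    intro y hy y' hy' x hx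
    rw [show ⁅y * y', x⁆ = y * ⁅y', x⁆ * y⁻¹ * ⁅y, x⁆ by simp [commutatorElement_def, mul_assoc],
      b.ctx.D_comm_W (b.yPart_le_pCore hy) (hval y' hy' x hx), mul_inv_cancel_right,
      b.ctx.W_comm (hval y' hy' x hx) (hval y hy x hx)]
  have hinvx : ∀ y ∈ Y, ∀ x ∈ xo p G, ⁅y, x⁻¹⁆ = ⁅y, x⁆⁻¹ := by
    intro y hy x hx
    have h := hmulx y hy x hx x⁻¹ (inv_mem hx)
    rw [mul_inv_cancel, commutatorElement_one_right] at h
    exact eq_inv_of_mul_eq_one_right h.symm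
  have hinvy : ∀ y ∈ Y, ∀ x ∈ xo p G, ⁅y⁻¹, x⁆ = ⁅y, x⁆⁻¹ := by
    intro y hy x hx
    have h := hmuly y hy y⁻¹ (inv_mem hy) x hx
    rw [mul_inv_cancel, commutatorElement_one_left] at h
    exact eq_inv_of_mul_eq_one_right h.symm
  have hequiv : ∀ g ∈ G₁, ∀ y ∈ Y, ∀ x ∈ xo p G, ⁅y, g * x * g⁻¹⁆ = g * ⁅y, x⁆ * g⁻¹ := by
    intro g hg y hy x hx
    set x' := g * x * g⁻¹
    have hx' : x' ∈ xo p G := (inferInstance : (xo p G).Normal).conj_mem x hx g
    have hw : ⁅g, y⁆ ∈ W := b.yPart_comm_W hg hy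
    have hc : ⁅g, y⁆ * ⁅y, x'⁆ * ⁅g, y⁆⁻¹ = ⁅y, x'⁆ := by
      rw [b.ctx.W_comm hw (hval y hy x' hx'), mul_inv_cancel_right]
    have hwx : ⁅⁅g, y⁆, x'⁆ = 1 :=
      commutatorElement_eq_one_iff_mul_comm.2 (b.ctx.D_comm_W (hxD hx') hw).symm
    calc ⁅y, x'⁆ = ⁅g, y⁆ * ⁅y, x'⁆ * ⁅g, y⁆⁻¹ * ⁅⁅g, y⁆, x'⁆ := by rw [hc, hwx, mul_one]
      _ = g * ⁅y, x⁆ * g⁻¹ := by simp [x', commutatorElement_def, mul_assoc]
  let ycen : ∀ K : Subgroup G, K ≤ xo p G → Subgroup G := fun K hK =>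
    { carrier := {y | y ∈ Y ∧ ∀ x ∈ K, ⁅y, x⁆ ∈ center G}
      one_mem' := ⟨Y.one_mem, fun x _ => by simp⟩
      mul_mem' := fun {y y'} hy hy' => ⟨Y.mul_mem hy.1 hy'.1, fun x hx => by
        rw [hmuly y hy.1 y' hy'.1 x (hK hx)]; exact mul_mem (hy.2 x hx) (hy'.2 x hx)⟩
      inv_mem' := fun {y} hy => ⟨Y.inv_mem hy.1, fun x hx => by
        rw [hinvy y hy.1 x (hK hx)]; exact inv_mem (hy.2 x hx)⟩ }
  let kc : ∀ (T : Set G), T ⊆ Y → ∀ K : Subgroup G, K ≤ xo p G → Subgroup G := fun T hT K hK =>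
    { carrier := {x | x ∈ K ∧ ∀ y ∈ T, ⁅y, x⁆ ∈ center G}
      one_mem' := ⟨K.one_mem, fun y _ => by simp⟩
      mul_mem' := fun {x x'} hx hx' => ⟨K.mul_mem hx.1 hx'.1, fun y hy => by
        rw [hmulx y (hT hy) x (hK hx.1) x' (hK hx'.1)]; exact mul_mem (hx.2 y hy) (hx'.2 y hy)⟩
      inv_mem' := fun {x} hx => ⟨K.inv_mem hx.1, fun y hy => by
        rw [hinvx y (hT hy) x (hK hx.1)]; exact inv_mem (hx.2 y hy)⟩ }
  have hqq : (center G).relIndex W = p ^ n * p ^ n := by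
    obtain ⟨o, -, ho⟩ := b.ctx.exists_opp
    rw [← relIndex_mul_relIndex (center G) (zen S) W b.ctx.center_le_zen b.ctx.zen_le_W,
      (b.ctx.sup_zen_conj b.lag b.out ho).2, b.ctx.index_zen b.lag b.out]
  have key : ∀ N : ℕ, ∀ (K : Subgroup G) (hK : K ≤ xo p G), Nat.card K = N →
      (∀ g ∈ G₁, ∀ x ∈ K, g * x * g⁻¹ ∈ K) →
      (ycen K hK).relIndex Y * (ycen K hK).relIndex Y ≤ (kc (Y : Set G) le_rfl K hK).relIndex K := by
    intro N
    induction N using Nat.strong_induction_on with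
    | _ N ih =>
    intro K hK hcard hinv
    by_cases hall : Y ≤ ycen K hK
    · rw [relIndex_eq_one.2 hall, mul_one]
      exact Nat.one_le_iff_ne_zero.2 index_ne_zero_of_finite
    obtain ⟨y₀, hy₀, hy₀K⟩ := SetLike.not_le_iff_exists.1 hall
    set K₀ := kc {y₀} (Set.singleton_subset_iff.2 hy₀) K hK
    have hK₀K : K₀ ≤ K := fun x hx => hx.1
    obtain ⟨x₁, hx₁, hx₁c⟩ : ∃ x ∈ K, ⁅y₀, x⁆ ∉ center G := by
      by_contra h
      push Not at h
      exact hy₀K ⟨hy₀, h⟩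
    have hK₀lt : Nat.card K₀ < N := by
      rw [← hcard]
      by_contra h
      have := eq_of_le_of_card_ge hK₀K (Nat.le_of_not_lt h)
      exact hx₁c ((this.ge hx₁).2 y₀ rfl)
    let f : K →* G :=
      { toFun := fun x => ⁅y₀, (x : G)⁆
        map_one' := commutatorElement_one_right _
        map_mul' := fun x x' => hmulx y₀ hy₀ _ (hK x.2) _ (hK x'.2) }
    have himage : ∀ E : Subgroup G, E ≤ K → (∀ g ∈ G₁, ∀ x ∈ E, g * x * g⁻¹ ∈ E) →
        (∃ x ∈ E, ⁅y₀, x⁆ ∉ center G) → (E.subgroupOf K).map f ⊔ center G = W := by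
      intro E hEK hEinv ⟨x, hx, hxc⟩
      have hle : (E.subgroupOf K).map f ⊔ center G ≤ W := by
        refine sup_le ?_ fun v hv => mem_centralizer_iff.2 fun u _ => mem_center_iff.1 hv u
        rintro _ ⟨v, -, rfl⟩
        exact hval y₀ hy₀ _ (hK v.2)
      haveI : ((E.subgroupOf K).map f ⊔ center G).Normal := by
        refine ⟨fun v hv g => ?_⟩
        obtain ⟨g₁, hg₁, d, hd, rfl⟩ := mem_sup_of_normal_right.1 (hG₁.symm ▸ mem_top g : g ∈ G₁ ⊔ D)
        rw [show g₁ * d * v * (g₁ * d)⁻¹ = g₁ * (d * v * d⁻¹) * g₁⁻¹ by group,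
          b.ctx.D_comm_W hd (hle hv), mul_inv_cancel_right]
        obtain ⟨_, ⟨e, he, rfl⟩, z, hz, rfl⟩ := mem_sup_of_normal_right.1 hv
        rw [show g₁ * (f e * z) * g₁⁻¹ = (g₁ * f e * g₁⁻¹) * (g₁ * z * g₁⁻¹) by group]
        refine mul_mem (mem_sup_left ⟨⟨g₁ * (e : G) * g₁⁻¹, hinv g₁ hg₁ _ e.2⟩,
          hEinv g₁ hg₁ _ he, hequiv g₁ hg₁ y₀ hy₀ _ (hK e.2)⟩) (mem_sup_right ?_)
        exact (inferInstance : (center G).Normal).conj_mem z hz g₁
      obtain ⟨o, -, ho⟩ := b.ctx.exists_opp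
      refine (b.ctx.normal_dichotomy b.lag b.out ho le_sup_right hle).resolve_left fun h => hxc ?_
      exact h.le (mem_sup_left ⟨⟨x, hEK hx⟩, hx, rfl⟩)
    have hKim : (K.subgroupOf K).map f ⊔ center G = W :=
      himage K le_rfl hinv ⟨x₁, hx₁, hx₁c⟩
    have hidx0 : K₀.relIndex K = p ^ n * p ^ n := by
      have e : K₀.subgroupOf K = (center G).comap f := by
        ext x
        exact ⟨fun h => h.2 y₀ rfl, fun h => ⟨x.2, fun y hy => (Set.mem_singleton_iff.1 hy) ▸ h⟩⟩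
      show (K₀.subgroupOf K).index = _
      rw [e, index_comap, ← relIndex_sup_right f.range (center G), ← hqq,
        ← hKim, subgroupOf_self, MonoidHom.range_eq_map]
    obtain ⟨o, ho, hopp⟩ := b.ctx.exists_opp
    obtain ⟨z', hz', hz'c⟩ : ∃ z ∈ (zen S).map (cj o), z ∉ center G := by
      by_contra h
      push Not at h
      obtain ⟨hsup, hidxc⟩ := b.ctx.sup_zen_conj b.lag b.out hopp
      have := b.ctx.index_zen b.lag b.out
      rw [← hsup, sup_eq_left.2 ((show (zen S).map (cj o) ≤ center G from h).trans b.ctx.center_le_zen),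
        relIndex_self] at this
      exact b.ctx.setup.one_lt.ne this
    obtain ⟨x₀, hx₀, c₀, hc₀, hx₀z⟩ : ∃ x ∈ K, ∃ z ∈ center G, ⁅y₀, x⁆ * z = z' := by
      obtain ⟨_, ⟨e, -, rfl⟩, z, hz, e2⟩ :=
        mem_sup_of_normal_right.1 (hKim.ge (b.ctx.zen_map_le_W o hz'))
      exact ⟨e, e.2, z, hz, e2⟩
    obtain ⟨a, haA, haD⟩ := SetLike.not_le_iff_exists.1 b.out
    have haG₁ : o * a * o⁻¹ ∈ G₁ :=
      mul_mem (mul_mem (mem_sup_left ho) (mem_sup_right haA)) (inv_mem (mem_sup_left ho))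
    set T := ycen K₀ (hK₀K.trans hK)
    have hTY : T ≤ Y := fun y hy => hy.1
    have hmemT : ∀ y ∈ T, ⁅y, x₀⁆ ∈ (zen S).map (cj o) := by
      intro y hy
      set a' := o * a * o⁻¹
      refine b.ctx.fix_W_mod_conj b.lag b.out o (b.lag.le haA) haD (hval y hy.1 x₀ (hK hx₀)) ?_
      have hx' : a' * x₀ * a'⁻¹ ∈ K := hinv a' haG₁ x₀ hx₀
      have hfix : a' * z' * a'⁻¹ = z' := by
        obtain ⟨z, hz, rfl⟩ := hz'
        have hcm := mem_centralizer_iff.1 hz.2 a (b.lag.le haA)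
        simp only [a', cj_apply]
        calc o * a * o⁻¹ * (o * z * o⁻¹) * (o * a * o⁻¹)⁻¹ = o * (a * z) * a⁻¹ * o⁻¹ := by group
          _ = _ := by rw [hcm]; group
      have h0 : a' * x₀ * a'⁻¹ * x₀⁻¹ ∈ K₀ := by
        refine ⟨mul_mem hx' (inv_mem hx₀), fun y' hy' => ?_⟩
        rw [Set.mem_singleton_iff.1 hy', hmulx y₀ hy₀ _ (hK hx') _ (inv_mem (hK hx₀)),
          hequiv a' haG₁ y₀ hy₀ x₀ (hK hx₀), hinvx y₀ hy₀ x₀ (hK hx₀)]
        rw [show ⁅y₀, x₀⁆ = z' * c₀⁻¹ by rw [← hx₀z, mul_inv_cancel_right],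
          show a' * (z' * c₀⁻¹) * a'⁻¹ = (a' * z' * a'⁻¹) * (a' * c₀⁻¹ * a'⁻¹) by group, hfix,
          mem_center_iff.1 (inv_mem hc₀) a', mul_inv_cancel_right, mul_inv_cancel]
        exact one_mem _
      have h1 := hy.2 _ h0
      rw [hmulx y hy.1 _ (hK hx') _ (inv_mem (hK hx₀)), hequiv a' haG₁ y hy.1 x₀ (hK hx₀),
        hinvx y hy.1 x₀ (hK hx₀)] at h1
      rw [commutatorElement_def]
      exact h1
    have hstep : (ycen K hK).relIndex T ≤ p ^ n := by
      let g : T →* G :=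
        { toFun := fun y => ⁅(y : G), x₀⁆
          map_one' := commutatorElement_one_left _
          map_mul' := fun y y' => hmuly _ y.2.1 _ y'.2.1 _ (hK hx₀) }
      have hker : (ycen K hK).subgroupOf T = (center G).comap g := by
        ext y
        refine ⟨fun h => h.2 x₀ hx₀, fun h => ⟨y.2.1, fun x hx => ?_⟩⟩
        set E := kc {(y : G)} (Set.singleton_subset_iff.2 y.2.1) K hK
        have hEinv : ∀ g ∈ G₁, ∀ v ∈ E, g * v * g⁻¹ ∈ E := fun g hg v hv =>
          ⟨hinv g hg v hv.1, fun y' hy' => by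
            rw [Set.mem_singleton_iff.1 hy', hequiv g hg _ y.2.1 v (hK hv.1)]
            exact (inferInstance : (center G).Normal).conj_mem _ (hv.2 _ rfl) g⟩
        have hK₀E : K₀ ≤ E := fun v hv =>
          ⟨hv.1, fun y' hy' => (Set.mem_singleton_iff.1 hy') ▸ y.2.2 v hv⟩
        have hx₀E : x₀ ∈ E := ⟨hx₀, fun y' hy' => (Set.mem_singleton_iff.1 hy') ▸ h⟩
        have hEim := himage E (fun v hv => hv.1) hEinv ⟨x₀, hx₀E, fun hc =>
          hz'c (hx₀z ▸ mul_mem hc hc₀)⟩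
        obtain ⟨_, ⟨e, he, rfl⟩, z, hz, e2⟩ :=
          mem_sup_of_normal_right.1 (hEim.ge (hval y₀ hy₀ x (hK hx)))
        have hd : x * (e : G)⁻¹ ∈ K₀ := by
          refine ⟨mul_mem hx (inv_mem e.2), fun y' hy' => ?_⟩
          rw [Set.mem_singleton_iff.1 hy', hmulx y₀ hy₀ x (hK hx) _ (inv_mem (hK e.2)),
            hinvx y₀ hy₀ _ (hK e.2), ← e2]
          show ⁅y₀, (e : G)⁆ * z * ⁅y₀, (e : G)⁆⁻¹ ∈ center G
          exact (inferInstance : (center G).Normal).conj_mem z hz _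
        have hxE : x ∈ E := by simpa using mul_mem (hK₀E hd) he
        exact hxE.2 _ rfl
      show ((ycen K hK).subgroupOf T).index ≤ _
      rw [hker, index_comap]
      refine (relIndex_le_of_le_right (show g.range ≤ (zen S).map (cj o) from ?_)
        (by rw [relIndex]; exact index_ne_zero_of_finite)).trans (le_of_eq ?_)
      · rintro _ ⟨y, rfl⟩
        exact hmemT y y.2
      · conv_lhs => rw [← map_cj_normal (center G) o]
        rw [relIndex_map_map_of_injective _ _ (MulAut.conj o).injective]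
        exact (b.ctx.sup_zen_conj b.lag b.out hopp).2
    have hK₀inv : ∀ g ∈ G₁, ∀ x ∈ K₀, g * x * g⁻¹ ∈ K₀ := fun g hg x hx =>
      ⟨hinv g hg x hx.1, fun y hy => by
        rw [Set.mem_singleton_iff.1 hy, hequiv g hg y₀ hy₀ x (hK hx.1)]
        exact (inferInstance : (center G).Normal).conj_mem _ (hx.2 y₀ rfl) g⟩
    have hih := ih _ hK₀lt K₀ (hK₀K.trans hK) rfl hK₀inv
    set R := kc (Y : Set G) le_rfl K hK
    have hkc : kc (Y : Set G) le_rfl K₀ (hK₀K.trans hK) = R :=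
      le_antisymm (fun x hx => ⟨hK₀K hx.1, hx.2⟩)
        fun x hx => ⟨⟨hx.1, fun y hy => (Set.mem_singleton_iff.1 hy) ▸ hx.2 y₀ hy₀⟩, hx.2⟩
    rw [hkc] at hih
    have e1 : (ycen K hK).relIndex Y = (ycen K hK).relIndex T * T.relIndex Y :=
      (relIndex_mul_relIndex (ycen K hK) T Y (fun y hy => ⟨hy.1, fun x hx => hy.2 x (hK₀K hx)⟩) hTY).symm
    have e2 : R.relIndex K = R.relIndex K₀ * K₀.relIndex K :=
      (relIndex_mul_relIndex R K₀ K
        (fun x hx => ⟨hx.1, fun y hy => (Set.mem_singleton_iff.1 hy) ▸ hx.2 y₀ hy₀⟩) hK₀K).symm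
    rw [e1, e2, hidx0]
    calc _ ≤ p ^ n * T.relIndex Y * (p ^ n * T.relIndex Y) :=
          Nat.mul_le_mul (Nat.mul_le_mul_right _ hstep) (Nat.mul_le_mul_right _ hstep)
      _ = T.relIndex Y * T.relIndex Y * (p ^ n * p ^ n) := by ring
      _ ≤ _ := Nat.mul_le_mul_right _ hih
  have hmain := key _ (xo p G) le_rfl rfl
    fun g _ x hx => (inferInstance : (xo p G).Normal).conj_mem x hx g
  set r := (ycen (xo p G) le_rfl).relIndex Y
  have hr : (kc (Y : Set G) le_rfl (xo p G) le_rfl).relIndex (xo p G) ≤ r := by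
    set N := nCirc p A
    have hND : N ≤ D := b.nCirc_le
    have hH : ycen (xo p G) le_rfl ≤ centralizer (xo p G : Set G) := by
      have hle : ⁅opG p G, ycen (xo p G) le_rfl⁆ ≤ W :=
        Subgroup.commutator_le.2 fun g hg y hy => b.yPart_comm_W (mem_sup_left hg) hy.1
      have hle2 : ⁅xo p G, ycen (xo p G) le_rfl⁆ ≤ center G :=
        Subgroup.commutator_le.2 fun x hx y hy => by
          rw [← commutatorElement_inv]; exact inv_mem (hy.2 x hx)
      exact le_centralizer_iff.1 (commutator_eq_bot_iff_le_centralizer.1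
        (comm_xo_eq_bot (H := ycen (xo p G) le_rfl) (fun y hy => b.yPart_le_pCore hy.1) hle hle2).1)
    have h1 : N.relIndex (xo p G) ≤ r := by
      have hm := b.sat.card_le b.large_nCirc (sup_le (hxD.trans b.ctx.setup.le_S) b.large_nCirc.1)
      rw [show S ⊓ centralizer (N : Set G) = Y from rfl, CD.centralizer_sup, inf_comm (centralizer _),
        ← inf_assoc, show S ⊓ centralizer (N : Set G) = Y from rfl] at hm
      have h2 := CD.card_mul_card_le (xo p G) N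
      have hX : Nat.card (xo p G) = Nat.card (xo p G ⊓ N : Subgroup G) * N.relIndex (xo p G) := by
        rw [← relIndex_bot_left, ← relIndex_mul_relIndex ⊥ (xo p G ⊓ N) _ bot_le inf_le_left,
          relIndex_bot_left, inf_relIndex_left]
      have hY : Nat.card Y = Nat.card (ycen (xo p G) le_rfl) * r := by
        rw [← relIndex_bot_left, ← relIndex_mul_relIndex ⊥ (ycen (xo p G) le_rfl) Y bot_le (fun y hy => hy.1),
          relIndex_bot_left]
      have hsub : Nat.card (ycen (xo p G) le_rfl) ≤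
          Nat.card (Y ⊓ centralizer (xo p G : Set G) : Subgroup G) :=
        card_le_of_le (le_inf (fun y hy => hy.1) hH)
      rw [hY] at hm
      rw [hX, mul_comm (Nat.card (xo p G ⊓ N : Subgroup G)), mul_right_comm] at h2
      have h2' : N.relIndex (xo p G) * Nat.card N ≤ Nat.card (xo p G ⊔ N : Subgroup G) :=
        Nat.le_of_mul_le_mul_right h2 Nat.card_pos
      refine Nat.le_of_mul_le_mul_right ?_ (Nat.mul_pos (Nat.card_pos : 0 < Nat.card N)
        (Nat.card_pos : 0 < Nat.card (ycen (xo p G) le_rfl)))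
      calc N.relIndex (xo p G) * (Nat.card N * Nat.card (ycen (xo p G) le_rfl))
          ≤ Nat.card (xo p G ⊔ N : Subgroup G) *
            Nat.card (Y ⊓ centralizer (xo p G : Set G) : Subgroup G) := by
            rw [← mul_assoc]; exact Nat.mul_le_mul h2' hsub
        _ ≤ _ := hm
        _ = _ := by ring
    refine le_trans ?_ h1
    rw [← inf_relIndex_left (xo p G) N]
    refine relIndex_le_of_le_left (fun x hx => ⟨hx.1, fun y hy => ?_⟩)
      (by rw [relIndex]; exact index_ne_zero_of_finite)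
    rw [commutatorElement_eq_one_iff_mul_comm.2 (mem_centralizer_iff.1 hy.2 x hx.2).symm]
    exact one_mem _
  have hr0 : r ≠ 0 := index_ne_zero_of_finite
  have h4 : r * r ≤ 1 * r := by rw [one_mul]; exact hmain.trans hr
  have h5 := Nat.le_of_mul_le_mul_right h4 (Nat.pos_of_ne_zero hr0)
  have h6 : Y ≤ ycen (xo p G) le_rfl := relIndex_eq_one.1 (show r = 1 by omega)
  refine Subgroup.commutator_le.2 fun x hx y hy => ?_
  rw [← commutatorElement_inv]
  exact inv_mem ((h6 hy).2 x hx)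

end Base

end Cfsg.Agent.Lib.GNiles
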