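import Mathlib
import Cfsg.Agent.Lib.GNiles.Count
/-!
`I = A ∩ C(O^p(G))` and `X = C_D(I)`.
-/

set_option autoImplicit false
set_option linter.unusedSectionVars false

namespace Cfsg.Agent.Lib.GNiles

open Subgroup
open Cfsg.Agent.Lib
open Cfsg.Agent.Lib.SL2 (SLtwo PSLtwo)
open scoped commutatorElement

variable {G : Type*} [Group G] [Finite G] {p : ℕ} [hp : Fact p.Prime]
  {F : Type} [Field F] [Fintype F] {n : ℕ}
variable {S A : Subgroup G} {ψ : G →* PSLtwo F}

/-- `A ∩ C_D(O^p(G))`. -/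
abbrev iPart (p : ℕ) (A : Subgroup G) : Subgroup G := A ⊓ c0 p G

/-- `C_D(I)`. -/
def xPart (p : ℕ) (A : Subgroup G) : Subgroup G :=
  Cfsg.pCore p G ⊓ centralizer (iPart p A : Set G)

theorem mem_of_maximal_normal {P H : Subgroup G} (hP : IsPGroup p P) (hH : H ≤ P)
    (h : ∀ M : Subgroup G, H ≤ M → M ≤ P → (∀ x ∈ P, ∀ m ∈ M, x * m * x⁻¹ ∈ M) → M = P) : H = P := by
  haveI : Group.IsNilpotent P := hP.isNilpotent
  by_contra hne
  have hne' : H.subgroupOf P ≠ ⊤ := fun e => hne (le_antisymm hH (subgroupOf_eq_top.1 e))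
  obtain hc | ⟨M, hM, hHM⟩ := eq_top_or_exists_le_coatom (H.subgroupOf P)
  · exact hne' hc
  have hMn : M.Normal := Subgroup.NormalizerCondition.normal_of_coatom M normalizerCondition_of_isNilpotent hM
  have e := h (M.map P.subtype) (fun x hx => ⟨⟨x, hH hx⟩, hHM hx, rfl⟩) (map_subtype_le M) (by
    rintro x hx _ ⟨m, hm, rfl⟩
    exact ⟨⟨x, hx⟩ * m * ⟨x, hx⟩⁻¹, hMn.conj_mem m hm _, rfl⟩)
  refine hM.1 (eq_top_iff.2 fun x _ => ?_)
  obtain ⟨m, hm, e2⟩ := e.ge x.2
  exact Subtype.ext e2 ▸ hm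

namespace Base

variable (b : Base p S A n ψ)

include b

theorem iPart_le_uPart : iPart p A ≤ uPart p A := fun _ hx => ⟨hx.1, hx.2.1⟩

theorem center_le_iPart : center G ≤ iPart p A :=
  le_inf (b.ctx.center_le_zen.trans b.lag.zen_le) b.ctx.center_le_c0

theorem iPart_conj {h x : G} (hh : h ∈ opG p G) (hx : x ∈ iPart p A) : h * x * h⁻¹ = x := by
  rw [mem_centralizer_iff.1 hx.2.2 h hh, mul_inv_cancel_right]

theorem comm_A_iPart {a x : G} (ha : a ∈ A) (hx : x ∈ iPart p A) : a * x = x * a :=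
  comm_eq b.lag.comm ha hx.1

theorem core_facts : ⁅xo p G, yPart p S A⁆ = ⊥ ∧
    yPart p S A = iPart p A ⊔ centralizer (Cfsg.pCore p G : Set G) ∧
    xPart p A = nCirc p A := by
  set D := Cfsg.pCore p G
  set W := centralizer (D : Set G)
  set Y := yPart p S A
  haveI : W.Normal := inferInstance
  have hle : ⁅opG p G, Y⁆ ≤ W :=
    Subgroup.commutator_le.2 fun g hg y hy => b.yPart_comm_W (mem_sup_left hg) hy
  obtain ⟨hXY, hYDP⟩ := comm_xo_eq_bot b.yPart_le_pCore hle b.comm_xo_yPart_le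
  obtain ⟨o, ho, hopp⟩ := b.ctx.exists_opp
  have hY1 : Y = iPart p A ⊔ W := by
    refine le_antisymm (fun y hy => ?_) ?_
    · obtain ⟨u, hu, w, hw, rfl⟩ := mem_sup_of_normal_right.1 (b.yPart_le hy)
      have huw : u ∈ (uPart p A).map (cj o) ⊔ W := by
        have h1 : (uPart p A ⊔ W).map (cj o) ≤ nCirc p A := le_iSup (fun h : opG p G =>
          (uPart p A ⊔ W).map (cj (h : G))) ⟨o, ho⟩
        rw [Subgroup.map_sup, map_cj_normal W o] at h1
        have hK := (b.ctx.lagUW b.lag b.out).map_conj (g := o)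
          (((map_mono (sup_le inf_le_right b.ctx.W_le)).trans (map_cj_normal D o).le).trans b.ctx.setup.le_S)
        rw [Subgroup.map_sup, map_cj_normal W o] at hK
        have h2 : u * w ∈ (uPart p A).map (cj o) ⊔ W := hK.cent hy.1 fun x hx =>
          mem_centralizer_iff.1 hy.2 x (h1 hx)
        have hw' : w ∈ (uPart p A).map (cj o) ⊔ W := mem_sup_right hw
        simpa using mul_mem h2 (inv_mem hw')
      obtain ⟨i, hi, z, hz, rfl⟩ := (b.pair hopp).2.2.2.2.2 u hu huw
      refine mul_mem (mul_mem (mem_sup_left ⟨hi.1.1, hi.1.2, ?_⟩)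
        (mem_sup_right (b.ctx.zen_le_W hz))) (mem_sup_right hw)
      -- `i` is centralised by `O^p(G)`
      set L := A ⊔ A.map (cj o)
      set Ω : Set G := {t | ∃ d ∈ D, t = d * i * d⁻¹}
      set M := opG p G ⊓ centralizer Ω
      have hyd : ∀ d ∈ D, ∀ l ∈ opG p G, ⁅i, d⁆ * l = l * ⁅i, d⁆ := by
        intro d hd l hl
        have hzw : z * w ∈ W := W.mul_mem (b.ctx.zen_le_W hz) hw
        have e : ⁅i * z * w, d⁆ = ⁅i, d⁆ := by
          rw [show ⁅i * z * w, d⁆ = i * (z * w * d * (z * w)⁻¹ * d⁻¹) * i⁻¹ * ⁅i, d⁆ by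
            simp [commutatorElement_def, mul_assoc], ← b.ctx.D_comm_W hd hzw]
          simp [mul_assoc]
        rw [← e]
        refine commutatorElement_eq_one_iff_mul_comm.1 ?_
        rw [← mem_bot, ← hYDP]
        exact commutator_mem_commutator (commutator_mem_commutator hy hd) hl
      have hLM : pp p L ≤ M := fun l hl => ⟨pp_mono le_top hl, mem_centralizer_iff.2 (by
        rintro t ⟨d, hd, rfl⟩
        have h1 : i * l = l * i := mem_centralizer_iff.1 (b.pair_le_centralizer o (pp_le L hl)) i hi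
        have h2 := hyd d hd l (pp_mono le_top hl)
        have e : d * i * d⁻¹ = ⁅i, d⁆⁻¹ * i := by rw [commutatorElement_def]; group
        rw [e]
        exact ((show Commute ⁅i, d⁆ l from h2).inv_left.mul_left h1).eq)⟩
      have hMD : ∀ d ∈ D, ∀ m ∈ M, d * m * d⁻¹ ∈ M := fun d hd m hm =>
        ⟨(inferInstance : (opG p G).Normal).conj_mem m hm.1 d, mem_centralizer_iff.2 (by
          rintro t ⟨e, he, rfl⟩
          have h1 := mem_centralizer_iff.1 hm.2 (d⁻¹ * e * i * (d⁻¹ * e)⁻¹)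
            ⟨d⁻¹ * e, mul_mem (inv_mem hd) he, rfl⟩
          calc e * i * e⁻¹ * (d * m * d⁻¹) = d * (d⁻¹ * e * i * (d⁻¹ * e)⁻¹ * m) * d⁻¹ := by group
            _ = d * (m * (d⁻¹ * e * i * (d⁻¹ * e)⁻¹)) * d⁻¹ := by rw [h1]
            _ = _ := by group)⟩
      have hsub : opG p G ≤ M ⊔ D :=
        (b.ctx.opG_le_sup (b.gen_top hopp)).1.trans (sup_le_sup_right hLM _)
      have hn : opG p G ≤ normalizer (M : Set G) := hsub.trans (sup_le le_normalizer fun d hd =>
        mem_normalizer_iff.2 fun v => ⟨hMD d hd v, fun hv => by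
          simpa [mul_assoc] using hMD _ (inv_mem hd) _ hv⟩)
      refine mem_centralizer_iff.2 fun l hl => ?_
      exact (mem_centralizer_iff.1 (opG_le_of_sup inf_le_left hn hsub hl).2 i
        ⟨1, one_mem _, by simp⟩).symm
    · refine sup_le (fun i hi => ⟨b.lag.le hi.1, ?_⟩) fun w hw =>
        ⟨b.ctx.setup.le_S (b.ctx.W_le hw),
          mem_centralizer_iff.2 fun x hx => b.ctx.D_comm_W (b.nCirc_le hx) hw⟩
      have hle2 : nCirc p A ≤ centralizer {i} := iSup_le fun h => by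
        rintro _ ⟨x, hx, rfl⟩
        rw [mem_centralizer_singleton_iff]
        have h1 : x * i = i * x := by
          obtain ⟨u, hu, w, hw, rfl⟩ := mem_sup_of_normal_right.1 hx
          have e1 := b.comm_A_iPart hu.1 hi
          have e2 : w * i = i * w := (b.ctx.D_comm_W hi.2.1 hw).symm
          exact ((show Commute u i from e1).mul_left e2).eq
        rw [show i = cj (h : G) i from (b.iPart_conj h.2 hi).symm, ← map_mul, ← map_mul, h1]
      exact mem_centralizer_iff.2 fun x hx => mem_centralizer_singleton_iff.1 (hle2 hx)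
  refine ⟨hXY, hY1, ?_⟩
  rw [← b.centralizer_yPart, show yPart p S A = _ from hY1]
  ext x
  constructor
  · intro hx
    refine ⟨b.ctx.setup.le_S hx.1, ?_⟩
    rw [CD.centralizer_sup]
    exact ⟨hx.2, mem_centralizer_iff.2 fun w hw => (b.ctx.D_comm_W hx.1 hw).symm⟩
  · intro hx
    have h2 : x ∈ centralizer ((iPart p A ⊔ W : Subgroup G) : Set G) := hx.2
    rw [CD.centralizer_sup] at h2
    exact ⟨b.mem_D_of_comm hx.1 fun w hw => (mem_centralizer_iff.1 h2.2 w hw).symm, h2.1⟩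

theorem large_xPart : Large S (xPart p A) := by rw [b.core_facts.2.2]; exact b.large_nCirc

theorem centralizer_xPart :
    S ⊓ centralizer (xPart p A : Set G) = iPart p A ⊔ centralizer (Cfsg.pCore p G : Set G) := by
  rw [b.core_facts.2.2, ← b.core_facts.2.1]; rfl

theorem xo_le_xPart : xo p G ≤ xPart p A := by
  rw [b.core_facts.2.2, ← b.centralizer_yPart]
  exact le_inf (xo_le_pCore.trans b.ctx.setup.le_S)
    (commutator_eq_bot_iff_le_centralizer.1 b.core_facts.1)

theorem uPartW_le_xPart : uPart p A ⊔ centralizer (Cfsg.pCore p G : Set G) ≤ xPart p A := by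
  rw [b.core_facts.2.2]; exact b.le_nCirc

theorem xPart_conj {g : G} (hg : g ∈ opG p G ⊔ A) {x : G} (hx : x ∈ xPart p A) :
    g * x * g⁻¹ ∈ xPart p A := by
  rw [b.core_facts.2.2] at hx ⊢
  exact b.nCirc_conj hg hx

theorem xPart_cj {h : G} (hh : h ∈ opG p G) : (xPart p A).map (cj h) = xPart p A := by
  ext v
  rw [mem_map_cj]
  refine ⟨fun hv => ?_, fun hv => ?_⟩
  · simpa [mul_assoc] using b.xPart_conj (mem_sup_left hh) hv
  · simpa [mul_assoc] using b.xPart_conj (mem_sup_left (inv_mem hh)) hv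

theorem iPart_le_cj {h : G} (hh : h ∈ opG p G) : iPart p A ≤ (uPart p A).map (cj h) := fun i hi =>
  ⟨i, b.iPart_le_uPart hi, b.iPart_conj hh hi⟩

theorem iPart_le_xPart : iPart p A ≤ xPart p A :=
  b.iPart_le_uPart.trans (le_sup_left.trans b.uPartW_le_xPart)

/-- Every opposite pair: `X ≤ U U^g` and `U ∩ U^g ≤ I`. -/
theorem opp_facts {g : G} (hg : Opp ψ g) :
    xPart p A ≤ uPart p A ⊔ (uPart p A).map (cj g) ∧
      uPart p A ⊓ (uPart p A).map (cj g) ≤ iPart p A := by
  set D := Cfsg.pCore p G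
  set W := centralizer (D : Set G)
  set U := uPart p A
  haveI : W.Normal := inferInstance
  set L := A ⊔ A.map (cj g)
  set N2 := ⨆ s : pp p L, (U ⊔ W).map (cj (s : G))
  obtain ⟨-, hWX, hcD, hcS, -, -⟩ := b.pair hg
  have hN2le : N2 ≤ U ⊔ U.map (cj g) := iSup_le fun s => by
    rintro _ ⟨x, hx, rfl⟩
    exact b.pair_conj hg (pp_le L s.2) (sup_le le_sup_left hWX hx)
  have hX : xPart p A ≤ U ⊔ U.map (cj g) := by
    have hN2X : N2 ≤ xPart p A := iSup_le fun s =>
      (map_mono b.uPartW_le_xPart).trans (b.xPart_cj (pp_mono le_top s.2)).le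
    have hDp : IsPGroup p (xPart p A) := PSolvable.pCore_isPGroup.to_le inf_le_left
    suffices h : N2 = xPart p A from h ▸ hN2le
    refine mem_of_maximal_normal hDp hN2X fun M hM hMX hMn => le_antisymm hMX ?_
    rw [b.core_facts.2.2]
    refine iSup_le fun h => ?_
    obtain ⟨x, hx, s, hs, hxs⟩ : ∃ x ∈ xo p G, ∃ s ∈ pp p L, x * s = (h : G) :=
      mem_sup_of_normal_left.1 (((b.ctx.opG_le_sup (b.gen_top hg)).2.trans (sup_comm _ _).le) h.2)
    rintro _ ⟨v, hv, rfl⟩
    have h1 : cj s v ∈ M := hM (le_iSup (fun s : pp p L => (U ⊔ W).map (cj (s : G))) ⟨s, hs⟩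
      (mem_map_of_mem _ hv))
    have h2 := hMn x (b.xo_le_xPart hx) _ h1
    rw [show cj (h : G) v = x * cj s v * x⁻¹ by rw [← hxs]; simp [cj_apply, mul_assoc]]
    exact h2
  refine ⟨hX, fun u hu => ?_⟩
  have h1 : u ∈ iPart p A ⊔ W := by
    rw [← b.centralizer_xPart]
    refine ⟨b.lag.le hu.1.1, centralizer_le hX ?_⟩
    exact ((le_sup_left (b := W)).trans (hcS.ge.trans inf_le_right)) hu
  obtain ⟨i, hi, w, hw, rfl⟩ := mem_sup_of_normal_right.1 h1
  have hwA : w ∈ zen S := by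
    rw [← b.ctx.W_inf b.lag b.out]
    have h2 : i * w ∈ A := hu.1.1
    have h3 : i ∈ A := hi.1
    exact ⟨hw, by simpa using mul_mem (inv_mem h3) h2⟩
  refine mul_mem hi (b.center_le_iPart ?_)
  rw [← b.ctx.W_inf_opG b.lag b.out]
  refine ⟨hw, ?_⟩
  have hsup : pp p L ⊔ D ≤ centralizer {w} := sup_le (fun l hl => by
    rw [mem_centralizer_singleton_iff]
    have e1 : i * w * l = l * (i * w) :=
      mem_centralizer_iff.1 (b.pair_le_centralizer g (pp_le L hl)) _ hu
    have e2 : l * i = i * l := mem_centralizer_iff.1 hi.2.2 l (pp_mono le_top hl) |>.symm.symm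
    calc l * w = i⁻¹ * (i * l) * w := by group
      _ = i⁻¹ * (l * i) * w := by rw [e2]
      _ = i⁻¹ * (l * (i * w)) := by group
      _ = i⁻¹ * (i * w * l) := by rw [e1]
      _ = _ := by group)
    fun d hd => mem_centralizer_singleton_iff.2 (b.ctx.D_comm_W hd hw)
  exact mem_centralizer_iff.2 fun l hl =>
    mem_centralizer_singleton_iff.1 (hsup ((b.ctx.opG_le_sup (b.gen_top hg)).1 hl))

theorem xPart_eq {g : G} (hg : Opp ψ g) (hgP : g ∈ opG p G) :
    xPart p A = uPart p A ⊔ (uPart p A).map (cj g) :=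
  le_antisymm (b.opp_facts hg).1 (sup_le (le_sup_left.trans b.uPartW_le_xPart)
    ((map_mono (le_sup_left.trans b.uPartW_le_xPart)).trans (b.xPart_cj hgP).le))

theorem inf_eq_iPart {g : G} (hg : Opp ψ g) (hgP : g ∈ opG p G) :
    uPart p A ⊓ (uPart p A).map (cj g) = iPart p A :=
  le_antisymm (b.opp_facts hg).2 (le_inf b.iPart_le_uPart (b.iPart_le_cj hgP))

theorem xPart_dec {g : G} (hg : Opp ψ g) (hgP : g ∈ opG p G) {x : G} (hx : x ∈ xPart p A) :
    ∃ u ∈ uPart p A, ∃ u' ∈ (uPart p A).map (cj g), x = u * u' :=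
  (b.pair hg).1 x (b.xPart_eq hg hgP ▸ hx)

/-- `U' ∩ U'^a = I` and `X = U' U'^a` for `U' = U^g`, `a ∈ A \ O_p(G)`. -/
theorem step_six {g a : G} (hg : Opp ψ g) (hgP : g ∈ opG p G) (ha : a ∈ A)
    (haD : a ∉ Cfsg.pCore p G) :
    (uPart p A).map (cj g) ⊓ ((uPart p A).map (cj g)).map (cj a) = iPart p A ∧
      xPart p A = (uPart p A).map (cj g) ⊔ ((uPart p A).map (cj g)).map (cj a) := by
  set U := uPart p A
  set o := g⁻¹ * a * g * a⁻¹
  have hoP : o ∈ opG p G := by
    rw [show o = g⁻¹ * (a * g * a⁻¹) by simp [o, mul_assoc]]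
    exact mul_mem (inv_mem hgP) ((inferInstance : (opG p G).Normal).conj_mem g hgP a)
  have hho : Opp ψ o := by
    have h1 : Opp ψ (g⁻¹ * a * g⁻¹⁻¹) := b.ctx.opp_conj hg.inv (b.lag.le ha) haD
    rw [inv_inv] at h1
    exact b.ctx.opp_mul_right h1 (inv_mem (b.lag.le ha))
  have hUa : U.map (cj a) = U := by
    ext v
    rw [mem_map_cj]
    refine ⟨fun hv => ?_, fun hv => ?_⟩
    · have e := comm_eq b.lag.comm hv.1 ha
      have : v = a⁻¹ * v * a := by
        calc v = a * (a⁻¹ * v * a) * a⁻¹ := by group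
          _ = a⁻¹ * v * a * a * a⁻¹ := by rw [← e]
          _ = _ := by group
      rw [this]; exact hv
    · rw [mul_assoc, comm_eq b.lag.comm hv.1 ha, inv_mul_cancel_left]
      exact hv
  have e : (U.map (cj g)).map (cj a) = (U.map (cj o)).map (cj g) := by
    conv_rhs => rw [← hUa]
    rw [map_map, map_map, map_map]
    congr 1
    ext v
    simp [cj_apply, o, mul_assoc]
  rw [e, ← map_inf _ _ (cj g) (MulAut.conj g).injective, ← Subgroup.map_sup, b.inf_eq_iPart hho hoP,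
    ← b.xPart_eq hho hoP, b.xPart_cj hgP]
  refine ⟨?_, rfl⟩
  ext v
  rw [mem_map_cj]
  constructor
  · intro hv
    have := b.iPart_conj hgP hv
    rw [show g * (g⁻¹ * v * g) * g⁻¹ = v by group] at this
    rwa [this]
  · intro hv
    rw [show g⁻¹ * v * g = g⁻¹ * v * g⁻¹⁻¹ by rw [inv_inv], b.iPart_conj (inv_mem hgP) hv]
    exact hv

end Base

end Cfsg.Agent.Lib.GNiles
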