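import Mathlib
import Cfsg.Agent.Lib.GNiles.Layer
import Cfsg.Agent.Lib.Coprime.Quotient
/-!
`X = [O_p(G), O^p(G)] I` and `O_p(G) = [O_p(G), O^p(G)] C(σ)`.
-/

set_option autoImplicit false
set_option linter.unusedSectionVars false

namespace Cfsg.Agent.Lib.GNiles

open Subgroup
open Cfsg.Agent.Lib
open Cfsg.Agent.Lib.SL2 (SLtwo PSLtwo proj upper)
open scoped commutatorElement

variable {G : Type*} [Group G] [Finite G] {p : ℕ} [hp : Fact p.Prime]
  {F : Type} [Field F] [Fintype F] {n : ℕ}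
variable {S A : Subgroup G} {ψ : G →* PSLtwo F}

/-- An element of order prime to `p` without fixed points on `X / I`, and supplementing `S`. -/
structure Sigma (p : ℕ) (S A : Subgroup G) (σ : G) : Prop where
  coprime : p.Coprime (orderOf σ)
  fix : ∀ x ∈ xPart p A, ⁅σ, x⁆ ∈ iPart p A → x ∈ iPart p A
  gen : S ⊔ zpowers σ = ⊤

namespace Sigma

variable {σ : G} (hσ : Sigma p S A σ)

include hσ

theorem mem_opG : σ ∈ opG p G := mem_pp (mem_top σ) hσ.coprime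

end Sigma

namespace Base

variable (b : Base p S A n ψ)

include b

theorem exists_sigma : ∃ σ : G, Sigma p S A σ := by
  obtain ⟨g, hgP, hg⟩ := b.ctx.exists_opp
  obtain ⟨a, ha, haD⟩ := SetLike.not_le_iff_exists.1 b.out
  obtain ⟨t, ht0, ht⟩ := b.ctx.exists_t (b.lag.le ha) haD
  obtain ⟨M, hM⟩ := SL2.proj_surjective (ψ g)
  have hc := hg M hM
  have hlow : ∃ a₁ ∈ A, a₁ ∉ Cfsg.pCore p G ∧
      ((ψ ((g * a₁ * g⁻¹)⁻¹ * a)) ^ (2 : ℕ) = 1 ∧ p ≠ 2 ∨
        (ψ ((g * a₁ * g⁻¹)⁻¹ * a)) ^ (3 : ℕ) = 1 ∧ p = 2) := by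
    classical
    set tr : F := if p = 2 then 1 else 0
    obtain ⟨s, hs, hsψ⟩ := b.ctx.setup.exists_mem ((tr - 2) / (t * M 1 0 * M 1 0))
    obtain ⟨a₁, ha₁, d, hd, rfl⟩ := b.ctx.exists_mul b.lag b.out hs
    have hψ : ψ a₁ = proj (upper ((tr - 2) / (t * M 1 0 * M 1 0))) := by
      rw [← hsψ, map_mul, show ψ d = 1 from b.ctx.setup.le_ker hd, mul_one]
    refine ⟨a₁, ha₁, fun hD => ?_, ?_⟩
    · have h1 : ψ a₁ = 1 := b.ctx.setup.le_ker hD
      rw [hψ] at h1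
      have h2 := RankOnePush.proj_upper_inj (h1.trans (by rw [SL2.upper_zero, map_one] :
        (1 : PSLtwo F) = proj (upper 0)))
      have h3 : tr - 2 ≠ 0 := by
        rcases eq_or_ne p 2 with h | h
        · have h2F : (2 : F) = 0 := by
            haveI : CharP F p := charP_of_card_eq_prime_pow b.ctx.setup.card
            rw [h] at *
            exact_mod_cast CharP.cast_eq_zero F 2
          simp [tr, h, h2F]
        · haveI : CharP F p := charP_of_card_eq_prime_pow b.ctx.setup.card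
          have h2F : (2 : F) ≠ 0 := by
            intro h0
            have : ((2 : ℕ) : F) = 0 := by exact_mod_cast h0
            rw [CharP.cast_eq_zero_iff F p] at this
            exact h ((Nat.prime_dvd_prime_iff_eq hp.out Nat.prime_two).1 this)
          simp [tr, h, h2F]
      exact h3 ((div_eq_zero_iff.1 h2).resolve_right (mul_ne_zero (mul_ne_zero ht0 hc) hc))
    · set t₁ := (tr - 2) / (t * M 1 0 * M 1 0)
      set K : SLtwo F := (M * upper t₁ * M⁻¹)⁻¹ * upper t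
      have hK : proj K = ψ ((g * a₁ * g⁻¹)⁻¹ * a) := by
        simp only [K, map_mul, map_inv, hM, hψ, ht]
      have htr : SL2.tr K = tr := by
        have hd := SL2.det_entries M
        have e : t₁ * (t * M 1 0 * M 1 0) = tr - 2 :=
          div_mul_cancel₀ _ (mul_ne_zero (mul_ne_zero ht0 hc) hc)
        simp [K, SL2.tr, SL2.mul_00, SL2.mul_01, SL2.mul_10, SL2.mul_11, SL2.inv_00, SL2.inv_01,
          SL2.inv_10, SL2.inv_11]
        linear_combination e + (2 : F) * hd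
      have hCH := SL2.cayley_hamilton K
      rw [htr] at hCH
      rw [← hK]
      rcases eq_or_ne p 2 with h | h
      · right
        refine ⟨?_, h⟩
        rw [← map_pow, SL2.proj_eq_one_iff, SL2.mem_center_iff_eq]
        right
        simp only [tr, h, if_true, one_smul] at hCH
        apply Subtype.ext
        have e1 : (K : Matrix (Fin 2) (Fin 2) F) * K = (K : Matrix (Fin 2) (Fin 2) F) - 1 := by
          linear_combination (norm := noncomm_ring) hCH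
        show ((K : Matrix (Fin 2) (Fin 2) F)) ^ 3 = -(1 : Matrix (Fin 2) (Fin 2) F)
        rw [pow_succ, pow_two, e1, sub_mul, one_mul, e1]
        abel
      · left
        refine ⟨?_, h⟩
        rw [← map_pow, SL2.proj_eq_one_iff, SL2.mem_center_iff_eq]
        right
        simp only [tr, h, if_false, zero_smul] at hCH
        apply Subtype.ext
        show ((K : Matrix (Fin 2) (Fin 2) F)) ^ 2 = -(1 : Matrix (Fin 2) (Fin 2) F)
        rw [pow_two]
        linear_combination (norm := noncomm_ring) hCH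
  obtain ⟨a₁, ha₁, ha₁D, hord⟩ := hlow
  set k := (g * a₁ * g⁻¹)⁻¹ * a
  set e := (orderOf k).factorization p
  obtain ⟨r, hr, hcop⟩ : ∃ r : ℕ, ψ k ^ r = 1 ∧ p.Coprime r := by
    rcases hord with ⟨h1, h2⟩ | ⟨h1, h2⟩
    · exact ⟨2, h1, (Nat.coprime_primes hp.out Nat.prime_two).2 h2⟩
    · exact ⟨3, h1, (Nat.coprime_primes hp.out Nat.prime_three).2 (by omega)⟩
  have hkG : k ∈ opG p G ⊔ A := mul_mem (inv_mem (mul_mem (mul_mem (mem_sup_left hgP)
    (mem_sup_right ha₁)) (inv_mem (mem_sup_left hgP)))) (mem_sup_right ha)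
  refine ⟨k ^ p ^ e, ?_, ?_, ?_⟩
  · rw [orderOf_pow_of_dvd (pow_ne_zero _ hp.out.ne_zero) (Nat.ordProj_dvd _ p)]
    exact Nat.coprime_ordCompl hp.out (orderOf_pos k).ne'
  · -- a fixed point of `σ` gives one of `k`
    intro x hx hxσ
    by_contra hxI
    set m := orderOf k / p ^ e
    let Fix : Subgroup G :=
      { carrier := {y | y ∈ xPart p A ∧ ⁅k ^ p ^ e, y⁆ ∈ iPart p A}
        one_mem' := ⟨one_mem _, by simp⟩
        mul_mem' := fun {y z} hy hz => ⟨mul_mem hy.1 hz.1, by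
          rw [show ⁅k ^ p ^ e, y * z⁆ = ⁅k ^ p ^ e, y⁆ * (y * ⁅k ^ p ^ e, z⁆ * y⁻¹) by
            simp [commutatorElement_def, mul_assoc], b.conj_iPart hy.1 hz.2]
          exact mul_mem hy.2 hz.2⟩
        inv_mem' := fun {y} hy => ⟨inv_mem hy.1, by
          rw [show ⁅k ^ p ^ e, y⁻¹⁆ = y⁻¹ * ⁅k ^ p ^ e, y⁆⁻¹ * y⁻¹⁻¹ by
            simp [commutatorElement_def, mul_assoc],
            b.conj_iPart (inv_mem hy.1) (inv_mem hy.2)]
          exact inv_mem hy.2⟩ }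
    set kp := k ^ m
    have hFn : ∀ y ∈ Fix, ∀ s ∈ zpowers kp, ⁅y, s⁆ ∈ Fix := by
      intro y hy s hs
      obtain ⟨z, rfl⟩ := hs
      have hsG : kp ^ z ∈ opG p G ⊔ A := zpow_mem (pow_mem hkG m) z
      have hcm : Commute (kp ^ z) (k ^ p ^ e) := ((Commute.refl k).pow_pow m (p ^ e)).zpow_left z
      have h1 : kp ^ z * y⁻¹ * (kp ^ z)⁻¹ ∈ Fix := by
        refine ⟨b.xPart_conj hsG (inv_mem hy.1), ?_⟩
        have h2 := (Fix.inv_mem hy).2
        rw [show ⁅k ^ p ^ e, kp ^ z * y⁻¹ * (kp ^ z)⁻¹⁆ = kp ^ z * ⁅k ^ p ^ e, y⁻¹⁆ * (kp ^ z)⁻¹ by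
          have e1 := hcm.eq
          have e2 := hcm.inv_inv.eq
          simp only [commutatorElement_def, mul_assoc, mul_inv_rev, inv_inv]
          calc k ^ p ^ e * (kp ^ z * (y⁻¹ * ((kp ^ z)⁻¹ * ((k ^ p ^ e)⁻¹ * (kp ^ z * (y * (kp ^ z)⁻¹))))))
              = (k ^ p ^ e * kp ^ z) * y⁻¹ * ((kp ^ z)⁻¹ * (k ^ p ^ e)⁻¹) * kp ^ z * y * (kp ^ z)⁻¹ := by group
            _ = (kp ^ z * k ^ p ^ e) * y⁻¹ * ((k ^ p ^ e)⁻¹ * (kp ^ z)⁻¹) * kp ^ z * y * (kp ^ z)⁻¹ := by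
                rw [e1, e2]
            _ = _ := by group, b.opA_conj_iPart hsG h2]
        exact h2
      rw [show ⁅y, kp ^ z⁆ = y * (kp ^ z * y⁻¹ * (kp ^ z)⁻¹) by rw [commutatorElement_def]; group]
      exact Fix.mul_mem hy h1
    have hkp : IsPGroup p (zpowers kp) := by
      refine IsPGroup.of_card (n := e) ?_
      rw [Nat.card_zpowers, orderOf_pow_of_dvd (by
        exact (Nat.ordCompl_pos p (orderOf_pos k).ne').ne') (Nat.ordCompl_dvd _ p)]
      exact Nat.div_div_self (Nat.ordProj_dvd _ p) (orderOf_pos k).ne'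
    have hFixp : IsPGroup p Fix :=
      PSolvable.pCore_isPGroup.to_le (fun y hy => b.xPart_le_pCore hy.1)
    have hnorm : zpowers kp ≤ normalizer (Fix : Set G) := fun s hs => mem_normalizer_iff.2 fun y =>
      ⟨fun hy => by
        rw [show s * y * s⁻¹ = ⁅y, s⁆⁻¹ * y by simp [commutatorElement_def, mul_assoc]]
        exact mul_mem (inv_mem (hFn _ hy s hs)) hy, fun hy => by
        have h1 := hFn _ hy s⁻¹ (inv_mem hs)
        have := mul_mem (inv_mem h1) hy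
        rwa [show ⁅s * y * s⁻¹, s⁻¹⁆⁻¹ * (s * y * s⁻¹) = y by
          simp [commutatorElement_def, mul_assoc]] at this⟩
    obtain ⟨y, hy, hyI, hyk⟩ := exists_fixed_mod (hkp.to_sup_of_normal_right' hFixp hnorm)
      (P := zpowers kp) (K := Fix) (H := iPart p A) le_sup_left le_sup_right
      (fun h => hxI (h ⟨hx, hxσ⟩)) hFn
    refine hyI (b.fix_mem_iPart hg hgP ha haD ha₁ ha₁D hy.1 ?_)
    let St : Subgroup G :=
      { carrier := {s | s ∈ opG p G ⊔ A ∧ ⁅s, y⁆ ∈ iPart p A}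
        one_mem' := ⟨one_mem _, by simp⟩
        mul_mem' := fun {s s'} hs hs' => ⟨mul_mem hs.1 hs'.1, by
          rw [show ⁅s * s', y⁆ = s * ⁅s', y⁆ * s⁻¹ * ⁅s, y⁆ by simp [commutatorElement_def, mul_assoc],
            b.opA_conj_iPart hs.1 hs'.2]
          exact mul_mem hs'.2 hs.2⟩
        inv_mem' := fun {s} hs => ⟨inv_mem hs.1, by
          rw [show ⁅s⁻¹, y⁆ = s⁻¹ * ⁅s, y⁆⁻¹ * s⁻¹⁻¹ by simp [commutatorElement_def, mul_assoc],
            b.opA_conj_iPart (inv_mem hs.1) (inv_mem hs.2)]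
          exact inv_mem hs.2⟩ }
    have hs1 : k ^ p ^ e ∈ St := ⟨pow_mem hkG _, hy.2⟩
    have hs2 : kp ∈ St := ⟨pow_mem hkG _, by
      rw [← commutatorElement_inv]; exact inv_mem (hyk kp (mem_zpowers kp))⟩
    suffices hk : k ∈ St from hk.2
    have hg1 : Nat.gcd (p ^ e) m = 1 :=
      Nat.Coprime.pow_left e (Nat.coprime_ordCompl hp.out (orderOf_pos k).ne')
    obtain ⟨u, v, huv⟩ : ∃ u v : ℤ, ((p ^ e : ℕ) : ℤ) * u + (m : ℤ) * v = 1 :=
      ⟨Nat.gcdA (p ^ e) m, Nat.gcdB (p ^ e) m, by rw [← Nat.gcd_eq_gcd_ab, hg1]; rfl⟩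
    have : k = (k ^ p ^ e) ^ u * kp ^ v := by
      rw [← zpow_natCast k (p ^ e), ← zpow_mul, show kp = k ^ (m : ℤ) from (zpow_natCast k m).symm,
        ← zpow_mul, ← zpow_add, huv, zpow_one]
    rw [this]
    exact mul_mem (zpow_mem hs1 u) (zpow_mem hs2 v)
  · -- `σ` has an opposite image
    set σ := k ^ p ^ e
    refine b.ctx.setup.full _ le_sup_left ?_
    have hψk : ψ k ∈ (S ⊔ zpowers σ).map ψ := by
      obtain ⟨u, v, huv⟩ : ∃ u v : ℤ, ((p ^ e : ℕ) : ℤ) * u + (r : ℤ) * v = 1 :=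
        ⟨Nat.gcdA (p ^ e) r, Nat.gcdB (p ^ e) r, by
          rw [← Nat.gcd_eq_gcd_ab, show Nat.gcd (p ^ e) r = 1 from Nat.Coprime.pow_left e hcop]; rfl⟩
      refine ⟨σ ^ u, mem_sup_right (zpow_mem (mem_zpowers σ) u), ?_⟩
      have h1 : ψ k ^ (r : ℤ) = 1 := by rw [zpow_natCast, hr]
      rw [map_zpow, map_pow, ← zpow_natCast, ← zpow_mul]
      calc ψ k ^ (((p ^ e : ℕ) : ℤ) * u)
          = ψ k ^ (((p ^ e : ℕ) : ℤ) * u) * (ψ k ^ (r : ℤ)) ^ v := by rw [h1, one_zpow, mul_one]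
        _ = ψ k := by rw [← zpow_mul, ← zpow_add, huv, zpow_one]
    have ha' : ψ (g * a₁ * g⁻¹) ∈ (S ⊔ zpowers σ).map ψ := by
      have h1 := mul_mem (mem_map_of_mem ψ (mem_sup_left (b.lag.le ha) : a ∈ S ⊔ zpowers σ)) (inv_mem hψk)
      rwa [show ψ a * (ψ k)⁻¹ = ψ (g * a₁ * g⁻¹) by simp [k, mul_assoc]] at h1
    refine RankOnePush.eq_top_of_two (x := ψ (g * a₁ * g⁻¹))
      (b.ctx.setup.image ▸ map_mono le_sup_left) (fun u hu => ?_) ?_
    · obtain ⟨s, hs, rfl⟩ : u ∈ S.map ψ := b.ctx.setup.image.symm ▸ hu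
      exact mul_mem (mul_mem ha' (mem_map_of_mem ψ (mem_sup_left hs))) (inv_mem ha')
    · obtain ⟨s, hs, hsψ⟩ := b.ctx.setup.exists_mem 1
      refine ⟨proj (upper 1), RankOnePush.mem_upperP.2 ⟨1, rfl⟩, fun hmem => ?_⟩
      have hop := b.ctx.opp_conj hg (b.lag.le ha₁) ha₁D
      obtain ⟨N, hN⟩ := SL2.proj_surjective (ψ (g * a₁ * g⁻¹))
      rw [← hN, ← map_inv, ← map_mul, ← map_mul] at hmem
      obtain ⟨v, hv⟩ := RankOnePush.mem_upperP.1 hmem
      have e10 : (N * upper 1 * N⁻¹ : SLtwo F) 1 0 = 0 := by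
        rcases SL2.proj_eq_proj_iff.1 hv with e | e <;> simp [e]
      simp [SL2.mul_10, SL2.mul_11, SL2.inv_00, SL2.inv_10] at e10
      exact hop N hN (mul_self_eq_zero.1 (by linear_combination (-1 : F) * e10))

variable {σ : G} (hσ : Sigma p S A σ)

include hσ

theorem sigma_comm_xo {x : G} (hx : x ∈ xPart p A) : ⁅σ, x⁆ ∈ xo p G := by
  rw [← commutatorElement_inv]
  exact inv_mem (commutator_mem_commutator (b.xPart_le_pCore hx) hσ.mem_opG)

theorem exists_sigma_comm {x : G} (hx : x ∈ xPart p A) :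
    ∃ x₀ ∈ xPart p A, ∃ i ∈ iPart p A, x = ⁅σ, x₀⁆ * i := by
  set X := xPart p A
  set J := (iPart p A).subgroupOf X
  haveI hJ : J.Normal := ⟨fun i hi y => by
    show ((y * i * y⁻¹ : X) : G) ∈ iPart p A
    have hi' : (i : G) ∈ iPart p A := hi
    rw [coe_mul, coe_mul, coe_inv]
    exact (b.conj_iPart (x := (y : G)) y.2 hi').symm ▸ hi'⟩
  have hσX : ∀ y ∈ X, ⁅σ, y⁆ ∈ X := fun y hy => b.xo_le_xPart (b.sigma_comm_xo hσ hy)
  let f : X →* X ⧸ J :=
    { toFun := fun y => QuotientGroup.mk ⟨⁅σ, (y : G)⁆, hσX y y.2⟩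
      map_one' := by
        rw [QuotientGroup.eq_one_iff]
        show ⁅σ, ((1 : X) : G)⁆ ∈ iPart p A
        simp
      map_mul' := fun y z => by
        rw [← QuotientGroup.mk_mul, QuotientGroup.eq]
        show ⁅σ, ((y * z : X) : G)⁆⁻¹ * (⁅σ, (y : G)⁆ * ⁅σ, (z : G)⁆) ∈ iPart p A
        rw [show ⁅σ, ((y * z : X) : G)⁆⁻¹ * (⁅σ, (y : G)⁆ * ⁅σ, (z : G)⁆) =
          ⁅(y : G), ⁅σ, (z : G)⁆⁻¹⁆ by simp [commutatorElement_def, mul_assoc]]
        exact b.xx_mem y.2 (inv_mem (hσX z z.2)) }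
  have hker : f.ker ≤ J := fun y hy => hσ.fix y y.2 (show ⁅σ, (y : G)⁆ ∈ iPart p A from
    (QuotientGroup.eq_one_iff (⟨⁅σ, (y : G)⁆, hσX y y.2⟩ : X)).1 hy)
  have hsurj : f.range = ⊤ := by
    refine eq_top_of_card_eq _ (le_antisymm (card_le_card_group _) ?_)
    rw [← index_ker, ← index_eq_card]
    exact Nat.le_of_dvd (Nat.pos_of_ne_zero index_ne_zero_of_finite) (index_dvd_of_le hker)
  obtain ⟨y, hy⟩ := hsurj.ge (mem_top (QuotientGroup.mk ⟨x, hx⟩ : X ⧸ J))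
  exact ⟨y, y.2, _, (QuotientGroup.eq.1 hy : ((⟨⁅σ, (y : G)⁆, hσX y y.2⟩ : X)⁻¹ * ⟨x, hx⟩) ∈ J),
    by simp [commutatorElement_def, mul_assoc]⟩

theorem exists_dec_D {d : G} (hd : d ∈ Cfsg.pCore p G) :
    ∃ x ∈ xo p G, ∃ c ∈ Cfsg.pCore p G, Commute σ c ∧ d = x * c := by
  have hn : zpowers σ ≤ normalizer (xo p G : Set G) :=
    (normalizer_eq_top_iff.2 (inferInstance : (xo p G).Normal)).symm ▸ le_top
  obtain ⟨j, hj⟩ := (PSolvable.pCore_isPGroup.to_le xo_le_pCore : IsPGroup p (xo p G)).exists_card_eq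
  have hcop : (Nat.card (zpowers σ)).Coprime (Nat.card (xo p G)) := by
    rw [Nat.card_zpowers, hj]
    exact (hσ.coprime.pow_left j).symm
  have hsolv : Group.IsSolvable (zpowers σ) ∨ Group.IsSolvable (xo p G) := Or.inr (by
    haveI : Group.IsNilpotent (xo p G) :=
      (PSolvable.pCore_isPGroup.to_le xo_le_pCore : IsPGroup p (xo p G)).isNilpotent
    infer_instance)
  obtain ⟨c, hc, hcN⟩ := Coprime.exists_centralizer_mem_rightCoset hn hcop hsolv (k := d)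
    (fun a ha => by
      rw [show a * d * a⁻¹ * d⁻¹ = ⁅d, a⁆⁻¹ by simp [commutatorElement_def, mul_assoc]]
      exact inv_mem (commutator_mem_commutator hd ((zpowers_le.2 hσ.mem_opG) ha)))
  refine ⟨(c * d⁻¹)⁻¹, inv_mem hcN, c, ?_, mem_centralizer_iff.1 hc σ (mem_zpowers σ), by group⟩
  have := mul_mem (xo_le_pCore hcN) hd
  rwa [inv_mul_cancel_right] at this

theorem mem_xo_mul {x : G} (hx : x ∈ xPart p A) : ∃ y ∈ xo p G, ∃ i ∈ iPart p A, x = y * i := by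
  obtain ⟨x₀, hx₀, i, hi, e⟩ := b.exists_sigma_comm hσ hx
  exact ⟨_, b.sigma_comm_xo hσ hx₀, i, hi, e⟩

omit hσ in
theorem xPart_inf_c0 : xPart p A ⊓ c0 p G = iPart p A := by
  refine le_antisymm (fun x hx => ?_) (le_inf b.iPart_le_xPart inf_le_right)
  obtain ⟨σ, hσ⟩ := b.exists_sigma
  refine hσ.fix x hx.1 ?_
  rw [commutatorElement_eq_one_iff_mul_comm.2 (mem_centralizer_iff.1 hx.2.2 σ hσ.mem_opG)]
  exact one_mem _

omit hσ in
theorem xPart_eq_sup : xPart p A = xo p G ⊔ iPart p A := by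
  refine le_antisymm (fun x hx => ?_) (sup_le b.xo_le_xPart b.iPart_le_xPart)
  obtain ⟨σ, hσ⟩ := b.exists_sigma
  obtain ⟨y, hy, i, hi, rfl⟩ := b.mem_xo_mul hσ hx
  exact mul_mem (mem_sup_left hy) (mem_sup_right hi)

omit hσ in
theorem xoxo_mem {x y : G} (hx : x ∈ xo p G) (hy : y ∈ xo p G) : ⁅x, y⁆ ∈ c0 p G :=
  (b.xx_mem (b.xo_le_xPart hx) (b.xo_le_xPart hy)).2

omit hσ in
/-- An element of `U` is an element of `U ∩ [O_p(G), O^p(G)]` times one of `I`. -/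
theorem uPart_dec {u : G} (hu : u ∈ uPart p A) :
    ∃ y ∈ uPart p A, y ∈ xo p G ∧ ∃ i ∈ iPart p A, u = y * i := by
  obtain ⟨σ, hσ⟩ := b.exists_sigma
  obtain ⟨y, hy, i, hi, e⟩ := b.mem_xo_mul hσ (b.uPart_le_xPart hu)
  refine ⟨y, ?_, hy, i, hi, e⟩
  rw [show y = u * i⁻¹ by rw [e]; group]
  exact mul_mem hu (inv_mem (b.iPart_le_uPart hi))

omit hσ in
theorem xo_dec {g : G} (hg : Opp ψ g) (hgP : g ∈ opG p G) {x : G} (hx : x ∈ xo p G) :
    ∃ u ∈ uPart p A, u ∈ xo p G ∧ ∃ u' ∈ (uPart p A).map (cj g), u' ∈ xo p G ∧ x = u * u' := by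
  obtain ⟨u, hu, u', hu', rfl⟩ := b.xPart_dec hg hgP (b.xo_le_xPart hx)
  obtain ⟨y, hy, hyx, i, hi, rfl⟩ := b.uPart_dec hu
  refine ⟨y, hy, hyx, i * u', mul_mem (b.iPart_le_cj hgP hi) hu', ?_, by group⟩
  have := mul_mem (inv_mem hyx) hx
  rwa [show y⁻¹ * (y * i * u') = i * u' by group] at this

end Base

end Cfsg.Agent.Lib.GNiles
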