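import Mathlib
import Cfsg.Agent.Lib.GNiles.Sigma
/-!
The index `h` and the subgroup generated by all the conjugates of the `(A ∩ O_p(G)) W`.
-/

set_option autoImplicit false
set_option linter.unusedSectionVars false

namespace Cfsg.Agent.Lib.GNiles

open Subgroup
open Cfsg.Agent.Lib
open Cfsg.Agent.Lib.SL2 (SLtwo PSLtwo)
open scoped commutatorElement Pointwise

variable {G : Type*} [Group G] [Finite G] {p : ℕ} [hp : Fact p.Prime]
  {F : Type} [Field F] [Fintype F] {n : ℕ}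
variable {S A : Subgroup G} {ψ : G →* PSLtwo F}

/-- `W C_D(O^p(G))`. -/
abbrev wc (p : ℕ) (G : Type*) [Group G] [Finite G] : Subgroup G :=
  centralizer (Cfsg.pCore p G : Set G) ⊔ c0 p G

/-- `|[D, O^p(G)] W C / W C|`, the square of `h`. -/
noncomputable def hSq (p : ℕ) (G : Type*) [Group G] [Finite G] : ℕ := (wc p G).relIndex (xo p G)

/-- The join of all conjugates of all `(B ∩ O_p(G)) W`. -/
def dxPart (p : ℕ) (S : Subgroup G) : Subgroup G :=
  sSup {H | ∃ B, IsLag S B ∧ ¬ B ≤ Cfsg.pCore p G ∧ ∃ g : G,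
    H = (uPart p B ⊔ centralizer (Cfsg.pCore p G : Set G)).map (cj g)}

/-- The elements of `O_p(G)` centralising `[O_p(G), O^p(G)]` modulo `C_D(O^p(G))`. -/
def dmPart (p : ℕ) (G : Type*) [Group G] [Finite G] : Subgroup G where
  carrier := {d | d ∈ Cfsg.pCore p G ∧ ∀ x ∈ xo p G, ⁅x, d⁆ ∈ c0 p G}
  one_mem' := ⟨one_mem _, fun x _ => by simp⟩
  mul_mem' {d e} hd he := ⟨mul_mem hd.1 he.1, fun x hx => by
    rw [show ⁅x, d * e⁆ = ⁅x, d⁆ * (d * ⁅x, e⁆ * d⁻¹) by simp [commutatorElement_def, mul_assoc]]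
    exact mul_mem (hd.2 x hx) (c0_normal.conj_mem _ (he.2 x hx) d)⟩
  inv_mem' {d} hd := ⟨inv_mem hd.1, fun x hx => by
    rw [show ⁅x, d⁻¹⁆ = d⁻¹ * ⁅x, d⁆⁻¹ * d⁻¹⁻¹ by simp [commutatorElement_def, mul_assoc]]
    exact c0_normal.conj_mem _ (inv_mem (hd.2 x hx)) d⁻¹⟩

theorem mem_dmPart {d : G} :
    d ∈ dmPart p G ↔ d ∈ Cfsg.pCore p G ∧ ∀ x ∈ xo p G, ⁅x, d⁆ ∈ c0 p G := Iff.rfl

instance dmPart_normal : (dmPart p G).Normal :=
  ⟨fun d hd g => ⟨(inferInstance : (Cfsg.pCore p G).Normal).conj_mem d hd.1 g, fun x hx => by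
    have h1 := hd.2 _ ((inferInstance : (xo p G).Normal).conj_mem x hx g⁻¹)
    have := c0_normal.conj_mem _ h1 g
    simpa [commutatorElement_def, mul_assoc] using this⟩⟩

namespace Base

variable (b : Base p S A n ψ)

include b

theorem iW_le_uW : iPart p A ⊔ centralizer (Cfsg.pCore p G : Set G) ≤
    uPart p A ⊔ centralizer (Cfsg.pCore p G : Set G) := sup_le_sup_right b.iPart_le_uPart _

theorem wc_inf_xPart : wc p G ⊓ xPart p A = iPart p A ⊔ centralizer (Cfsg.pCore p G : Set G) := by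
  refine le_antisymm (fun x hx => ?_) (le_inf (sup_le (inf_le_right.trans le_sup_right) le_sup_left)
    (sup_le b.iPart_le_xPart b.W_le_xPart))
  obtain ⟨w, hw, e, he, rfl⟩ := mem_sup_of_normal_left.1 hx.1
  have hwX : w ∈ xPart p A := b.W_le_xPart hw
  have hwe : w * e ∈ xPart p A := hx.2
  have heX : e ∈ xPart p A := by simpa using mul_mem (inv_mem hwX) hwe
  exact mul_mem (mem_sup_right hw) (mem_sup_left (b.xPart_inf_c0.le ⟨heX, he⟩))

theorem xo_inf_wc {x : G} (hx : x ∈ xo p G) :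
    x ∈ wc p G ↔ x ∈ iPart p A ⊔ centralizer (Cfsg.pCore p G : Set G) := by
  rw [← b.wc_inf_xPart]
  exact ⟨fun h => ⟨h, b.xo_le_xPart hx⟩, fun h => h.1⟩

theorem relIndex_wc_uW : (wc p G).relIndex (uPart p A ⊔ centralizer (Cfsg.pCore p G : Set G)) =
    (iPart p A ⊔ centralizer (Cfsg.pCore p G : Set G)).relIndex
      (uPart p A ⊔ centralizer (Cfsg.pCore p G : Set G)) := by
  rw [← inf_relIndex_right (wc p G)]
  congr 1
  rw [← b.wc_inf_xPart]
  refine le_antisymm (inf_le_inf_left _ b.uPartW_le_xPart) (le_inf inf_le_left ?_)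
  rw [b.wc_inf_xPart]
  exact b.iW_le_uW

theorem hSq_eq : hSq p G = (wc p G).relIndex (uPart p A ⊔ centralizer (Cfsg.pCore p G : Set G)) *
    (wc p G).relIndex (uPart p A ⊔ centralizer (Cfsg.pCore p G : Set G)) := by
  set W := centralizer (Cfsg.pCore p G : Set G)
  set IW := iPart p A ⊔ W
  set UW := uPart p A ⊔ W
  haveI : (wc p G).Normal := inferInstance
  obtain ⟨g, hgP, hg⟩ := b.ctx.exists_opp
  haveI : W.Normal := inferInstance
  have e1 : hSq p G = IW.relIndex (xPart p A) := by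
    rw [show IW = wc p G ⊓ xPart p A from b.wc_inf_xPart.symm, inf_relIndex_right, hSq,
      ← relIndex_sup_right (xo p G) (wc p G), ← relIndex_sup_right (xPart p A) (wc p G)]
    congr 1
    refine le_antisymm (sup_le_sup_right b.xo_le_xPart _) (sup_le ?_ le_sup_right)
    rw [b.xPart_eq_sup]
    exact sup_le le_sup_left ((inf_le_right.trans le_sup_right).trans le_sup_right)
  rw [e1, b.relIndex_wc_uW]
  set UW' := UW.map (cj g)
  have hUW'lag : IsLag S UW' := (b.ctx.lagUW b.lag b.out).map_conj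
    (((map_mono (sup_le inf_le_right b.ctx.W_le)).trans (map_cj_normal _ g).le).trans b.ctx.setup.le_S)
  obtain ⟨-, -, hmul, -⟩ := b.sat.sup_inf (b.sat.large_lag (b.ctx.lagUW b.lag b.out))
    (b.sat.large_lag hUW'lag)
  have hX : xPart p A = UW ⊔ UW' := by
    refine le_antisymm ?_ (sup_le b.uPartW_le_xPart
      ((map_mono b.uPartW_le_xPart).trans (b.xPart_cj hgP).le))
    rw [b.xPart_eq hg hgP]
    exact sup_le_sup le_sup_left (map_mono le_sup_left)
  have hI : UW ⊓ UW' = IW := by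
    refine le_antisymm (fun x hx => ?_) (le_inf b.iW_le_uW ?_)
    · obtain ⟨u, hu, w, hw, rfl⟩ := mem_sup_of_normal_right.1 hx.1
      have h1 : u * w ∈ (uPart p A).map (cj g) ⊔ W := by
        have h0 : u * w ∈ UW' := hx.2
        rwa [show UW' = (uPart p A).map (cj g) ⊔ W by
          rw [show UW' = UW.map (cj g) from rfl, Subgroup.map_sup, map_cj_normal W g]] at h0
      have hw' : w ∈ (uPart p A).map (cj g) ⊔ W := mem_sup_right hw
      obtain ⟨i, hi, z, hz, rfl⟩ := (b.pair hg).2.2.2.2.2 u hu (by simpa using mul_mem h1 (inv_mem hw'))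
      exact mul_mem (mul_mem (mem_sup_left ((b.inf_eq_iPart hg hgP).le hi))
        (mem_sup_right (b.ctx.zen_le_W hz))) (mem_sup_right hw)
    · rw [show UW' = UW.map (cj g) from rfl, Subgroup.map_sup, map_cj_normal W g]
      exact sup_le_sup_right (b.iPart_le_cj hgP) _
  have hset : ((UW ⊔ UW' : Subgroup G) : Set G) = (UW : Set G) * (UW' : Set G) :=
    le_antisymm (fun x hx => by
      obtain ⟨a, ha, a', ha', rfl⟩ := hmul x hx; exact Set.mul_mem_mul ha ha')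
      (CD.setMul_subset_sup _ _)
  have hcard := CD.card_setMul_mul_card_inf UW UW'
  rw [← hset, hI, ← hX, show Nat.card UW' = Nat.card UW from card_map_cj UW g] at hcard
  replace hcard : Nat.card (xPart p A) * Nat.card IW = Nat.card UW * Nat.card UW := hcard
  have h2 : Nat.card (xPart p A) = Nat.card IW * IW.relIndex (xPart p A) := by
    rw [← relIndex_bot_left, ← relIndex_mul_relIndex ⊥ IW _ bot_le
      (sup_le b.iPart_le_xPart b.W_le_xPart), relIndex_bot_left]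
  have h3 : Nat.card UW = Nat.card IW * IW.relIndex UW := by
    rw [← relIndex_bot_left, ← relIndex_mul_relIndex ⊥ IW _ bot_le b.iW_le_uW, relIndex_bot_left]
  rw [h2, h3] at hcard
  refine Nat.eq_of_mul_eq_mul_left (Nat.mul_pos (Nat.card_pos : 0 < Nat.card IW)
    (Nat.card_pos : 0 < Nat.card IW)) ?_
  calc _ = Nat.card IW * IW.relIndex (xPart p A) * Nat.card IW := by ring
    _ = _ := hcard
    _ = _ := by ring

theorem conj_iW {k y : G} (hk : k ∈ opG p G ⊔ A)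
    (hy : y ∈ iPart p A ⊔ centralizer (Cfsg.pCore p G : Set G)) :
    k * y * k⁻¹ ∈ iPart p A ⊔ centralizer (Cfsg.pCore p G : Set G) := by
  obtain ⟨i, hi, w, hw, rfl⟩ := mem_sup_of_normal_right.1 hy
  rw [show k * (i * w) * k⁻¹ = (k * i * k⁻¹) * (k * w * k⁻¹) by group, b.opA_conj_iPart hk hi]
  exact mul_mem (mem_sup_left hi) (mem_sup_right
    ((inferInstance : (centralizer (Cfsg.pCore p G : Set G)).Normal).conj_mem w hw k))

theorem comm_injOn {g u' a c : G} (hg : Opp ψ g) (hgP : g ∈ opG p G) (ha : a ∈ A) (hc : c ∈ A)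
    (hu' : u' ∈ (uPart p A).map (cj g))
    (hu'n : u' ∉ iPart p A ⊔ centralizer (Cfsg.pCore p G : Set G))
    (h : ⁅a, u'⁆⁻¹ * ⁅c, u'⁆ ∈ iPart p A ⊔ centralizer (Cfsg.pCore p G : Set G)) :
    a⁻¹ * c ∈ Cfsg.pCore p G := by
  by_contra hD
  refine hu'n (b.fix_uConj_mod hg hgP (mul_mem (inv_mem ha) hc) hD hu' ?_)
  have hv : a * ⁅a⁻¹ * c, u'⁆ * a⁻¹ * ⁅a, u'⁆ = ⁅c, u'⁆ := by
    simp [commutatorElement_def, mul_assoc]
  have hUW := b.ctx.lagUW b.lag b.out
  have hmem : a * ⁅a⁻¹ * c, u'⁆ * a⁻¹ ∈ uPart p A ⊔ centralizer (Cfsg.pCore p G : Set G) := by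
    obtain ⟨v, hv, w, hw, e⟩ :=
      mem_sup_of_normal_right.1 (b.comm_mem_UW hgP (mul_mem (inv_mem ha) hc) hu')
    rw [← e, show a * (v * w) * a⁻¹ = (a * v * a⁻¹) * (a * w * a⁻¹) by group, b.A_comm_u ha hv,
      mul_inv_cancel_right]
    exact mul_mem (mem_sup_left hv) (mem_sup_right
      ((inferInstance : (centralizer (Cfsg.pCore p G : Set G)).Normal).conj_mem w hw a))
  have hcm := comm_eq hUW.comm (b.comm_mem_UW hgP ha hu') hmem
  have h2 : a * ⁅a⁻¹ * c, u'⁆ * a⁻¹ ∈ iPart p A ⊔ centralizer (Cfsg.pCore p G : Set G) := by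
    have e : a * ⁅a⁻¹ * c, u'⁆ * a⁻¹ = ⁅a, u'⁆⁻¹ * ⁅c, u'⁆ := by
      rw [← hv, ← hcm]; group
    rw [e]; exact h
  have h3 := b.conj_iW (mem_sup_right (inv_mem ha)) h2
  rwa [inv_inv, show a⁻¹ * (a * ⁅a⁻¹ * c, u'⁆ * a⁻¹) * a = ⁅a⁻¹ * c, u'⁆ by group] at h3

/-- A nonempty quotient `U W / I W` has at least `q` elements. -/
theorem le_relIndex_uW (h : (wc p G).relIndex (uPart p A ⊔ centralizer (Cfsg.pCore p G : Set G)) ≠ 1) :
    p ^ n ≤ (wc p G).relIndex (uPart p A ⊔ centralizer (Cfsg.pCore p G : Set G)) := by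
  obtain ⟨g, hgP, hg⟩ := b.ctx.exists_opp
  rw [b.relIndex_wc_uW] at h ⊢
  set W := centralizer (Cfsg.pCore p G : Set G)
  set IW := iPart p A ⊔ W
  set UW := uPart p A ⊔ W
  obtain ⟨u', hu', hu'n⟩ : ∃ u' ∈ (uPart p A).map (cj g), u' ∉ IW := by
    by_contra hcon
    push Not at hcon
    refine h (relIndex_eq_one.2 (sup_le (fun u hu => ?_) le_sup_right))
    have h2 := b.conj_iW (mem_sup_left (inv_mem hgP)) (hcon _ (mem_map_of_mem (cj g) hu))
    rwa [inv_inv, cj_apply, show g⁻¹ * (g * u * g⁻¹) * g = u by group] at h2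
  let f : A ⧸ (Cfsg.pCore p G).subgroupOf A → UW ⧸ IW.subgroupOf UW := fun x =>
    QuotientGroup.mk ⟨⁅(x.out : G), u'⁆, b.comm_mem_UW hgP x.out.2 hu'⟩
  rw [← b.ctx.relIndex_lag b.lag b.out]
  refine Nat.card_le_card_of_injective f fun x y e => ?_
  rw [← QuotientGroup.out_eq' x, ← QuotientGroup.out_eq' y]
  exact QuotientGroup.eq.2
    (b.comm_injOn hg hgP x.out.2 y.out.2 hu' hu'n (mem_subgroupOf.1 (QuotientGroup.eq.1 e)))

theorem uW_le_dxPart : uPart p A ⊔ centralizer (Cfsg.pCore p G : Set G) ≤ dxPart p S :=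
  le_sSup ⟨A, b.lag, b.out, 1, by
    ext x
    rw [mem_map_cj]
    simp⟩

omit hp in
theorem dxPart_normal : (dxPart p S).Normal := by
  refine ⟨fun x hx g => ?_⟩
  suffices h : (dxPart p S).map (cj g) ≤ dxPart p S from h (mem_map_of_mem _ hx)
  rw [dxPart, map_le_iff_le_comap, sSup_le_iff]
  rintro H ⟨B, hB, hBD, k, rfl⟩
  refine map_le_iff_le_comap.1 (le_sSup ⟨B, hB, hBD, g * k, ?_⟩)
  rw [map_map]
  congr 1
  ext v
  simp [cj_apply, mul_assoc]

theorem dxPart_le_pCore : dxPart p S ≤ Cfsg.pCore p G := by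
  refine sSup_le ?_
  rintro H ⟨B, -, -, k, rfl⟩
  exact (map_mono (sup_le inf_le_right b.ctx.W_le)).trans (map_cj_normal _ k).le

theorem large_dxPart : Large S (dxPart p S) := by
  refine b.sat.large_sSup ⟨_, A, b.lag, b.out, 1, rfl⟩ ?_
  rintro H ⟨B, hB, hBD, k, rfl⟩
  exact b.sat.large_lag ((b.ctx.lagUW hB hBD).map_conj
    (((map_mono (sup_le inf_le_right b.ctx.W_le)).trans (map_cj_normal _ k).le).trans b.ctx.setup.le_S))

theorem dxPart_le_xo_sup : dxPart p S ≤ xo p G ⊔ c0 p G := by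
  refine sSup_le ?_
  rintro H ⟨B, hB, hBD, k, rfl⟩
  have b' : Base p S B n ψ := ⟨b.ctx, b.sat, hB, hBD⟩
  refine (map_mono ?_).trans (map_cj_normal (xo p G ⊔ c0 p G) k).le
  refine b'.uPartW_le_xPart.trans ?_
  rw [b'.xPart_eq_sup]
  exact sup_le_sup_left inf_le_right _

theorem cent_dxPart_le :
    S ⊓ centralizer (dxPart p S : Set G) ≤ iPart p A ⊔ centralizer (Cfsg.pCore p G : Set G) := by
  rw [← b.centralizer_xPart, b.core_facts.2.2]
  refine inf_le_inf_left _ (centralizer_le (SetLike.coe_subset_coe.2 (iSup_le fun h => ?_)))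
  exact le_sSup ⟨A, b.lag, b.out, (h : G), rfl⟩

theorem cent_dxPart_comm : S ⊓ centralizer (dxPart p S : Set G) ≤ dxPart p S :=
  b.cent_dxPart_le.trans (b.iW_le_uW.trans b.uW_le_dxPart)

theorem xo_le_dxPart : xo p G ≤ dxPart p S :=
  b.xo_le_xPart.trans (by
    rw [b.core_facts.2.2]
    exact iSup_le fun h => le_sSup ⟨A, b.lag, b.out, (h : G), rfl⟩)

theorem dxPart_le_dmPart : dxPart p S ≤ dmPart p G := fun d hd => by
  refine ⟨b.dxPart_le_pCore hd, fun x hx => ?_⟩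
  obtain ⟨m, hm, e, he, rfl⟩ := mem_sup_of_normal_left.1 (b.dxPart_le_xo_sup hd)
  rw [show ⁅x, m * e⁆ = ⁅x, m⁆ * (m * ⁅x, e⁆ * m⁻¹) by simp [commutatorElement_def, mul_assoc],
    commutatorElement_eq_one_iff_mul_comm.2 (xo_comm_c0 hx he), mul_one, mul_inv_cancel, mul_one]
  exact b.xoxo_mem hx hm

/-- Every abelian subgroup of largest order outside `O_p(G)` lies in `A` times `dxPart`. -/
theorem lag_le (B : Subgroup G) (hB : IsLag S B) (hBD : ¬ B ≤ Cfsg.pCore p G) :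
    B ≤ A ⊔ dxPart p S := fun x hx => by
  have b' : Base p S B n ψ := ⟨b.ctx, b.sat, hB, hBD⟩
  obtain ⟨a, ha, d, hd, rfl⟩ := b.ctx.exists_mul b.lag b.out (hB.le hx)
  refine mul_mem (mem_sup_left ha) (mem_sup_right ?_)
  rw [← b.sat.centralizer_centralizer b.large_dxPart]
  refine ⟨b.ctx.setup.le_S hd, mem_centralizer_iff.2 fun y hy => ?_⟩
  obtain ⟨i, hi, w, hw, e⟩ := mem_sup_of_normal_right.1 (b.cent_dxPart_le hy)
  obtain ⟨i₁, hi₁, w₁, hw₁, e₁⟩ := mem_sup_of_normal_right.1 (b'.cent_dxPart_le hy)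
  have hc : i₁⁻¹ * i ∈ center G := by
    have hcc : i₁⁻¹ * i ∈ c0 p G := mul_mem (inv_mem hi₁.2) hi.2
    rw [← b.ctx.W_inf_c0 b.lag b.out]
    suffices hcW : i₁⁻¹ * i ∈ centralizer (Cfsg.pCore p G : Set G) from ⟨hcW, hcc⟩
    have h1 : i₁⁻¹ * i = w₁ * w⁻¹ := by
      calc i₁⁻¹ * i = i₁⁻¹ * (i * w) * w⁻¹ := by group
        _ = i₁⁻¹ * (i₁ * w₁) * w⁻¹ := by rw [e, e₁]
        _ = _ := by group
    rw [h1]
    exact mul_mem hw₁ (inv_mem hw)
  have hiB : i ∈ B := by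
    have h2 : i₁⁻¹ * i ∈ B := hB.zen_le (b.ctx.center_le_zen hc)
    have h3 : i₁ ∈ B := hi₁.1
    simpa using mul_mem h3 h2
  have hid : Commute i d := by
    have h3 : Commute i (a * d) := comm_eq hB.comm hiB hx
    have h4 : Commute i a := (b.comm_A_iPart ha hi).symm
    have h5 := h4.inv_right.mul_right h3
    rwa [inv_mul_cancel_left] at h5
  rw [← e]
  exact (hid.mul_left (b.ctx.D_comm_W hd hw).symm).eq

/-- `O_p(G)` is generated by `dxPart` and the abelian subgroups of largest order inside it. -/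
theorem pCore_le_join (hJ : S ≤ sSup {B | IsLag S B}) :
    Cfsg.pCore p G ≤ sSup {B | IsLag S B ∧ B ≤ Cfsg.pCore p G} ⊔ dxPart p S := by
  set D := Cfsg.pCore p G
  set J := sSup {B | IsLag S B ∧ B ≤ D}
  haveI : J.Normal := by
    refine ⟨fun x hx g => ?_⟩
    suffices h : J.map (cj g) ≤ J from h (mem_map_of_mem _ hx)
    rw [map_le_iff_le_comap, sSup_le_iff]
    rintro B ⟨hB, hBD⟩
    have hgB : B.map (cj g) ≤ D := (map_mono hBD).trans (map_cj_normal D g).le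
    exact map_le_iff_le_comap.1 (le_sSup ⟨hB.map_conj (hgB.trans b.ctx.setup.le_S), hgB⟩)
  haveI := b.dxPart_normal
  have hS : S ≤ A ⊔ (J ⊔ dxPart p S) := hJ.trans (sSup_le fun B hB => by
    by_cases hBD : B ≤ D
    · exact le_sup_of_le_right (le_sup_of_le_left (le_sSup ⟨hB, hBD⟩))
    · exact (b.lag_le B hB hBD).trans (sup_le_sup_left le_sup_right _))
  intro d hd
  obtain ⟨a, ha, e, he, rfl⟩ := mem_sup_of_normal_right.1 (hS (b.ctx.setup.le_S hd))
  have hED : J ⊔ dxPart p S ≤ D := sup_le (sSup_le fun B hB => hB.2) b.dxPart_le_pCore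
  have haD : a ∈ D := by simpa using mul_mem hd (inv_mem (hED he))
  exact mul_mem (mem_sup_right (b.uW_le_dxPart (mem_sup_left ⟨ha, haD⟩))) he

theorem comm_A_mem_dxPart {a d : G} (ha : a ∈ A) (hd : d ∈ Cfsg.pCore p G) :
    ⁅a, d⁆ ∈ dxPart p S := by
  haveI := b.dxPart_normal
  by_cases haD : a ∈ Cfsg.pCore p G
  · have h := b.uW_le_dxPart (mem_sup_left ⟨ha, haD⟩)
    rw [show ⁅a, d⁆ = a * (d * a⁻¹ * d⁻¹) by rw [commutatorElement_def]; group]
    exact mul_mem h ((inferInstance : (dxPart p S).Normal).conj_mem _ (inv_mem h) d)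
  have hA' : IsLag S (A.map (cj d)) := b.lag.map_conj (by
    rintro _ ⟨x, hx, rfl⟩
    exact mul_mem (mul_mem (b.ctx.setup.le_S hd) (b.lag.le hx)) (inv_mem (b.ctx.setup.le_S hd)))
  have hA'D : ¬ A.map (cj d) ≤ Cfsg.pCore p G := fun h =>
    b.ctx.conj_not_mem d haD (h (mem_map_of_mem _ ha))
  obtain ⟨c, hc, e, he, hce⟩ :=
    mem_sup_of_normal_right.1 (b.lag_le _ hA' hA'D (mem_map_of_mem (cj d) (inv_mem ha)))
  rw [show ⁅a, d⁆ = a * cj d a⁻¹ by simp [cj_apply, commutatorElement_def, mul_assoc], ← hce,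
    ← mul_assoc]
  refine mul_mem (b.uW_le_dxPart (mem_sup_left ⟨mul_mem ha hc, ?_⟩)) he
  have h1 : a * cj d a⁻¹ ∈ Cfsg.pCore p G := by
    rw [cj_apply, show a * (d * a⁻¹ * d⁻¹) = (a * d * a⁻¹) * d⁻¹ by group]
    exact mul_mem ((inferInstance : (Cfsg.pCore p G).Normal).conj_mem d hd a) (inv_mem hd)
  rw [← hce, ← mul_assoc] at h1
  simpa using mul_mem h1 (inv_mem (b.dxPart_le_pCore he))

end Base

end Cfsg.Agent.Lib.GNiles
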