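import Mathlib
import Cfsg.Agent.Lib.GNiles.Conjugates
/-!
For `h ≤ q`, all of `O_p(G)` centralises `[O_p(G), O^p(G)]` modulo `C_D(O^p(G))`.
-/

set_option autoImplicit false
set_option linter.unusedSectionVars false

namespace Cfsg.Agent.Lib.GNiles

open Subgroup
open Cfsg.Agent.Lib
open Cfsg.Agent.Lib.SL2 (SLtwo PSLtwo)
open scoped commutatorElement

variable {G : Type*} [Group G] [Finite G] {p : ℕ} [hp : Fact p.Prime]
  {F : Type} [Field F] [Fintype F] {n : ℕ}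
variable {S A : Subgroup G} {ψ : G →* PSLtwo F}

namespace Base

variable (b : Base p S A n ψ)

include b

theorem uW_le_of_comm {g u' : G} (hg : Opp ψ g) (hgP : g ∈ opG p G) {K : Subgroup G}
    (hq : (wc p G).relIndex (uPart p A ⊔ centralizer (Cfsg.pCore p G : Set G)) ≤ p ^ n)
    (hu' : u' ∈ (uPart p A).map (cj g))
    (hu'n : u' ∉ iPart p A ⊔ centralizer (Cfsg.pCore p G : Set G))
    (hIW : iPart p A ⊔ centralizer (Cfsg.pCore p G : Set G) ≤ K)
    (hK : ∀ a ∈ A, ⁅a, u'⁆ ∈ K) : uPart p A ⊔ centralizer (Cfsg.pCore p G : Set G) ≤ K := by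
  rw [b.relIndex_wc_uW] at hq
  set W := centralizer (Cfsg.pCore p G : Set G)
  set IW := iPart p A ⊔ W
  set UW := uPart p A ⊔ W
  let f : A ⧸ (Cfsg.pCore p G).subgroupOf A → UW ⧸ IW.subgroupOf UW := fun x =>
    QuotientGroup.mk ⟨⁅(x.out : G), u'⁆, b.comm_mem_UW hgP x.out.2 hu'⟩
  have hinj : Function.Injective f := fun x y e => by
    rw [← QuotientGroup.out_eq' x, ← QuotientGroup.out_eq' y]
    exact QuotientGroup.eq.2
      (b.comm_injOn hg hgP x.out.2 y.out.2 hu' hu'n (mem_subgroupOf.1 (QuotientGroup.eq.1 e)))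
  have hbij : Function.Bijective f := by
    refine hinj.bijective_of_nat_card_le ?_
    show IW.relIndex UW ≤ (Cfsg.pCore p G).relIndex A
    rw [b.ctx.relIndex_lag b.lag b.out]
    exact hq
  intro v hv
  obtain ⟨x, hx⟩ := hbij.2 (QuotientGroup.mk ⟨v, hv⟩)
  have h1 : ⁅(x.out : G), u'⁆⁻¹ * v ∈ IW := mem_subgroupOf.1 (QuotientGroup.eq.1 hx)
  simpa only [mul_inv_cancel_left] using mul_mem (hK _ x.out.2) (hIW h1)

/-- For `h ≤ q`, `[O_p(G), O^p(G)]` has no proper invariant subgroup above its part in `W C`. -/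
theorem xo_le_of_invariant {K : Subgroup G}
    (hq : (wc p G).relIndex (uPart p A ⊔ centralizer (Cfsg.pCore p G : Set G)) ≤ p ^ n)
    (hbase : ∀ x ∈ xo p G, x ∈ wc p G → x ∈ K)
    (hinv : ∀ g ∈ opG p G ⊔ A, ∀ x ∈ xo p G, x ∈ K → g * x * g⁻¹ ∈ K)
    {x : G} (hx : x ∈ xo p G) (hxK : x ∈ K) (hxn : x ∉ wc p G) : xo p G ≤ K := by
  set W := centralizer (Cfsg.pCore p G : Set G)
  haveI hXn : (xo p G).Normal := inferInstance
  obtain ⟨g, hgP, hg⟩ := b.ctx.exists_opp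
  have hgG : g ∈ opG p G ⊔ A := mem_sup_left hgP
  obtain ⟨u', hu', hu'x, hu'K, hu'n⟩ : ∃ u' ∈ (uPart p A).map (cj g),
      u' ∈ xo p G ∧ u' ∈ K ∧ u' ∉ wc p G := by
    obtain ⟨u, hu, hux, u', hu', hu'x, rfl⟩ := b.xo_dec hg hgP hx
    by_cases h : u' ∈ wc p G
    · have hu'K := hbase u' hu'x h
      have huK : u ∈ K := by simpa using mul_mem hxK (inv_mem hu'K)
      refine ⟨g * u * g⁻¹, mem_map_of_mem (cj g) hu, hXn.conj_mem u hux g,
        hinv g hgG u hux huK, fun hh => hxn (mul_mem ?_ h)⟩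
      simpa [mul_assoc] using (inferInstance : (wc p G).Normal).conj_mem _ hh g⁻¹
    · -- commutators of `u u'` with `A` give those of `u'`
      obtain ⟨a, ha, haD⟩ := SetLike.not_le_iff_exists.1 b.out
      have hcx : ⁅a, u'⁆ ∈ xo p G := by
        rw [show ⁅a, u'⁆ = a * u' * a⁻¹ * u'⁻¹ from rfl]
        exact mul_mem (hXn.conj_mem u' hu'x a) (inv_mem hu'x)
      have h1 : u * ⁅a, u'⁆ * u⁻¹ ∈ K := by
        have := mul_mem (hinv a (mem_sup_right ha) _ hx hxK) (inv_mem hxK)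
        rwa [show a * (u * u') * a⁻¹ * (u * u')⁻¹ = u * ⁅a, u'⁆ * u⁻¹ by
          calc a * (u * u') * a⁻¹ * (u * u')⁻¹
              = (a * u) * u' * a⁻¹ * u'⁻¹ * u⁻¹ := by group
            _ = (u * a) * u' * a⁻¹ * u'⁻¹ * u⁻¹ := by rw [b.A_comm_u ha hu]
            _ = _ := by simp [commutatorElement_def, mul_assoc]] at this
      have hcK : ⁅a, u'⁆ ∈ K := by
        have h2 : ⁅u, ⁅a, u'⁆⁆ ∈ K := hbase _ (by
          rw [commutatorElement_def]
          exact mul_mem (mul_mem (mul_mem hux hcx) (inv_mem hux)) (inv_mem hcx))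
          (mem_sup_right (b.xoxo_mem hux hcx))
        rw [show ⁅a, u'⁆ = ⁅u, ⁅a, u'⁆⁆⁻¹ * (u * ⁅a, u'⁆ * u⁻¹) by
          simp [commutatorElement_def, mul_assoc]]
        exact mul_mem (inv_mem h2) h1
      have hcn : ⁅a, u'⁆ ∉ wc p G := fun hh => h ((b.xo_inf_wc hu'x).2
        (b.fix_uConj_mod hg hgP ha haD hu' ((b.xo_inf_wc hcx).1 hh)))
      obtain ⟨v, hv, w, hw, e⟩ := mem_sup_of_normal_right.1 (b.comm_mem_UW hgP ha hu')
      obtain ⟨y, hy, hyx, i, hi, rfl⟩ := b.uPart_dec hv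
      have hiw : i * w ∈ iPart p A ⊔ W := mul_mem (mem_sup_left hi) (mem_sup_right hw)
      have hiwx : i * w ∈ xo p G := by
        rw [show i * w = y⁻¹ * ⁅a, u'⁆ by rw [← e]; group]
        exact mul_mem (inv_mem hyx) hcx
      have hyK : y ∈ K := by
        rw [show y = ⁅a, u'⁆ * (i * w)⁻¹ by rw [← e]; group]
        exact mul_mem hcK (inv_mem (hbase _ hiwx ((b.xo_inf_wc hiwx).2 hiw)))
      refine ⟨g * y * g⁻¹, mem_map_of_mem (cj g) hy, hXn.conj_mem y hyx g,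
        hinv g hgG y hyx hyK, fun hh => hcn ?_⟩
      have hyw : y ∈ wc p G := by
        simpa [mul_assoc] using (inferInstance : (wc p G).Normal).conj_mem _ hh g⁻¹
      rw [← e, show y * i * w = y * (i * w) by group]
      exact mul_mem hyw ((b.xo_inf_wc hiwx).2 hiw)
  -- all of `U ∩ [D, O^p(G)]` is reached
  have hu'nIW : u' ∉ iPart p A ⊔ W := fun h => hu'n ((b.xo_inf_wc hu'x).2 h)
  have hUW : ∀ v ∈ uPart p A, v ∈ xo p G → v ∈ K := by
    intro v hv hvx
    set K' := (xo p G ⊓ K) ⊔ (iPart p A ⊔ W)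
    have hle := b.uW_le_of_comm hg hgP (K := K') hq hu' hu'nIW le_sup_right fun a ha => by
      have h1 : ⁅a, u'⁆ ∈ xo p G := mul_mem (hXn.conj_mem u' hu'x a) (inv_mem hu'x)
      have h2 : ⁅a, u'⁆ ∈ K := mul_mem (hinv a (mem_sup_right ha) u' hu'x hu'K) (inv_mem hu'K)
      exact mem_sup_left ⟨h1, h2⟩
    have hn : iPart p A ⊔ W ≤ normalizer ((xo p G ⊓ K : Subgroup G) : Set G) := by
      intro y hy
      have hcomm : ∀ t ∈ xo p G, y * t * y⁻¹ = t := fun t ht => by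
        have : t * y = y * t := by
          have h2 : y ∈ centralizer (xPart p A : Set G) := (b.centralizer_xPart.ge hy).2
          exact mem_centralizer_iff.1 h2 t (b.xo_le_xPart ht)
        rw [← this, mul_inv_cancel_right]
      refine mem_normalizer_iff.2 fun t => ⟨fun ht => (hcomm t ht.1).symm ▸ ht, fun ht => ?_⟩
      have ht1 : t ∈ xo p G := by simpa [mul_assoc] using hXn.conj_mem _ ht.1 y⁻¹
      exact hcomm t ht1 ▸ ht
    have hv' : v ∈ ((K' : Subgroup G) : Set G) := hle (mem_sup_left hv)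
    rw [coe_mul_of_right_le_normalizer_left _ _ hn] at hv'
    obtain ⟨k, hk, y, hy, rfl⟩ := Set.mem_mul.1 hv'
    have hk1 : k ∈ xo p G := hk.1
    have hyx : y ∈ xo p G := by simpa using mul_mem (inv_mem hk1) hvx
    exact mul_mem hk.2 (hbase y hyx ((b.xo_inf_wc hyx).2 hy))
  intro y hy
  obtain ⟨v, hv, hvx, v', hv', hv'x, rfl⟩ := b.xo_dec hg hgP hy
  refine mul_mem (hUW v hv hvx) ?_
  obtain ⟨z, hz, rfl⟩ := hv'
  have hzx : z ∈ xo p G := by simpa [cj_apply, mul_assoc] using hXn.conj_mem _ hv'x g⁻¹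
  exact hinv g hgG z hzx (hUW z hz hzx)

/-- For `h ≤ q`, `O_p(G)` centralises `[O_p(G), O^p(G)]` modulo `C_D(O^p(G))`. -/
theorem dmPart_eq (hJ : S ≤ sSup {B | IsLag S B})
    (hq : (wc p G).relIndex (uPart p A ⊔ centralizer (Cfsg.pCore p G : Set G)) ≤ p ^ n) :
    Cfsg.pCore p G ≤ dmPart p G := by
  set D := Cfsg.pCore p G
  set W := centralizer (D : Set G)
  haveI hWn : W.Normal := inferInstance
  haveI hKn : (wc p G).Normal := inferInstance
  haveI hXn : (xo p G).Normal := inferInstance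
  have hbase : ∀ d ∈ D, ∀ x ∈ wc p G, ⁅x, d⁆ ∈ c0 p G := fun d hd x hx => by
    obtain ⟨w, hw, e, he, rfl⟩ := mem_sup_of_normal_left.1 hx
    rw [show ⁅w * e, d⁆ = w * ⁅e, d⁆ * w⁻¹ * ⁅w, d⁆ by simp [commutatorElement_def, mul_assoc],
      commutatorElement_eq_one_iff_mul_comm.2 (b.ctx.D_comm_W hd hw).symm, mul_one]
    refine c0_normal.conj_mem _ ?_ w
    rw [show ⁅e, d⁆ = e * (d * e⁻¹ * d⁻¹) by rw [commutatorElement_def]; group]
    exact mul_mem he (c0_normal.conj_mem _ (inv_mem he) d)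
  by_cases hxw : xo p G ≤ wc p G
  · exact fun d hd => ⟨hd, fun x hx => hbase d hd x (hxw hx)⟩
  -- `[xo, D] ≤ W C`
  have hxD : ∀ x ∈ xo p G, ∀ d ∈ D, ⁅x, d⁆ ∈ wc p G := by
    let K : Subgroup G :=
      { carrier := {x | x ∈ xo p G ∧ ∀ d ∈ D, ⁅x, d⁆ ∈ wc p G}
        one_mem' := ⟨one_mem _, fun d _ => by simp⟩
        mul_mem' := fun {x y} hx hy => ⟨mul_mem hx.1 hy.1, fun d hd => by
          rw [show ⁅x * y, d⁆ = x * ⁅y, d⁆ * x⁻¹ * ⁅x, d⁆ by simp [commutatorElement_def, mul_assoc]]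
          exact mul_mem (hKn.conj_mem _ (hy.2 d hd) x) (hx.2 d hd)⟩
        inv_mem' := fun {x} hx => ⟨inv_mem hx.1, fun d hd => by
          rw [show ⁅x⁻¹, d⁆ = x⁻¹ * ⁅x, d⁆⁻¹ * x⁻¹⁻¹ by simp [commutatorElement_def, mul_assoc]]
          exact hKn.conj_mem _ (inv_mem (hx.2 d hd)) x⁻¹⟩ }
    obtain ⟨x, hx, hxn, hxd⟩ := exists_fixed_mod b.ctx.setup.isPGroup (P := D) b.ctx.setup.le_S
      (K := xo p G) (H := wc p G) (xo_le_pCore.trans b.ctx.setup.le_S) hxw fun k hk d _ => by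
        rw [show ⁅k, d⁆ = k * (d * k⁻¹ * d⁻¹) by rw [commutatorElement_def]; group]
        exact mul_mem hk (hXn.conj_mem _ (inv_mem hk) d)
    have h := b.xo_le_of_invariant (K := K) hq
      (fun y hy hyw => ⟨hy, fun d hd => mem_sup_right (hbase d hd y hyw)⟩)
      (fun g _ y hy hyK => ⟨hXn.conj_mem y hy g, fun d hd => by
        have h1 := hKn.conj_mem _
          (hyK.2 _ ((inferInstance : D.Normal).conj_mem d hd g⁻¹)) g
        simpa [commutatorElement_def, mul_assoc] using h1⟩)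
      hx ⟨hx, hxd⟩ hxn
    exact fun y hy d hd => (h hy).2 d hd
  -- dichotomy for one element
  have hdich : ∀ d ∈ D, d ∉ dmPart p G → ∀ x ∈ xo p G, ⁅x, d⁆ ∈ c0 p G → x ∈ wc p G := by
    intro d hd hdm x hx hxd
    by_contra hxn
    let K : Subgroup G :=
      { carrier := {y | y ∈ xo p G ∧ ⁅y, d⁆ ∈ c0 p G}
        one_mem' := ⟨one_mem _, by simp⟩
        mul_mem' := fun {y z} hy hz => ⟨mul_mem hy.1 hz.1, by
          rw [show ⁅y * z, d⁆ = y * ⁅z, d⁆ * y⁻¹ * ⁅y, d⁆ by simp [commutatorElement_def, mul_assoc]]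
          exact mul_mem (c0_normal.conj_mem _ hz.2 y) hy.2⟩
        inv_mem' := fun {y} hy => ⟨inv_mem hy.1, by
          rw [show ⁅y⁻¹, d⁆ = y⁻¹ * ⁅y, d⁆⁻¹ * y⁻¹⁻¹ by simp [commutatorElement_def, mul_assoc]]
          exact c0_normal.conj_mem _ (inv_mem hy.2) y⁻¹⟩ }
    have hinv : ∀ g ∈ opG p G ⊔ A, ∀ y ∈ xo p G, y ∈ K → g * y * g⁻¹ ∈ K := by
      intro g hg y hy hyK
      refine ⟨hXn.conj_mem y hy g, ?_⟩
      have hm : ⁅g⁻¹, d⁆ ∈ dmPart p G := by
        obtain ⟨k, hk, a, ha, rfl⟩ := mem_sup_of_normal_left.1 hg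
        have h1 : ⁅k⁻¹, d⁆ ∈ dmPart p G := b.dxPart_le_dmPart (b.xo_le_dxPart (by
          rw [← commutatorElement_inv]
          exact inv_mem (commutator_mem_commutator hd (inv_mem hk))))
        have h2 : ⁅a⁻¹, d⁆ ∈ dmPart p G := b.dxPart_le_dmPart (b.comm_A_mem_dxPart (inv_mem ha) hd)
        rw [show ⁅(k * a)⁻¹, d⁆ = a⁻¹ * ⁅k⁻¹, d⁆ * a⁻¹⁻¹ * ⁅a⁻¹, d⁆ by
          simp [commutatorElement_def, mul_assoc]]
        exact mul_mem (dmPart_normal.conj_mem _ h1 a⁻¹) h2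
      rw [show ⁅g * y * g⁻¹, d⁆ = g * (⁅y, ⁅g⁻¹, d⁆⁆ * (⁅g⁻¹, d⁆ * ⁅y, d⁆ * ⁅g⁻¹, d⁆⁻¹)) * g⁻¹ by
        simp [commutatorElement_def, mul_assoc]]
      exact c0_normal.conj_mem _ (mul_mem (hm.2 y hy) (c0_normal.conj_mem _ hyK.2 _)) g
    have h := b.xo_le_of_invariant (K := K) hq (fun y hy hyw => ⟨hy, hbase d hd y hyw⟩) hinv
      hx ⟨hx, hxd⟩ hxn
    exact hdm ⟨hd, fun y hy => (h hy).2⟩
  -- the abelian subgroups inside `O_p(G)`
  set DX := dxPart p S
  have hJD : sSup {B | IsLag S B ∧ B ≤ D} ≤ dmPart p G := sSup_le fun B ⟨hB, hBD⟩ => by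
    intro y hy
    by_contra hydm
    set C := S ⊓ centralizer (DX : Set G)
    have hCDX : C ≤ DX := b.cent_dxPart_comm
    have hsub : B ⊓ DX ≤ wc p G := fun x hx => by
      obtain ⟨m, hm, e, he, rfl⟩ := mem_sup_of_normal_left.1 (b.dxPart_le_xo_sup hx.2)
      refine mul_mem (hdich y (hBD hy) hydm m hm ?_) (mem_sup_right he)
      have h0 : ⁅m * e, y⁆ = 1 := commutatorElement_eq_one_iff_mul_comm.2 (comm_eq hB.comm hx.1 hy)
      rw [show ⁅m * e, y⁆ = m * ⁅e, y⁆ * m⁻¹ * ⁅m, y⁆ by simp [commutatorElement_def, mul_assoc]] at h0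
      rw [eq_inv_of_mul_eq_one_right h0]
      refine inv_mem (c0_normal.conj_mem _ ?_ m)
      rw [show ⁅e, y⁆ = e * (y * e⁻¹ * y⁻¹) by rw [commutatorElement_def]; group]
      exact mul_mem he (c0_normal.conj_mem _ (inv_mem he) y)
    set R₀ := (B ⊓ DX) ⊔ C
    have hR₀ : R₀ ≤ centralizer (R₀ : Set G) := by
      refine sup_le_centralizer (fun x hx => mem_centralizer_iff.2 fun z hz =>
        comm_eq hB.comm hz.1 hx.1) ((inf_le_right : C ≤ centralizer (DX : Set G)).trans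
          (centralizer_le (SetLike.coe_subset_coe.2 hCDX))) ?_
      exact inf_le_right.trans (le_centralizer_iff.1 inf_le_right)
    have hR₀wc : R₀ ≤ wc p G := sup_le hsub (b.cent_dxPart_le.trans
      (sup_le (inf_le_right.trans le_sup_right) le_sup_left))
    set UX := uPart p A ⊓ xo p G
    have hUX : R₀ ≤ centralizer (UX : Set G) := fun x hx => mem_centralizer_iff.2 fun u hu => by
      obtain ⟨w, hw, e, he, rfl⟩ := mem_sup_of_normal_left.1 (hR₀wc hx)
      exact ((show Commute u w from b.ctx.D_comm_W hu.1.2 hw).mul_right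
        (show Commute u e from xo_comm_c0 hu.2 he)).eq
    have hUXc : UX ≤ centralizer (UX : Set G) := fun x hx => mem_centralizer_iff.2 fun z hz =>
      b.uPart_comm hz.1 hx.1
    have hRS : R₀ ⊔ UX ≤ S := sup_le (sup_le (inf_le_left.trans hB.le) inf_le_left)
      ((inf_le_left.trans inf_le_left).trans b.lag.le)
    have hmax := hB.max _ hRS (sup_le_centralizer hR₀ hUXc hUX)
    -- `|B| ≤ |R₀|`
    have hBR : Nat.card B ≤ Nat.card R₀ := by
      have e2 : B ⊓ DX ⊓ C = B ⊓ C := by rw [inf_assoc, inf_eq_right.2 hCDX]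
      have h1 := CD.card_mul_card_le (B ⊓ DX) C
      have h2 := CD.card_mul_card_le B DX
      have h3 := b.sat.card_le b.large_dxPart
        (sup_le hB.le (b.dxPart_le_pCore.trans b.ctx.setup.le_S) : B ⊔ DX ≤ S)
      rw [CD.centralizer_sup, ← inf_assoc,
        show S ⊓ centralizer (B : Set G) = B from le_antisymm
          (fun x hx => hB.cent hx.1 (mem_centralizer_iff.1 hx.2)) (le_inf hB.le hB.comm),
        show B ⊓ centralizer (DX : Set G) = B ⊓ C from le_antisymm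
          (le_inf inf_le_left (le_inf (inf_le_left.trans hB.le) inf_le_right))
          (inf_le_inf_left _ inf_le_right)] at h3
      rw [e2] at h1
      refine Nat.le_of_mul_le_mul_left (c := Nat.card DX * Nat.card (B ⊓ C : Subgroup G)) ?_
        (Nat.mul_pos Nat.card_pos Nat.card_pos)
      calc Nat.card DX * Nat.card (B ⊓ C : Subgroup G) * Nat.card B
          = Nat.card B * Nat.card DX * Nat.card (B ⊓ C : Subgroup G) := by ring
        _ ≤ Nat.card (B ⊔ DX : Subgroup G) * Nat.card (B ⊓ DX : Subgroup G) *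
            Nat.card (B ⊓ C : Subgroup G) := Nat.mul_le_mul_right _ h2
        _ = Nat.card (B ⊔ DX : Subgroup G) * Nat.card (B ⊓ C : Subgroup G) *
            Nat.card (B ⊓ DX : Subgroup G) := by ring
        _ ≤ Nat.card DX * Nat.card C * Nat.card (B ⊓ DX : Subgroup G) := Nat.mul_le_mul_right _ h3
        _ = Nat.card DX * (Nat.card (B ⊓ DX : Subgroup G) * Nat.card C) := by ring
        _ ≤ Nat.card DX * (Nat.card R₀ * Nat.card (B ⊓ C : Subgroup G)) := Nat.mul_le_mul_left _ h1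
        _ = _ := by ring
    have hUXwc : UX ≤ wc p G := by
      have h1 := CD.card_mul_card_le R₀ UX
      have h2 : Nat.card UX = Nat.card (wc p G ⊓ UX : Subgroup G) * (wc p G).relIndex UX := by
        rw [← relIndex_bot_left, ← relIndex_mul_relIndex ⊥ (wc p G ⊓ UX) UX bot_le inf_le_right,
          relIndex_bot_left, inf_relIndex_right]
      have h3 : Nat.card (R₀ ⊓ UX : Subgroup G) ≤ Nat.card (wc p G ⊓ UX : Subgroup G) :=
        card_le_of_le (inf_le_inf_right _ hR₀wc)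
      refine relIndex_eq_one.1 (le_antisymm ?_ (Nat.one_le_iff_ne_zero.2 index_ne_zero_of_finite))
      refine Nat.le_of_mul_le_mul_left (c := Nat.card R₀ * Nat.card (wc p G ⊓ UX : Subgroup G)) ?_
        (Nat.mul_pos Nat.card_pos Nat.card_pos)
      rw [mul_assoc, ← h2, mul_one]
      exact h1.trans (Nat.mul_le_mul (hmax.trans hBR) h3)
    refine hxw fun x hx => ?_
    obtain ⟨g, hgP, hg⟩ := b.ctx.exists_opp
    obtain ⟨v, hv, hvx, v', hv', hv'x, rfl⟩ := b.xo_dec hg hgP hx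
    refine mul_mem (hUXwc ⟨hv, hvx⟩) ?_
    obtain ⟨z, hz, rfl⟩ := hv'
    have hzx : z ∈ xo p G := by simpa [cj_apply, mul_assoc] using hXn.conj_mem _ hv'x g⁻¹
    exact hKn.conj_mem z (hUXwc ⟨hz, hzx⟩) g
  exact (b.pCore_le_join hJ).trans (sup_le hJD b.dxPart_le_dmPart)

/-- `[A, O_p(G)] ≤ U W C` once `O_p(G)` centralises `[O_p(G), O^p(G)]` modulo `C`. -/
theorem comm_A_pCore (hDM : Cfsg.pCore p G ≤ dmPart p G) {a d : G} (ha : a ∈ A)
    (hd : d ∈ Cfsg.pCore p G) :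
    ⁅a, d⁆ ∈ uPart p A ⊔ centralizer (Cfsg.pCore p G : Set G) ⊔ c0 p G := by
  obtain ⟨m, hm, e, he, hme⟩ :=
    mem_sup_of_normal_left.1 (b.dxPart_le_xo_sup (b.comm_A_mem_dxPart ha hd))
  rw [← hme]
  refine mul_mem (mem_sup_left ((b.ctx.lagUW b.lag b.out).cent
    (b.ctx.setup.le_S (xo_le_pCore hm)) fun v hv => ?_)) (mem_sup_right he)
  obtain ⟨v, hv', w, hw, rfl⟩ := mem_sup_of_normal_right.1 hv
  refine ((show Commute v m from ?_).mul_left (b.ctx.D_comm_W (xo_le_pCore hm) hw).symm).eq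
  obtain ⟨u, hu, hux, i, hi, rfl⟩ := b.uPart_dec hv'
  refine (show Commute u m from ?_).mul_left (b.iPart_comm hi (b.xo_le_xPart hm))
  have hix : ⁅d, u⁆ ∈ xo p G := by
    rw [show ⁅d, u⁆ = d * u * d⁻¹ * u⁻¹ from rfl]
    exact mul_mem ((inferInstance : (xo p G).Normal).conj_mem u hux d) (inv_mem hux)
  have hic : ⁅d, u⁆ ∈ c0 p G := by
    rw [← commutatorElement_inv]; exact inv_mem ((hDM hd).2 u hux)
  have hiI : ⁅d, u⁆ ∈ iPart p A := b.xPart_inf_c0.le ⟨b.xo_le_xPart hix, hic⟩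
  have h1 := b.opA_conj_iPart (mem_sup_right ha) hiI
  have hau : a * u * a⁻¹ = u := by rw [b.A_comm_u ha hu, mul_inv_cancel_right]
  have e1 : a * ⁅d, u⁆ * a⁻¹ = ⁅m * e * d, u⁆ := by
    calc a * ⁅d, u⁆ * a⁻¹ = ⁅a * d * a⁻¹, a * u * a⁻¹⁆ := by simp [commutatorElement_def, mul_assoc]
      _ = _ := by rw [hau, hme]; simp [commutatorElement_def, mul_assoc]
  have hme_comm : m * e * ⁅d, u⁆ * (m * e)⁻¹ = ⁅d, u⁆ := by
    have h2 : Commute (m * e) ⁅d, u⁆ := Commute.mul_left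
      (b.iPart_comm hiI (b.xo_le_xPart hm)).symm (xo_comm_c0 hix he).symm
    rw [h2.eq, mul_inv_cancel_right]
  have e2 : ⁅m * e * d, u⁆ = ⁅d, u⁆ * ⁅m * e, u⁆ := by
    conv_rhs => arg 1; rw [← hme_comm]
    simp [commutatorElement_def, mul_assoc]
  rw [e1, e2] at h1
  have h3 : Commute (m * e) u :=
    commutatorElement_eq_one_iff_commute.1 (mul_eq_left.1 h1)
  have h4 : Commute e u := (xo_comm_c0 hux he).symm
  have := h3.mul_left h4.inv_left
  rw [mul_inv_cancel_right] at this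
  exact this.symm

end Base

end Cfsg.Agent.Lib.GNiles
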