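import Mathlib
import Cfsg.Agent.Lib.GNiles.Small
/-!
Properties of one pushing-up situation used in the comparison of two of them on the same `S`.
-/

set_option autoImplicit false
set_option linter.unusedSectionVars false

namespace Cfsg.Agent.Lib.GNiles

open Subgroup
open Cfsg.Agent.Lib
open Cfsg.Agent.Lib.SL2 (SLtwo PSLtwo)
open scoped commutatorElement

variable {G : Type*} [Group G] [Finite G] {p : ℕ} [hp : Fact p.Prime]
  {F : Type} [Field F] [Fintype F] {n : ℕ}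
variable {S A : Subgroup G} {ψ : G →* PSLtwo F}

/-- The subgroup generated by the `[σ, k]` with `k ∈ K`. -/
def sigC (σ : G) (K : Subgroup G) : Subgroup G := closure ((fun k => ⁅σ, k⁆) '' (K : Set G))

theorem sigC_le {σ : G} {K : Subgroup G} (h : ∀ k ∈ K, σ * k * σ⁻¹ ∈ K) : sigC σ K ≤ K :=
  (closure_le _).2 (by rintro _ ⟨k, hk, rfl⟩; exact mul_mem (h k hk) (inv_mem hk))

theorem mem_sigC {σ k : G} {K : Subgroup G} (hk : k ∈ K) : ⁅σ, k⁆ ∈ sigC σ K :=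
  subset_closure ⟨k, hk, rfl⟩

omit hp in
/-- `[O_p(G), O^p(G), O^p(G)] = [O_p(G), O^p(G)]`. -/
theorem xo_comm_opG [Fact p.Prime] : ⁅xo p G, opG p G⁆ = xo p G := by
  refine le_antisymm (commutator_mono xo_le_pCore le_rfl) ?_
  set N := ⁅xo p G, opG p G⁆
  haveI hN : N.Normal := inferInstance
  have hND : N ≤ Cfsg.pCore p G := (commutator_le_left _ _).trans xo_le_pCore
  let R : Subgroup G :=
    { carrier := {x | ∀ d ∈ Cfsg.pCore p G, ⁅d, x⁆ ∈ N}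
      one_mem' := fun d _ => by simp
      mul_mem' := fun {x y} hx hy d hd => by
        rw [show ⁅d, x * y⁆ = ⁅d, x⁆ * (x * ⁅d, y⁆ * x⁻¹) by
          simp [commutatorElement_def, mul_assoc]]
        exact mul_mem (hx d hd) (hN.conj_mem _ (hy d hd) x)
      inv_mem' := fun {x} hx d hd => by
        rw [show ⁅d, x⁻¹⁆ = x⁻¹ * ⁅d, x⁆⁻¹ * x⁻¹⁻¹ by simp [commutatorElement_def, mul_assoc]]
        exact hN.conj_mem _ (inv_mem (hx d hd)) x⁻¹ }
  suffices h : opG p G ≤ R from Subgroup.commutator_le.2 fun d hd x hx => h hx d hd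
  refine (closure_le _).2 fun x hx d hd => ?_
  have hxP : x ∈ opG p G := mem_pp hx.1 hx.2
  have hxA : zpowers x ≤ opG p G := zpowers_le.2 hxP
  have hn : zpowers x ≤ normalizer (xo p G : Set G) :=
    (normalizer_eq_top_iff.2 (inferInstance : (xo p G).Normal)).symm ▸ le_top
  have hXp : IsPGroup p (xo p G) := PSolvable.pCore_isPGroup.to_le xo_le_pCore
  obtain ⟨j, hj⟩ := hXp.exists_card_eq
  have hcop : (Nat.card (zpowers x)).Coprime (Nat.card (xo p G)) := by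
    rw [Nat.card_zpowers, hj]; exact (Nat.Coprime.pow_left j hx.2).symm
  have hsolv : Group.IsSolvable (zpowers x) ∨ Group.IsSolvable (xo p G) := Or.inr (by
    haveI : Group.IsNilpotent (xo p G) := hXp.isNilpotent
    infer_instance)
  obtain ⟨c, hc, hcN⟩ := Coprime.exists_centralizer_mem_rightCoset hn hcop hsolv (k := d)
    (fun a ha => by
      rw [show a * d * a⁻¹ * d⁻¹ = ⁅d, a⁆⁻¹ by simp [commutatorElement_def, mul_assoc]]
      exact inv_mem (commutator_mem_commutator hd (hxA ha)))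
  have hcx : Commute c x := (mem_centralizer_iff.1 hc x (mem_zpowers x)).symm
  have e : ⁅d, x⁆ = ⁅(c * d⁻¹)⁻¹, x⁆ := by
    calc ⁅d, x⁆ = ⁅(c * d⁻¹)⁻¹ * c, x⁆ := by congr 1; group
      _ = (c * d⁻¹)⁻¹ * (c * x * c⁻¹) * (c * d⁻¹)⁻¹⁻¹ * x⁻¹ := by
        simp [commutatorElement_def, mul_assoc]
      _ = _ := by rw [hcx.eq, mul_inv_cancel_right]; simp [commutatorElement_def, mul_assoc]
  rw [e]
  exact commutator_mem_commutator (inv_mem hcN) hxP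

namespace Base

variable (b : Base p S A n ψ)

include b

theorem W_le_xo : centralizer (Cfsg.pCore p G : Set G) ≤
    (xo p G ⊓ centralizer (Cfsg.pCore p G : Set G)) ⊔ center G := by
  set W := centralizer (Cfsg.pCore p G : Set G)
  haveI hWn : W.Normal := inferInstance
  obtain ⟨o, -, ho⟩ := b.ctx.exists_opp
  haveI : (⁅W, opG p G⁆ ⊔ center G).Normal := inferInstance
  have hle : ⁅W, opG p G⁆ ≤ xo p G ⊓ W :=
    le_inf (commutator_mono b.ctx.W_le le_rfl) (commutator_le_left _ _)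
  have hcW : center G ≤ W := fun v hv => mem_centralizer_iff.2 fun u _ => mem_center_iff.1 hv u
  rcases b.ctx.normal_dichotomy b.lag b.out ho (N := ⁅W, opG p G⁆ ⊔ center G) le_sup_right
    (sup_le (hle.trans inf_le_right) hcW) with h | h
  · exfalso
    have hWc : W ≤ c0 p G := fun w hw => mem_c0 (b.ctx.W_le hw) fun x hx =>
      (mem_center_iff.1 (h.le (mem_sup_left
        (commutator_mem_commutator hw (mem_pp (mem_top x) hx)))) x).symm
    have h2 := b.ctx.index_zen b.lag b.out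
    rw [relIndex_eq_one.2 fun w hw => b.ctx.center_le_zen
      ((b.ctx.W_inf_c0 b.lag b.out).le ⟨hw, hWc hw⟩)] at h2
    exact b.ctx.setup.one_lt.ne h2
  · exact h.ge.trans (sup_le_sup_right hle _)

theorem conj_iW_xPart {x y : G} (hx : x ∈ xPart p A)
    (hy : y ∈ iPart p A ⊔ centralizer (Cfsg.pCore p G : Set G)) : x * y * x⁻¹ = y := by
  rw [← b.centralizer_xPart] at hy
  rw [mem_centralizer_iff.1 hy.2 x hx, mul_inv_cancel_right]

theorem comm_iW_xPart {x y : G} (hx : x ∈ xPart p A)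
    (hy : y ∈ iPart p A ⊔ centralizer (Cfsg.pCore p G : Set G)) : ⁅y, x⁆ = 1 := by
  rw [← b.centralizer_xPart] at hy
  exact commutatorElement_eq_one_iff_mul_comm.2 (mem_centralizer_iff.1 hy.2 x hx).symm

/-- `[[a, t], τ] [t, [a, τ]] = 1` on `U'`. -/
theorem rotate {g a t τ : G} (hgP : g ∈ opG p G) (ha : a ∈ A)
    (ht : t ∈ (uPart p A).map (cj g)) (hτ : τ ∈ (uPart p A).map (cj g)) :
    ⁅t, ⁅a, τ⁆⁆ = ⁅⁅a, t⁆, τ⁆⁻¹ := by
  set P := ⁅a, t⁆ with hP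
  set R := ⁅a, τ⁆ with hR
  have htX := b.uConj_le_xPart hgP ht
  have hτX := b.uConj_le_xPart hgP hτ
  have hPX : P ∈ xPart p A := mul_mem (b.xPart_conj (mem_sup_right ha) htX) (inv_mem htX)
  have hRX : R ∈ xPart p A := mul_mem (b.xPart_conj (mem_sup_right ha) hτX) (inv_mem hτX)
  have hPR : ⁅P, R⁆ = 1 := commutatorElement_eq_one_iff_mul_comm.2 (comm_eq
    (b.ctx.lagUW b.lag b.out).comm (b.comm_mem_UW hgP ha ht) (b.comm_mem_UW hgP ha hτ))
  have htτ : ⁅t, τ⁆ = 1 := commutatorElement_eq_one_iff_mul_comm.2 (b.uConj_comm ht hτ)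
  have h1 : ⁅P * t, R * τ⁆ = 1 := by
    have e : ⁅a * t * a⁻¹, a * τ * a⁻¹⁆ = a * ⁅t, τ⁆ * a⁻¹ := by
      simp [commutatorElement_def, mul_assoc]
    rw [hP, hR, show ⁅a, t⁆ * t = a * t * a⁻¹ by rw [commutatorElement_def]; group,
      show ⁅a, τ⁆ * τ = a * τ * a⁻¹ by rw [commutatorElement_def]; group, e, htτ]
    group
  rw [show ⁅P * t, R * τ⁆ = P * (⁅t, R⁆ * (R * ⁅t, τ⁆ * R⁻¹)) * P⁻¹ *
      (⁅P, R⁆ * (R * ⁅P, τ⁆ * R⁻¹)) by simp [commutatorElement_def, mul_assoc],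
    htτ, hPR, one_mul, mul_one, mul_inv_cancel, mul_one,
    b.conj_iPart hPX (b.xx_mem htX hRX), b.conj_iPart hRX (b.xx_mem hPX hτX)] at h1
  exact eq_inv_of_mul_eq_one_left h1

theorem mem_wc_of_comm {g a u' : G} (hg : Opp ψ g) (hgP : g ∈ opG p G) (ha : a ∈ A)
    (haD : a ∉ Cfsg.pCore p G) (hu' : u' ∈ (uPart p A).map (cj g)) (h : ⁅a, u'⁆ ∈ wc p G) :
    u' ∈ wc p G := by
  have hu'X := b.uConj_le_xPart hgP hu'
  have hcX : ⁅a, u'⁆ ∈ xPart p A :=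
    mul_mem (b.xPart_conj (mem_sup_right ha) hu'X) (inv_mem hu'X)
  have h1 := b.fix_uConj_mod hg hgP ha haD hu' (b.wc_inf_xPart.le ⟨h, hcX⟩)
  exact (b.wc_inf_xPart.ge h1).1

/-- An invariant subgroup of `X` above `I W` is the product of its parts in `U` and `U'`. -/
theorem dec_of_invariant {g a : G} (hg : Opp ψ g) (hgP : g ∈ opG p G) (ha : a ∈ A)
    (haD : a ∉ Cfsg.pCore p G) {K : Subgroup G} (hKX : K ≤ xPart p A)
    (hIW : iPart p A ⊔ centralizer (Cfsg.pCore p G : Set G) ≤ K)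
    (hinv : ∀ k ∈ opG p G ⊔ A, ∀ x ∈ K, k * x * k⁻¹ ∈ K) :
    (∀ u ∈ uPart p A, u ∈ K → ∃ t ∈ (uPart p A).map (cj g), t ∈ K ∧
      ⁅a, t⁆⁻¹ * u ∈ iPart p A ⊔ centralizer (Cfsg.pCore p G : Set G)) ∧
    (∀ k ∈ K, ∃ u ∈ uPart p A, u ∈ K ∧ ∃ u' ∈ (uPart p A).map (cj g), u' ∈ K ∧ k = u * u') := by
  set W := centralizer (Cfsg.pCore p G : Set G)
  haveI hWn : W.Normal := inferInstance
  set IW := iPart p A ⊔ W
  set U := uPart p A
  set P := K ⊓ (U ⊔ W)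
  set P' := P.map (cj g)
  have hgK : ∀ x ∈ P', x ∈ K ∧ x ∈ U.map (cj g) ⊔ W := by
    rintro _ ⟨y, hy, rfl⟩
    refine ⟨hinv g (mem_sup_left hgP) y hy.1, ?_⟩
    have := mem_map_of_mem (cj g) hy.2
    rwa [Subgroup.map_sup, map_cj_normal W g] at this
  have hIWP : IW ≤ P := le_inf hIW b.iW_le_uW
  have hIWg : IW.map (cj g) = IW := by
    refine le_antisymm ?_ fun y hy => ⟨g⁻¹ * y * g, ?_, ?_⟩
    · rintro _ ⟨y, hy, rfl⟩; exact b.conj_iW (mem_sup_left hgP) hy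
    · simpa using b.conj_iW (mem_sup_left (inv_mem hgP)) hy
    · simp [cj_apply, mul_assoc]
  have hf : ∀ t ∈ P', ⁅a, t⁆ ∈ P := by
    intro t ht
    obtain ⟨htK, htU⟩ := hgK t ht
    have h0 : ⁅a, t⁆ ∈ K := mul_mem (hinv a (mem_sup_right ha) t htK) (inv_mem htK)
    refine ⟨h0, ?_⟩
    obtain ⟨u', hu', w, hw, rfl⟩ := mem_sup_of_normal_right.1 htU
    rw [show ⁅a, u' * w⁆ = ⁅a, u'⁆ * (u' * (a * w * a⁻¹ * w⁻¹) * u'⁻¹) by
      simp [commutatorElement_def, mul_assoc]]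
    exact mul_mem (b.comm_mem_UW hgP ha hu')
      (mem_sup_right (hWn.conj_mem _ (mul_mem (hWn.conj_mem w hw a) (inv_mem hw)) u'))
  have hdiff : ∀ t ∈ P', ∀ t' ∈ P', ⁅a, t⁆⁻¹ * ⁅a, t'⁆ ∈ IW → t⁻¹ * t' ∈ IW := by
    intro t ht t' ht' h
    have htX : t ∈ xPart p A := hKX (hgK t ht).1
    have h1 : ⁅a, t⁻¹ * t'⁆ ∈ IW := by
      rw [show ⁅a, t⁻¹ * t'⁆ = t⁻¹ * (⁅a, t⁆⁻¹ * ⁅a, t'⁆) * t⁻¹⁻¹ by
        simp [commutatorElement_def, mul_assoc], b.conj_iW_xPart (inv_mem htX) h]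
      exact h
    obtain ⟨v, hv, w, hw, e⟩ := mem_sup_of_normal_right.1 (hgK _ (mul_mem (inv_mem ht) ht')).2
    rw [← e] at h1 ⊢
    have h2 : ⁅a, v⁆ ∈ IW := by
      rw [show ⁅a, v⁆ = ⁅a, v * w⁆ * (v * (a * w * a⁻¹ * w⁻¹) * v⁻¹)⁻¹ by
        simp [commutatorElement_def, mul_assoc]]
      exact mul_mem h1 (inv_mem (mem_sup_right
        (hWn.conj_mem _ (mul_mem (hWn.conj_mem w hw a) (inv_mem hw)) v)))
    exact mul_mem (b.fix_uConj_mod hg hgP ha haD hv h2) (mem_sup_right hw)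
  let f : P' ⧸ IW.subgroupOf P' → P ⧸ IW.subgroupOf P := fun x =>
    QuotientGroup.mk ⟨⁅a, (x.out : G)⁆, hf _ x.out.2⟩
  have hinj : Function.Injective f := fun x y e => by
    rw [← QuotientGroup.out_eq' x, ← QuotientGroup.out_eq' y]
    exact QuotientGroup.eq.2
      (hdiff _ x.out.2 _ y.out.2 (mem_subgroupOf.1 (QuotientGroup.eq.1 e)))
  have hbij : Function.Bijective f := by
    refine hinj.bijective_of_nat_card_le ?_
    show IW.relIndex P ≤ IW.relIndex P'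
    conv_rhs => rw [← hIWg]
    rw [relIndex_map_map_of_injective _ _ (MulAut.conj g).injective]
  have hsurj : ∀ u ∈ P, ∃ t ∈ P', ⁅a, t⁆⁻¹ * u ∈ IW := fun u hu => by
    obtain ⟨x, hx⟩ := hbij.2 (QuotientGroup.mk ⟨u, hu⟩)
    exact ⟨_, x.out.2, mem_subgroupOf.1 (QuotientGroup.eq.1 hx)⟩
  have hsplit : ∀ t ∈ P', ∃ t' ∈ U.map (cj g), t' ∈ K ∧ ∃ w ∈ W, t = t' * w := fun t ht => by
    obtain ⟨htK, htU⟩ := hgK t ht
    obtain ⟨t', ht', w, hw, e⟩ := mem_sup_of_normal_right.1 htU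
    refine ⟨t', ht', ?_, w, hw, e.symm⟩
    rw [show t' = t * w⁻¹ by rw [← e]; group]
    exact mul_mem htK (inv_mem (hIW (mem_sup_right hw)))
  refine ⟨fun u hu huK => ?_, fun k hk => ?_⟩
  · obtain ⟨t, ht, h⟩ := hsurj u ⟨huK, mem_sup_left hu⟩
    obtain ⟨t', ht', ht'K, w, hw, rfl⟩ := hsplit t ht
    refine ⟨t', ht', ht'K, ?_⟩
    have e : ⁅a, t'⁆⁻¹ * u = (t' * (a * w * a⁻¹ * w⁻¹) * t'⁻¹) * (⁅a, t' * w⁆⁻¹ * u) := by
      simp [commutatorElement_def, mul_assoc]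
    rw [e]
    exact mul_mem (mem_sup_right (hWn.conj_mem _ (mul_mem (hWn.conj_mem w hw a) (inv_mem hw)) t')) h
  · obtain ⟨u, hu, u', hu', rfl⟩ := b.xPart_dec hg hgP (hKX hk)
    have h1 : ⁅a, u * u'⁆ = ⁅a, u'⁆ := by
      rw [show ⁅a, u * u'⁆ = ⁅a, u⁆ * (u * ⁅a, u'⁆ * u⁻¹) by
          simp [commutatorElement_def, mul_assoc],
        commutatorElement_eq_one_iff_mul_comm.2 (b.A_comm_u ha hu), one_mul,
        comm_eq (b.ctx.lagUW b.lag b.out).comm (mem_sup_left hu) (b.comm_mem_UW hgP ha hu'),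
        mul_inv_cancel_right]
    have hP : ⁅a, u'⁆ ∈ P := by
      have h0 : ⁅a, u * u'⁆ ∈ K := mul_mem (hinv a (mem_sup_right ha) _ hk) (inv_mem hk)
      exact ⟨h1 ▸ h0, b.comm_mem_UW hgP ha hu'⟩
    obtain ⟨t, ht, h⟩ := hsurj _ hP
    obtain ⟨t', ht', ht'K, w, hw, rfl⟩ := hsplit t ht
    have h2 : ⁅a, t'⁆⁻¹ * ⁅a, u'⁆ ∈ IW := by
      rw [show ⁅a, t'⁆⁻¹ * ⁅a, u'⁆ =
          (t' * (a * w * a⁻¹ * w⁻¹) * t'⁻¹) * (⁅a, t' * w⁆⁻¹ * ⁅a, u'⁆) by
        simp [commutatorElement_def, mul_assoc]]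
      exact mul_mem (mem_sup_right (hWn.conj_mem _ (mul_mem (hWn.conj_mem w hw a) (inv_mem hw)) t')) h
    have h3 : ⁅a, t'⁻¹ * u'⁆ ∈ IW := by
      rw [show ⁅a, t'⁻¹ * u'⁆ = t'⁻¹ * (⁅a, t'⁆⁻¹ * ⁅a, u'⁆) * t'⁻¹⁻¹ by
        simp [commutatorElement_def, mul_assoc],
        b.conj_iW_xPart (inv_mem (b.uConj_le_xPart hgP ht')) h2]
      exact h2
    have hu'K : u' ∈ K := by
      have := mul_mem ht'K (hIW (b.fix_uConj_mod hg hgP ha haD (mul_mem (inv_mem ht') hu') h3))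
      rwa [mul_inv_cancel_left] at this
    exact ⟨u, hu, by simpa using mul_mem hk (inv_mem hu'K), u', hu', hu'K, rfl⟩

variable {σ : G} (hσ : Sigma p S A σ)

include hσ

theorem sigC_dec {K : Subgroup G} (hKX : K ≤ xPart p A) (hK : ∀ k ∈ K, σ * k * σ⁻¹ ∈ K) {t : G}
    (ht : t ∈ K) : ∃ k ∈ sigC σ K, ∃ i ∈ iPart p A, t = k * i := by
  set N := sigC σ K
  have hNK : N ≤ K := sigC_le hK
  have h1 : N.map (cj σ) ≤ N := by
    rw [show N = closure ((fun k => ⁅σ, k⁆) '' (K : Set G)) from rfl, MonoidHom.map_closure,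
      closure_le]
    rintro _ ⟨_, ⟨k, hk, rfl⟩, rfl⟩
    refine subset_closure ⟨σ * k * σ⁻¹, hK k hk, ?_⟩
    simp [cj_apply, commutatorElement_def, mul_assoc]
  have h2 : N.map (cj σ) = N := eq_of_le_of_card_ge h1 (by rw [card_map_cj])
  have hn : zpowers σ ≤ normalizer (N : Set G) := by
    refine zpowers_le.2 (mem_normalizer_iff.2 fun y => ⟨fun hy => h1 (mem_map_of_mem _ hy), fun hy => ?_⟩)
    rw [← h2] at hy
    have := mem_map_cj.1 hy
    simpa [mul_assoc] using this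
  have hNp : IsPGroup p N := PSolvable.pCore_isPGroup.to_le ((hNK.trans hKX).trans inf_le_left)
  obtain ⟨j, hj⟩ := hNp.exists_card_eq
  have hcop : (Nat.card (zpowers σ)).Coprime (Nat.card N) := by
    rw [Nat.card_zpowers, hj]; exact (hσ.coprime.pow_left j).symm
  have hsolv : Group.IsSolvable (zpowers σ) ∨ Group.IsSolvable N := Or.inr (by
    haveI : Group.IsNilpotent N := hNp.isNilpotent
    infer_instance)
  obtain ⟨c, hc, hcN⟩ := Coprime.exists_centralizer_mem_rightCoset hn hcop hsolv (k := t)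
    (fun a ha => by
      -- `t` is fixed modulo `N` by the powers of `σ`
      let R : Subgroup G :=
        { carrier := {a | a ∈ normalizer (N : Set G) ∧ a * t * a⁻¹ * t⁻¹ ∈ N}
          one_mem' := ⟨one_mem _, by simp⟩
          mul_mem' := fun {a c} ha hc => ⟨mul_mem ha.1 hc.1, by
            have := mul_mem ((mem_normalizer_iff.1 ha.1 _).1 hc.2) ha.2
            simpa [mul_assoc] using this⟩
          inv_mem' := fun {a} ha => ⟨inv_mem ha.1, by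
            have := (mem_normalizer_iff.1 (inv_mem ha.1) _).1 (inv_mem ha.2)
            simpa [mul_assoc] using this⟩ }
      have hR : zpowers σ ≤ R := zpowers_le.2 ⟨hn (mem_zpowers σ), mem_sigC ht⟩
      exact (hR ha).2)
  have hcK : c ∈ K := by simpa using mul_mem (hNK hcN) ht
  have hσc : Commute σ c := mem_centralizer_iff.1 hc σ (mem_zpowers σ)
  have hcI : c ∈ iPart p A := hσ.fix c (hKX hcK) (by
    rw [commutatorElement_eq_one_iff_commute.2 hσc]; exact one_mem _)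
  exact ⟨(c * t⁻¹)⁻¹, inv_mem hcN, c, hcI, by group⟩

theorem sigC_comm {K : Subgroup G} (hKX : K ≤ xo p G) (hK : ∀ k ∈ K, σ * k * σ⁻¹ ∈ K) {d : G}
    (hσd : Commute σ d) (hd : ∀ k ∈ K, ⁅k, d⁆ ∈ c0 p G) {y : G} (hy : y ∈ sigC σ K) :
    Commute y d := by
  suffices h : sigC σ K ≤ centralizer {d} from mem_centralizer_singleton_iff.1 (h hy)
  refine (closure_le _).2 ?_
  rintro _ ⟨k, hk, rfl⟩
  refine mem_centralizer_singleton_iff.2 (commutatorElement_eq_one_iff_mul_comm.1 ?_)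
  set y := ⁅σ, k⁆
  have hy' : y ∈ xo p G := hKX (mul_mem (hK k hk) (inv_mem hk))
  have h1 : ⁅σ * k * σ⁻¹, d⁆ = ⁅k, d⁆ := by
    calc ⁅σ * k * σ⁻¹, d⁆ = σ * ⁅k, σ⁻¹ * d * σ⁆ * σ⁻¹ := by
          simp [commutatorElement_def, mul_assoc]
      _ = σ * ⁅k, d⁆ * σ⁻¹ := by
        rw [show σ⁻¹ * d * σ = d by rw [mul_assoc, ← hσd.eq, inv_mul_cancel_left]]
      _ = _ := by
        rw [mem_centralizer_iff.1 (hd k hk).2 σ hσ.mem_opG, mul_inv_cancel_right]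
  have hyk : Commute y ⁅k, d⁆ := xo_comm_c0 hy' (hd k hk)
  rw [show σ * k * σ⁻¹ = y * k by simp [y, commutatorElement_def, mul_assoc],
    show ⁅y * k, d⁆ = y * ⁅k, d⁆ * y⁻¹ * ⁅y, d⁆ by simp [commutatorElement_def, mul_assoc],
    hyk.eq, mul_inv_cancel_right] at h1
  exact mul_eq_left.1 h1

omit hσ

/-! Facts about the situation as the second one. -/

theorem mem_pCore_of_comm_c0 {v y : G} (hv : v ∈ centralizer (Cfsg.pCore p G : Set G))
    (hvZ : v ∉ zen S) (hy : y ∈ S) (h : ⁅v, y⁆ ∈ c0 p G) : y ∈ Cfsg.pCore p G := by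
  by_contra hyD
  refine hvZ (b.ctx.fix_W_mod b.lag b.out hy hyD hv ?_)
  rw [← b.ctx.W_inf_c0 b.lag b.out]
  refine ⟨b.ctx.zen_le_W (b.ctx.comm_mem_zen b.lag b.out hy hv), ?_⟩
  have h0 : ⁅y, v⁆ ∈ c0 p G := commutatorElement_inv v y ▸ inv_mem h
  exact h0

theorem xo_le_wc_of_comm {t : G} (ht : t ∈ A) (htD : t ∉ Cfsg.pCore p G)
    (h : ∀ x ∈ xo p G, ⁅t, x⁆ ∈ zen S) : xo p G ≤ wc p G := by
  obtain ⟨g, hgP, hg⟩ := b.ctx.exists_opp
  haveI hK : (wc p G).Normal := inferInstance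
  have key : ∀ u' ∈ (uPart p A).map (cj g), u' ∈ xo p G → u' ∈ wc p G := by
    intro u' hu' hx
    exact b.mem_wc_of_comm hg hgP ht htD hu' (mem_sup_left (b.ctx.zen_le_W (h _ hx)))
  intro x hx
  obtain ⟨u, hu, hux, u', hu', hu'x, rfl⟩ := b.xo_dec hg hgP hx
  refine mul_mem ?_ (key u' hu' hu'x)
  have := hK.conj_mem _ (key _ (mem_map_of_mem (cj g) hu)
    ((inferInstance : (xo p G).Normal).conj_mem u hux g)) g⁻¹
  simpa [cj_apply, mul_assoc] using this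

theorem comm_mem_c0 {t x : G} (ht : t ∈ uPart p A) (hx : x ∈ xo p G) : ⁅t, x⁆ ∈ c0 p G :=
  (b.xx_mem (b.uPart_le_xPart ht) (b.xo_le_xPart hx)).2

theorem comm_mem_zen_c0 {t s : G} (ht : t ∈ uPart p A) (hs : s ∈ S)
    (h : ∀ x ∈ xo p G, ⁅t, x⁆ = 1) : ⁅s, t⁆ ∈ zen S ⊔ c0 p G := by
  have htX : t ∈ iPart p A ⊔ centralizer (Cfsg.pCore p G : Set G) := by
    rw [← b.centralizer_xPart]
    refine ⟨b.lag.le ht.1, ?_⟩
    rw [b.xPart_eq_sup, CD.centralizer_sup]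
    exact ⟨mem_centralizer_iff.2 fun x hx => (commutatorElement_eq_one_iff_mul_comm.1 (h x hx)).symm,
      mem_centralizer_iff.2 fun i hi => comm_eq b.lag.comm hi.1 ht.1⟩
  obtain ⟨i, hi, w, hw, rfl⟩ := mem_sup_of_normal_right.1 htX
  rw [show ⁅s, i * w⁆ = s * i * s⁻¹ * i⁻¹ * (i * ⁅s, w⁆ * i⁻¹) by
    simp [commutatorElement_def, mul_assoc]]
  refine mul_mem (mem_sup_right (mul_mem (c0_normal.conj_mem i hi.2 s) (inv_mem hi.2))) ?_
  have hz := b.ctx.comm_mem_zen b.lag b.out hs hw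
  rw [mem_centralizer_iff.1 hz.2 i (b.lag.le hi.1), mul_inv_cancel_right]
  exact mem_sup_left hz

theorem mem_iW_of_comm {g x t : G} (hg : Opp ψ g) (hgP : g ∈ opG p G) (hx : x ∈ A)
    (hxD : x ∉ Cfsg.pCore p G) (ht : t ∈ (uPart p A).map (cj g)) (h : ⁅x, t⁆ ∈ A)
    (h' : ⁅x, t⁆ ∈ (uPart p A).map (cj g) ⊔ centralizer (Cfsg.pCore p G : Set G)) :
    t ∈ wc p G := by
  have hu : ⁅x, t⁆ ∈ uPart p A := ⟨h,
    (sup_le ((map_uPart A g).le.trans inf_le_right) b.ctx.W_le : _ ≤ Cfsg.pCore p G) h'⟩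
  obtain ⟨i, hi, z, hz, e⟩ := (b.pair hg).2.2.2.2.2 _ hu h'
  have h1 : ⁅x, t⁆ ∈ wc p G := by
    rw [e]
    exact mul_mem (mem_sup_right ((b.inf_eq_iPart hg hgP).le hi).2)
      (mem_sup_left (b.ctx.zen_le_W hz))
  exact b.mem_wc_of_comm hg hgP hx hxD ht h1

end Base

end Cfsg.Agent.Lib.GNiles
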