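import Mathlib
import Cfsg.Agent.Lib.GNiles.Side
/-!
Two pushing-up situations on the same `S`: the second is seen through a few subgroups of `S`.
-/

set_option autoImplicit false
set_option linter.unusedSectionVars false

namespace Cfsg.Agent.Lib.GNiles

open Subgroup
open Cfsg.Agent.Lib
open Cfsg.Agent.Lib.SL2 (SLtwo PSLtwo)
open scoped commutatorElement

variable {G : Type*} [Group G] [Finite G] {p : ℕ} [hp : Fact p.Prime]
  {F : Type} [Field F] [Fintype F] {n : ℕ}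
variable {S A : Subgroup G} {ψ : G →* PSLtwo F}

/-- The properties of a second situation on `S`: `D₂` is its `O_p`, `W₂` the centraliser of `D₂`,
`X₂` is `[D₂, O^p]` and `C₂` the part of `D₂` centralised by `O^p`. -/
structure Shadow (S D₂ W₂ X₂ C₂ : Subgroup G) : Prop where
  Dn : ∀ s ∈ S, ∀ x ∈ D₂, s * x * s⁻¹ ∈ D₂
  commS : ∀ s ∈ S, ∀ t ∈ S, ⁅s, t⁆ ∈ D₂
  zenD : zen S ≤ D₂
  Cle : C₂ ≤ S
  Cn : ∀ s ∈ S, ∀ x ∈ C₂, s * x * s⁻¹ ∈ C₂
  Wle : W₂ ≤ X₂ ⊔ zen S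
  WD : ∀ d ∈ D₂, ∀ w ∈ W₂, d * w = w * d
  Wzen : ¬ W₂ ≤ zen S
  WS : ∀ s ∈ S, ∀ w ∈ W₂, ⁅w, s⁆ ∈ zen S
  Xle : X₂ ≤ D₂
  Xn : ∀ s ∈ S, ∀ x ∈ X₂, s * x * s⁻¹ ∈ X₂
  detect : ∀ v ∈ W₂, v ∉ zen S → ∀ y ∈ S, ⁅v, y⁆ ∈ C₂ → y ∈ D₂
  moves : ∀ B, IsLag S B → ∀ t ∈ B, t ∉ D₂ → ¬ ∀ x ∈ X₂, ⁅t, x⁆ ∈ zen S
  centC : ∀ B, IsLag S B → ¬ B ≤ D₂ → ∀ t ∈ B, t ∈ D₂ → ∀ x ∈ X₂, ⁅t, x⁆ ∈ C₂
  centZ : ∀ B, IsLag S B → ¬ B ≤ D₂ → ∀ t ∈ B, t ∈ D₂ → (∀ x ∈ X₂, ⁅t, x⁆ = 1) →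
    ∀ s ∈ S, ⁅s, t⁆ ∈ zen S ⊔ C₂

namespace Base

variable (b : Base p S A n ψ) {D₂ W₂ X₂ C₂ : Subgroup G} (sh : Shadow S D₂ W₂ X₂ C₂)

include b

theorem uConj_dec {g t : G} (hgP : g ∈ opG p G) (ht : t ∈ (uPart p A).map (cj g)) :
    ∃ y ∈ (uPart p A).map (cj g), y ∈ xo p G ∧ ∃ i ∈ iPart p A, t = y * i := by
  obtain ⟨v, hv, rfl⟩ := ht
  obtain ⟨y, hy, hyx, i, hi, rfl⟩ := b.uPart_dec hv
  refine ⟨g * y * g⁻¹, mem_map_of_mem (cj g) hy,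
    (inferInstance : (xo p G).Normal).conj_mem y hyx g, i, hi, ?_⟩
  rw [cj_apply, show g * (y * i) * g⁻¹ = g * y * g⁻¹ * (g * i * g⁻¹) by group, b.iPart_conj hgP hi]

include sh

/-- Every opposite conjugate of `A ∩ O_p(G)` leaves `D₂`. -/
theorem exists_conj_not_mem (hX : ¬ xo p G ≤ D₂) {g : G} (hg : Opp ψ g) (hgP : g ∈ opG p G) :
    ∃ x ∈ (uPart p A).map (cj g), x ∈ xo p G ∧ x ∉ D₂ := by
  by_contra hcon
  push Not at hcon
  set W := centralizer (Cfsg.pCore p G : Set G)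
  have hcW : ∀ w ∈ W, ∃ x ∈ xo p G, ∃ e ∈ center G, x ∈ W ∧ w = x * e := fun w hw => by
    obtain ⟨x, hx, e, he, rfl⟩ := mem_sup_of_normal_right.1 (b.W_le_xo hw)
    exact ⟨x, hx.1, e, he, hx.2, rfl⟩
  have hZU' : (zen S).map (cj g) ≤ (uPart p A).map (cj g) := map_mono b.zen_le_uPart
  have hWD : W ≤ D₂ := by
    intro w hw
    obtain ⟨z, hz, z', hz', rfl⟩ := b.ctx.W_mul b.lag b.out hg hw
    obtain ⟨x, hx, e, he, -, rfl⟩ := hcW z' (b.ctx.zen_map_le_W g hz')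
    refine mul_mem (sh.zenD hz) (mul_mem (hcon x ?_ hx) (sh.zenD (b.ctx.center_le_zen he)))
    have h2 : e⁻¹ ∈ (uPart p A).map (cj g) := hZU' (b.ctx.center_le_map g (inv_mem he))
    simpa using mul_mem (hZU' hz') h2
  have hIW : ∀ y ∈ iPart p A ⊔ W, y ∈ xo p G → y ∈ D₂ := by
    intro y hy hyx
    obtain ⟨i, hi, w, hw, rfl⟩ := mem_sup_of_normal_right.1 hy
    obtain ⟨x, hx, e, he, -, rfl⟩ := hcW w hw
    have h1 : i * e ∈ iPart p A := mul_mem hi (b.center_le_iPart he)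
    have h2 : i * e ∈ xo p G := by
      rw [show i * e = (i * (x * e)) * x⁻¹ by
        rw [mem_center_iff.1 he x]; group]
      exact mul_mem hyx (inv_mem hx)
    have h3 := hcon _ (b.iPart_le_cj hgP h1) h2
    have hix : i * (x * e) = i * e * x := by rw [mem_center_iff.1 he x, mul_assoc]
    rw [hix]
    refine mul_mem h3 ?_
    have h4 := hWD hw
    simpa using mul_mem h4 (inv_mem (sh.zenD (b.ctx.center_le_zen he)))
  obtain ⟨a, ha, haD⟩ := SetLike.not_le_iff_exists.1 b.out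
  obtain ⟨hdec, -⟩ := b.dec_of_invariant hg hgP ha haD (K := xPart p A) le_rfl
    (sup_le b.iPart_le_xPart b.W_le_xPart) (fun k hk x hx => b.xPart_conj hk hx)
  refine hX fun y hy => ?_
  obtain ⟨u, hu, hux, u', hu', hu'x, rfl⟩ := b.xo_dec hg hgP hy
  refine mul_mem ?_ (hcon u' hu' hu'x)
  obtain ⟨t, ht, -, hte⟩ := hdec u hu (b.uPart_le_xPart hu)
  obtain ⟨y', hy', hy'x, i, hi, rfl⟩ := b.uConj_dec hgP ht
  have e : ⁅a, y' * i⁆ = ⁅a, y'⁆ := by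
    rw [show ⁅a, y' * i⁆ = ⁅a, y'⁆ * (y' * ⁅a, i⁆ * y'⁻¹) by simp [commutatorElement_def, mul_assoc],
      commutatorElement_eq_one_iff_mul_comm.2 (b.comm_A_iPart ha hi), mul_one, mul_inv_cancel, mul_one]
  rw [e] at hte
  have h1 : ⁅a, y'⁆ ∈ D₂ := sh.commS a (b.lag.le ha) y'
    (b.ctx.setup.le_S (xo_le_pCore hy'x))
  have h2 : ⁅a, y'⁆ ∈ xo p G :=
    mul_mem ((inferInstance : (xo p G).Normal).conj_mem y' hy'x a) (inv_mem hy'x)
  have := mul_mem h1 (hIW _ hte (mul_mem (inv_mem h2) hux))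
  rwa [mul_inv_cancel_left] at this

/-- `X₂` is not inside `O_p(G)` if `[O_p(G), O^p(G)]` is not inside `D₂`. -/
theorem shadow_not_le (hX : ¬ xo p G ≤ D₂) : ¬ X₂ ≤ Cfsg.pCore p G := by
  intro hX2
  set D := Cfsg.pCore p G
  set W := centralizer (D : Set G)
  haveI hWn : W.Normal := inferInstance
  haveI hXn : (xo p G).Normal := inferInstance
  have hDS : D ≤ S := b.ctx.setup.le_S
  obtain ⟨v, hv, hvZ⟩ := SetLike.not_le_iff_exists.1 sh.Wzen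
  have hvD : v ∈ D := sup_le hX2 b.ctx.zen_le_D (sh.Wle hv)
  -- `v` centralises `[O_p(G), O^p(G)]` modulo the centre
  have hxv0 : ∀ x ∈ xo p G, ⁅x, v⁆ ∈ zen S := fun x hx => by
    rw [← commutatorElement_inv]; exact inv_mem (sh.WS x (hDS (xo_le_pCore hx)) v hv)
  have hxv : ∀ x ∈ xo p G, ⁅x, v⁆ ∈ center G := by
    intro x hx
    have hsub : normalClosure {⁅x, v⁆} ≤ zen S := (closure_le _).2 fun y hy => by
      obtain ⟨z, hz, hzy⟩ := Group.mem_conjugatesOfSet_iff.1 hy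
      rw [Set.mem_singleton_iff] at hz
      subst hz
      obtain ⟨k, rfl⟩ := isConj_iff.1 hzy
      obtain ⟨o, ho, s, hs, rfl⟩ :=
        mem_sup_of_normal_left.1 (b.ctx.opG_sup.symm ▸ mem_top k : k ∈ opG p G ⊔ S)
      have e0 : s * ⁅x, v⁆ * s⁻¹ = ⁅x, v⁆ := by
        rw [mem_centralizer_iff.1 (hxv0 x hx).2 s hs, mul_inv_cancel_right]
      show o * s * ⁅x, v⁆ * (o * s)⁻¹ ∈ zen S
      rw [show o * s * ⁅x, v⁆ * (o * s)⁻¹ = o * (s * ⁅x, v⁆ * s⁻¹) * o⁻¹ by group, e0]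
      set e := ⁅o, v⁆
      have he : e ∈ xo p G := by
        rw [show e = ⁅v, o⁆⁻¹ from (commutatorElement_inv v o).symm]
        exact inv_mem (commutator_mem_commutator hvD ho)
      set x' := o * x * o⁻¹
      have hx' : x' ∈ xo p G := hXn.conj_mem x hx o
      have hz' := hxv0 x' hx'
      have hez : e * ⁅x', v⁆ * e⁻¹ = ⁅x', v⁆ := by
        rw [mem_centralizer_iff.1 hz'.2 e (hDS (xo_le_pCore he)), mul_inv_cancel_right]
      have e2 : o * ⁅x, v⁆ * o⁻¹ = ⁅x', e⁆ * ⁅x', v⁆ := by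
        calc o * ⁅x, v⁆ * o⁻¹ = ⁅x', e⁆ * (e * ⁅x', v⁆ * e⁻¹) := by
              simp [x', e, commutatorElement_def, mul_assoc]
          _ = _ := by rw [hez]
      have hW' : ⁅x', e⁆ ∈ W := by
        have h1 : o * ⁅x, v⁆ * o⁻¹ ∈ W := hWn.conj_mem _ (b.ctx.zen_le_W (hxv0 x hx)) o
        rw [e2] at h1
        have h2 := mul_mem h1 (inv_mem (b.ctx.zen_le_W hz'))
        rwa [mul_inv_cancel_right] at h2
      rw [e2]
      exact mul_mem (b.ctx.center_le_zen ((b.ctx.W_inf_c0 b.lag b.out).le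
        ⟨hW', b.xoxo_mem hx' he⟩)) hz'
    haveI : (normalClosure {⁅x, v⁆}).Normal := normalClosure_normal
    exact b.ctx.normal_le_center hsub (subset_normalClosure rfl)
  -- the subgroup `Kp`
  let Kp : Subgroup G :=
    { carrier := {y | y ∈ dmPart p G ∧ ∀ x ∈ X₂, ⁅y, x⁆ ∈ c0 p G}
      one_mem' := ⟨one_mem _, fun x _ => by simp⟩
      mul_mem' := fun {y z} hy hz => ⟨mul_mem hy.1 hz.1, fun x hx => by
        rw [show ⁅y * z, x⁆ = y * ⁅z, x⁆ * y⁻¹ * ⁅y, x⁆ by simp [commutatorElement_def, mul_assoc]]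
        exact mul_mem (c0_normal.conj_mem _ (hz.2 x hx) y) (hy.2 x hx)⟩
      inv_mem' := fun {y} hy => ⟨inv_mem hy.1, fun x hx => by
        rw [show ⁅y⁻¹, x⁆ = y⁻¹ * ⁅y, x⁆⁻¹ * y⁻¹⁻¹ by simp [commutatorElement_def, mul_assoc]]
        exact c0_normal.conj_mem _ (inv_mem (hy.2 x hx)) y⁻¹⟩ }
  haveI hKn : Kp.Normal := by
    refine ⟨fun y hy k => ⟨dmPart_normal.conj_mem y hy.1 k, fun x hx => ?_⟩⟩
    obtain ⟨o, ho, s, hs, rfl⟩ :=
      mem_sup_of_normal_left.1 (b.ctx.opG_sup.symm ▸ mem_top k : k ∈ opG p G ⊔ S)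
    have hs' : ∀ x ∈ X₂, ⁅s * y * s⁻¹, x⁆ ∈ c0 p G := fun x hx => by
      rw [show ⁅s * y * s⁻¹, x⁆ = s * ⁅y, s⁻¹ * x * s⁻¹⁻¹⁆ * s⁻¹ by
        simp [commutatorElement_def, mul_assoc]]
      exact c0_normal.conj_mem _ (hy.2 _ (sh.Xn _ (inv_mem hs) x hx)) s
    set y' := s * y * s⁻¹
    have hy' : y' ∈ dmPart p G := dmPart_normal.conj_mem y hy.1 s
    set e := ⁅o⁻¹, x⁆
    have he : e ∈ xo p G := by
      rw [show e = ⁅x, o⁻¹⁆⁻¹ from (commutatorElement_inv x o⁻¹).symm]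
      exact inv_mem (commutator_mem_commutator (hX2 hx) (inv_mem ho))
    rw [show ⁅o * s * y * (o * s)⁻¹, x⁆ = o * (⁅e, y'⁆⁻¹ * (e * ⁅y', x⁆ * e⁻¹)) * o⁻¹ by
      simp [y', e, commutatorElement_def, mul_assoc]]
    exact c0_normal.conj_mem _
      (mul_mem (inv_mem (hy'.2 e he)) (c0_normal.conj_mem _ (hs' x hx) e)) o
  have hwcK : wc p G ≤ Kp := by
    refine sup_le (fun w hw => ⟨⟨b.ctx.W_le hw, fun x hx => ?_⟩, fun x hx => ?_⟩) fun e he =>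
      ⟨⟨he.1, fun x hx => ?_⟩, fun x hx => ?_⟩
    · rw [commutatorElement_eq_one_iff_mul_comm.2 (b.ctx.D_comm_W (xo_le_pCore hx) hw)]
      exact one_mem _
    · rw [commutatorElement_eq_one_iff_mul_comm.2 (b.ctx.D_comm_W (hX2 hx) hw).symm]
      exact one_mem _
    · rw [commutatorElement_eq_one_iff_mul_comm.2 (xo_comm_c0 hx he)]; exact one_mem _
    · rw [show ⁅e, x⁆ = e * (x * e⁻¹ * x⁻¹) by rw [commutatorElement_def]; group]
      exact mul_mem he (c0_normal.conj_mem _ (inv_mem he) x)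
  have hvK : v ∈ Kp := ⟨⟨hvD, fun x hx => b.ctx.center_le_c0 (hxv x hx)⟩, fun x hx => by
    rw [commutatorElement_eq_one_iff_mul_comm.2 (sh.WD x (sh.Xle hx) v hv).symm]; exact one_mem _⟩
  -- `v = k₀ c`
  obtain ⟨σ, hσ⟩ := b.exists_sigma
  set K := Kp ⊓ xo p G
  haveI hKK : K.Normal := inferInstance
  obtain ⟨k₀, hk₀, c, hcσ, hcK, hvc⟩ : ∃ k ∈ K, ∃ c, Commute σ c ∧ c ∈ Kp ∧ v = k * c := by
    have hn : zpowers σ ≤ normalizer (K : Set G) := (normalizer_eq_top_iff.2 hKK).symm ▸ le_top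
    have hKp : IsPGroup p K := PSolvable.pCore_isPGroup.to_le (inf_le_right.trans xo_le_pCore)
    obtain ⟨j, hj⟩ := hKp.exists_card_eq
    have hcop : (Nat.card (zpowers σ)).Coprime (Nat.card K) := by
      rw [Nat.card_zpowers, hj]; exact (hσ.coprime.pow_left j).symm
    have hsolv : Group.IsSolvable (zpowers σ) ∨ Group.IsSolvable K := Or.inr (by
      haveI : Group.IsNilpotent K := hKp.isNilpotent
      infer_instance)
    obtain ⟨c, hc, hcN⟩ := Coprime.exists_centralizer_mem_rightCoset hn hcop hsolv (k := v)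
      (fun a ha => by
        have h1 : a * v * a⁻¹ * v⁻¹ ∈ Kp := mul_mem (hKn.conj_mem v hvK a) (inv_mem hvK)
        have h2 : a * v * a⁻¹ * v⁻¹ ∈ xo p G := by
          rw [show a * v * a⁻¹ * v⁻¹ = ⁅v, a⁆⁻¹ by simp [commutatorElement_def, mul_assoc]]
          exact inv_mem (commutator_mem_commutator hvD (zpowers_le.2 hσ.mem_opG ha))
        exact ⟨h1, h2⟩)
    refine ⟨(c * v⁻¹)⁻¹, inv_mem hcN, c, mem_centralizer_iff.1 hc σ (mem_zpowers σ), ?_, by group⟩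
    simpa using mul_mem (inf_le_left (a := Kp) hcN) hvK
  have hKX : K ≤ xPart p A := inf_le_right.trans b.xo_le_xPart
  have hσK : ∀ k ∈ K, σ * k * σ⁻¹ ∈ K := fun k hk => hKK.conj_mem k hk σ
  have hσX : ∀ k ∈ xo p G, σ * k * σ⁻¹ ∈ xo p G := fun k hk => hXn.conj_mem k hk σ
  set Xσ := sigC σ (xo p G)
  have hXσ : Xσ ≤ xo p G := sigC_le hσX
  have hcy : ∀ y ∈ Xσ, ⁅v, y⁆ = ⁅k₀, y⁆ := fun y hy => by
    have h1 : Commute y c := b.sigC_comm hσ le_rfl hσX hcσ (fun k hk => hcK.1.2 k hk) hy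
    rw [hvc, show ⁅k₀ * c, y⁆ = k₀ * ⁅c, y⁆ * k₀⁻¹ * ⁅k₀, y⁆ by
      simp [commutatorElement_def, mul_assoc], commutatorElement_eq_one_iff_mul_comm.2 h1.symm.eq]
    group
  obtain ⟨a, ha, haD⟩ := SetLike.not_le_iff_exists.1 b.out
  have haS := b.lag.le ha
  set K' := Kp ⊓ xPart p A
  have hK'IW : iPart p A ⊔ W ≤ K' :=
    le_inf ((sup_le (inf_le_right.trans le_sup_right) le_sup_left).trans hwcK)
      (sup_le b.iPart_le_xPart b.W_le_xPart)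
  have hK'inv : ∀ k ∈ opG p G ⊔ A, ∀ x ∈ K', k * x * k⁻¹ ∈ K' := fun k hk x hx =>
    ⟨hKn.conj_mem x hx.1 k, b.xPart_conj hk hx.2⟩
  let K3 : Subgroup G :=
    { carrier := {y | y ∈ D ∧ ∀ x ∈ xo p G, ⁅y, x⁆ ∈ C₂}
      one_mem' := ⟨one_mem _, fun x _ => by simp⟩
      mul_mem' := fun {y z} hy hz => ⟨mul_mem hy.1 hz.1, fun x hx => by
        rw [show ⁅y * z, x⁆ = y * ⁅z, x⁆ * y⁻¹ * ⁅y, x⁆ by simp [commutatorElement_def, mul_assoc]]
        exact mul_mem (sh.Cn y (hDS hy.1) _ (hz.2 x hx)) (hy.2 x hx)⟩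
      inv_mem' := fun {y} hy => ⟨inv_mem hy.1, fun x hx => by
        rw [show ⁅y⁻¹, x⁆ = y⁻¹ * ⁅y, x⁆⁻¹ * y⁻¹⁻¹ by simp [commutatorElement_def, mul_assoc]]
        exact sh.Cn y⁻¹ (hDS (inv_mem hy.1)) _ (inv_mem (hy.2 x hx))⟩ }
  have hcomm_e : ∀ y ∈ xPart p A, ∀ e ∈ iPart p A ⊔ W, ∀ x ∈ xPart p A,
      ⁅y * e, x⁆ = ⁅y, x⁆ := fun y _ e he x hx => by
    rw [show ⁅y * e, x⁆ = y * ⁅e, x⁆ * y⁻¹ * ⁅y, x⁆ by simp [commutatorElement_def, mul_assoc],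
      b.comm_iW_xPart hx he]
    group
  have hright : ∀ y ∈ xPart p A, ∀ x ∈ xPart p A, ∀ e ∈ iPart p A ⊔ W,
      ⁅y, x * e⁆ = ⁅y, x⁆ := fun y hy x _ e he => by
    rw [show ⁅y, x * e⁆ = ⁅y, x⁆ * (x * ⁅e, y⁆⁻¹ * x⁻¹) by
      simp [commutatorElement_def, mul_assoc], b.comm_iW_xPart hy he]
    group
  have hC2 : ∀ y ∈ zen S ⊔ C₂, ∀ x ∈ S, ⁅y, x⁆ ∈ C₂ := by
    let R : Subgroup G :=
      { carrier := {y | y ∈ S ∧ ∀ x ∈ S, ⁅y, x⁆ ∈ C₂}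
        one_mem' := ⟨one_mem _, fun x _ => by simp⟩
        mul_mem' := fun {y z} hy hz => ⟨mul_mem hy.1 hz.1, fun x hx => by
          rw [show ⁅y * z, x⁆ = y * ⁅z, x⁆ * y⁻¹ * ⁅y, x⁆ by
            simp [commutatorElement_def, mul_assoc]]
          exact mul_mem (sh.Cn y hy.1 _ (hz.2 x hx)) (hy.2 x hx)⟩
        inv_mem' := fun {y} hy => ⟨inv_mem hy.1, fun x hx => by
          rw [show ⁅y⁻¹, x⁆ = y⁻¹ * ⁅y, x⁆⁻¹ * y⁻¹⁻¹ by simp [commutatorElement_def, mul_assoc]]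
          exact sh.Cn y⁻¹ (inv_mem hy.1) _ (inv_mem (hy.2 x hx))⟩ }
    have hR : zen S ⊔ C₂ ≤ R := sup_le (fun z hz => ⟨hz.1, fun x hx => by
      rw [commutatorElement_eq_one_iff_mul_comm.2 (mem_centralizer_iff.1 hz.2 x hx).symm]
      exact one_mem _⟩) fun e he => ⟨sh.Cle he, fun x hx => by
      rw [show ⁅e, x⁆ = e * (x * e⁻¹ * x⁻¹) by rw [commutatorElement_def]; group]
      exact mul_mem he (sh.Cn x hx _ (inv_mem he))⟩
    exact fun y hy x hx => (hR hy).2 x hx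
  -- the `U`-part of `k₀`
  have L1 : ∀ g : G, Opp ψ g → g ∈ opG p G → ∀ u ∈ uPart p A, ∀ u' ∈ (uPart p A).map (cj g),
      k₀ = u * u' → u ∈ K3 := by
    intro g hg hgP u hu u' hu' hk
    obtain ⟨hlift, hsplit⟩ := b.dec_of_invariant hg hgP ha haD (K := K') inf_le_right hK'IW hK'inv
    obtain ⟨u₀, hu₀, hu₀K, u₀', hu₀', -, he⟩ := hsplit k₀ ⟨hk₀.1, hKX hk₀⟩
    have huK : u ∈ K' := by
      have h1 : u₀⁻¹ * u = u₀' * u'⁻¹ := by
        calc u₀⁻¹ * u = u₀⁻¹ * (u * u') * u'⁻¹ := by group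
          _ = u₀⁻¹ * (u₀ * u₀') * u'⁻¹ := by rw [← hk, he]
          _ = _ := by group
      have h2 : u₀⁻¹ * u ∈ (uPart p A).map (cj g) := h1 ▸ mul_mem hu₀' (inv_mem hu')
      have h4 : u₀⁻¹ * u ∈ uPart p A := mul_mem (inv_mem hu₀) hu
      have h3 : u₀⁻¹ * u ∈ iPart p A := (b.inf_eq_iPart hg hgP).le ⟨h4, h2⟩
      have := mul_mem hu₀K (hK'IW (mem_sup_left h3))
      rwa [mul_inv_cancel_left] at this
    obtain ⟨t₀, ht₀, ht₀K, hte⟩ := hlift u hu huK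
    obtain ⟨y₀, hy₀, hy₀x, i, hi, rfl⟩ := b.uConj_dec hgP ht₀
    have hy₀K : y₀ ∈ Kp := by
      have hi0 : i ∈ Kp := hwcK (mem_sup_right hi.2)
      have h9 : y₀ * i ∈ Kp := ht₀K.1
      have := mul_mem h9 (inv_mem hi0)
      rwa [mul_inv_cancel_right] at this
    obtain ⟨t, ht, i', hi', rfl⟩ := b.sigC_dec hσ hKX hσK (show y₀ ∈ K from ⟨hy₀K, hy₀x⟩)
    have htK : t ∈ K := sigC_le hσK ht
    have htX : t ∈ xPart p A := hKX htK
    have htU : t ∈ (uPart p A).map (cj g) := by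
      have := mul_mem hy₀ (inv_mem (b.iPart_le_cj hgP hi'))
      rwa [mul_inv_cancel_right] at this
    set P := ⁅a, t⁆
    have hPX : P ∈ xPart p A := mul_mem (b.xPart_conj (mem_sup_right ha) htX) (inv_mem htX)
    have hPe : ⁅a, t * i' * i⁆ = P := by
      rw [show ⁅a, t * i' * i⁆ = ⁅a, t⁆ * (t * ⁅a, i' * i⁆ * t⁻¹) by
        simp [commutatorElement_def, mul_assoc],
        commutatorElement_eq_one_iff_mul_comm.2 (b.comm_A_iPart ha (mul_mem hi' hi))]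
      simp [P]
    rw [hPe] at hte
    obtain ⟨e, heIW, rfl⟩ : ∃ e ∈ iPart p A ⊔ W, u = P * e :=
      ⟨P⁻¹ * u, hte, by group⟩
    have huX := b.uPart_le_xPart hu
    -- commutators of `t` with `X₂`
    have hkey : ∀ x ∈ X₂, ∃ τ ∈ Xσ, ⁅t, x⁆ = ⁅v, τ⁆⁻¹ := by
      intro x hx
      obtain ⟨y, hy, ρ, hρ, hσρ, rfl⟩ := b.exists_dec_D hσ (hX2 hx)
      have htρ : Commute t ρ := b.sigC_comm hσ inf_le_right hσK hσρ (fun k hk => by
        rw [show ⁅k, ρ⁆ = ⁅k, y⁻¹⁆ * (y⁻¹ * ⁅k, y * ρ⁆ * y⁻¹⁻¹) by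
          simp [commutatorElement_def, mul_assoc]]
        exact mul_mem (b.xoxo_mem hk.2 (inv_mem hy))
          (c0_normal.conj_mem _ (hk.1.2 _ hx) y⁻¹)) ht
      obtain ⟨un, hun, -, un', hun', -, rfl⟩ := b.xo_dec hg hgP hy
      obtain ⟨hlX, -⟩ := b.dec_of_invariant hg hgP ha haD (K := xPart p A) le_rfl
        (sup_le b.iPart_le_xPart b.W_le_xPart) (fun k hk x hx => b.xPart_conj hk hx)
      obtain ⟨τ, hτ, -, hτe⟩ := hlX un hun (b.uPart_le_xPart hun)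
      obtain ⟨τy, hτy, hτyx, j, hj, rfl⟩ := b.uConj_dec hgP hτ
      obtain ⟨τ₀, hτ₀, j', hj', rfl⟩ := b.sigC_dec hσ b.xo_le_xPart hσX hτyx
      refine ⟨τ₀, hτ₀, ?_⟩
      have hτ₀U : τ₀ ∈ (uPart p A).map (cj g) := by
        have := mul_mem hτy (inv_mem (b.iPart_le_cj hgP hj'))
        rwa [mul_inv_cancel_right] at this
      have hτ₀X : τ₀ ∈ xPart p A := b.uConj_le_xPart hgP hτ₀U
      set T := ⁅a, τ₀ * j' * j⁆
      have hTX : T ∈ xPart p A := mul_mem (b.xPart_conj (mem_sup_right ha)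
        (b.uConj_le_xPart hgP hτ)) (inv_mem (b.uConj_le_xPart hgP hτ))
      have e1 : ⁅t, un * un' * ρ⁆ = ⁅t, un⁆ := by
        rw [show ⁅t, un * un' * ρ⁆ = ⁅t, un⁆ * (un * (⁅t, un'⁆ * (un' * ⁅t, ρ⁆ * un'⁻¹)) * un⁻¹) by
          simp [commutatorElement_def, mul_assoc],
          commutatorElement_eq_one_iff_mul_comm.2 (b.uConj_comm htU hun'),
          commutatorElement_eq_one_iff_mul_comm.2 htρ.eq]
        group
      rw [e1, show un = T * (T⁻¹ * un) by group, hright t htX T hTX _ hτe,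
        b.rotate hgP ha htU hτ, show τ₀ * j' * j = τ₀ * (j' * j) by group,
        hright P hPX τ₀ hτ₀X _ (mem_sup_left (mul_mem hj' hj)), hcy τ₀ hτ₀, hk]
      congr 1
      rw [show ⁅P * e * u', τ₀⁆ = P * e * ⁅u', τ₀⁆ * (P * e)⁻¹ * ⁅P * e, τ₀⁆ by
        simp [commutatorElement_def, mul_assoc],
        commutatorElement_eq_one_iff_mul_comm.2 (b.uConj_comm hu' hτ₀U),
        hcomm_e P hPX e heIW τ₀ hτ₀X]
      group
    have hB : IsLag S ((uPart p A ⊔ W).map (cj g)) := (b.ctx.lagUW b.lag b.out).map_conj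
      (((map_mono (sup_le inf_le_right b.ctx.W_le)).trans (map_cj_normal D g).le).trans hDS)
    have htB : t ∈ (uPart p A ⊔ W).map (cj g) := map_mono le_sup_left htU
    have hBD : ¬ (uPart p A ⊔ W).map (cj g) ≤ D₂ := fun h => by
      obtain ⟨x, hx, -, hxD⟩ := b.exists_conj_not_mem sh hX hg hgP
      exact hxD (h (map_mono le_sup_left hx))
    have htD : t ∈ D₂ := by
      by_contra h
      refine sh.moves _ hB t htB h fun x hx => ?_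
      obtain ⟨τ, hτ, e⟩ := hkey x hx
      rw [e]
      exact inv_mem (sh.WS τ (hDS (xo_le_pCore (hXσ hτ))) v hv)
    have hone : ∀ x ∈ X₂, ⁅t, x⁆ = 1 := by
      intro x hx
      obtain ⟨τ, hτ, e⟩ := hkey x hx
      have h1 : ⁅v, τ⁆ ∈ C₂ := inv_mem_iff.1 (e ▸ sh.centC _ hB hBD t htB htD x hx)
      have h2 := sh.detect v hv hvZ τ (hDS (xo_le_pCore (hXσ hτ))) h1
      rw [e, commutatorElement_eq_one_iff_mul_comm.2 (sh.WD τ h2 v hv).symm, inv_one]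
    refine ⟨hu.2, fun x hx => ?_⟩
    rw [hcomm_e P hPX e heIW x (b.xo_le_xPart hx)]
    exact hC2 P (sh.centZ _ hB hBD t htB htD hone a haS) x (hDS (xo_le_pCore hx))
  -- conclusion
  obtain ⟨g, hgP, hg⟩ := b.ctx.exists_opp
  obtain ⟨u, hu, u', hu', hk⟩ := b.xPart_dec hg hgP (hKX hk₀)
  have huK3 := L1 g hg hgP u hu u' hu' hk
  have hfact : ∀ a' ∈ A, ⁅a', u'⁆ ∈ K3 := by
    intro a' ha'
    set g2 := a' * g * a'⁻¹
    have hg2P : g2 ∈ opG p G := (inferInstance : (opG p G).Normal).conj_mem g hgP a'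
    have hg2 : Opp ψ g2 := b.ctx.opp_mul_right (b.ctx.opp_mul_left hg (b.lag.le ha'))
      (inv_mem (b.lag.le ha'))
    obtain ⟨v1, hv1, w, hw, hvw⟩ := mem_sup_of_normal_right.1 (b.comm_mem_UW hgP ha' hu')
    obtain ⟨z, hz, z', hz', rfl⟩ := b.ctx.W_mul b.lag b.out hg2 hw
    have hau : a' * u' * a'⁻¹ ∈ (uPart p A).map (cj g2) := by
      obtain ⟨y, hy, rfl⟩ := hu'
      refine ⟨y, hy, ?_⟩
      simp only [cj_apply, g2]
      calc a' * g * a'⁻¹ * y * (a' * g * a'⁻¹)⁻¹ = a' * g * (a'⁻¹ * (y * a')) * g⁻¹ * a'⁻¹ := by group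
        _ = _ := by rw [← b.A_comm_u ha' hy]; group
    have hz'W := b.ctx.zen_map_le_W g2 hz'
    have hzW := b.ctx.zen_le_W hz
    have e : (v1 * (z * z'))⁻¹ = v1⁻¹ * z⁻¹ * z'⁻¹ := by
      rw [mul_inv_rev, mul_inv_rev]
      have h1 : Commute z'⁻¹ z⁻¹ := (show Commute z' z from b.ctx.W_comm hz'W hzW).inv_inv
      have h2 : Commute (z⁻¹ * z'⁻¹) v1⁻¹ :=
        (show Commute (z⁻¹ * z'⁻¹) v1 from (b.ctx.D_comm_W hv1.2
          (mul_mem (inv_mem hzW) (inv_mem hz'W))).symm).inv_right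
      rw [h1.eq, h2.eq]; group
    have hsplit : k₀ = (u * v1⁻¹ * z⁻¹) * (z'⁻¹ * (a' * u' * a'⁻¹)) := by
      calc k₀ = u * (⁅a', u'⁆⁻¹ * (a' * u' * a'⁻¹)) := by
            rw [hk, commutatorElement_def]; group
        _ = _ := by rw [← hvw, e]; group
    have h1 := L1 g2 hg2 hg2P _ (mul_mem (mul_mem hu (inv_mem hv1)) (inv_mem (b.zen_le_uPart hz)))
      _ (mul_mem (inv_mem (map_mono b.zen_le_uPart hz')) hau) hsplit
    have h3 : v1 * z ∈ K3 := by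
      have h4 := mul_mem (inv_mem h1) huK3
      rwa [show (u * v1⁻¹ * z⁻¹)⁻¹ * u = v1 * z by
        rw [show (u * v1⁻¹ * z⁻¹)⁻¹ * u = z * v1 by group, b.ctx.D_comm_W hv1.2 hzW]] at h4
    rw [← hvw, ← mul_assoc]
    refine mul_mem h3 ⟨b.ctx.W_le hz'W, fun x hx => ?_⟩
    rw [commutatorElement_eq_one_iff_mul_comm.2 (b.ctx.D_comm_W (xo_le_pCore hx) hz'W).symm]
    exact one_mem _
  have hXσD : Xσ ≤ D₂ := by
    intro y hy
    have hyS : y ∈ S := hDS (xo_le_pCore (hXσ hy))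
    refine sh.detect v hv hvZ y hyS ?_
    rw [hcy y hy, hk, show ⁅u * u', y⁆ = u * ⁅u', y⁆ * u⁻¹ * ⁅u, y⁆ by
      simp [commutatorElement_def, mul_assoc]]
    refine mul_mem (sh.Cn u (b.lag.le hu.1) _ ?_) (huK3.2 y (hXσ hy))
    obtain ⟨u1, hu1, -, u1', hu1', -, rfl⟩ := b.xo_dec hg hgP (hXσ hy)
    obtain ⟨hlX, -⟩ := b.dec_of_invariant hg hgP ha haD (K := xPart p A) le_rfl
      (sup_le b.iPart_le_xPart b.W_le_xPart) (fun k hk x hx => b.xPart_conj hk hx)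
    obtain ⟨τ, hτ, -, hτe⟩ := hlX u1 hu1 (b.uPart_le_xPart hu1)
    obtain ⟨τy, hτy, hτyx, j, hj, rfl⟩ := b.uConj_dec hgP hτ
    set T := ⁅a, τy * j⁆
    have hTX : T ∈ xPart p A := mul_mem (b.xPart_conj (mem_sup_right ha)
      (b.uConj_le_xPart hgP hτ)) (inv_mem (b.uConj_le_xPart hgP hτ))
    have hu'X := b.uConj_le_xPart hgP hu'
    have hPX : ⁅a, u'⁆ ∈ xPart p A := mul_mem (b.xPart_conj (mem_sup_right ha) hu'X) (inv_mem hu'X)
    rw [show ⁅u', u1 * u1'⁆ = ⁅u', u1⁆ * (u1 * ⁅u', u1'⁆ * u1⁻¹) by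
        simp [commutatorElement_def, mul_assoc],
      commutatorElement_eq_one_iff_mul_comm.2 (b.uConj_comm hu' hu1'), mul_one, mul_inv_cancel,
      mul_one, show u1 = T * (T⁻¹ * u1) by group, hright u' hu'X T hTX _ hτe,
      b.rotate hgP ha hu' hτ,
      hright _ hPX τy (b.xo_le_xPart hτyx) j (mem_sup_left hj)]
    exact inv_mem ((hfact a ha).2 τy hτyx)
  -- `[O_p(G), O^p(G)]` lies in `D₂`
  set Q := xo p G ⊓ D₂
  have hSQ : S ≤ normalizer (Q : Set G) := fun s hs => mem_normalizer_iff.2 fun y =>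
    ⟨fun hy => ⟨hXn.conj_mem y hy.1 s, sh.Dn s hs y hy.2⟩, fun hy => by
      have h1 := hXn.conj_mem _ hy.1 s⁻¹
      have h2 := sh.Dn _ (inv_mem hs) _ hy.2
      rw [show s⁻¹ * (s * y * s⁻¹) * s⁻¹⁻¹ = y by group] at h1 h2
      exact ⟨h1, h2⟩⟩
  have hσQ : σ ∈ normalizer (Q : Set G) := by
    have h1 : Q.map (cj σ) ≤ Q := by
      rintro _ ⟨y, hy, rfl⟩
      refine ⟨hXn.conj_mem y hy.1 σ, ?_⟩
      show σ * y * σ⁻¹ ∈ D₂
      rw [show σ * y * σ⁻¹ = ⁅σ, y⁆ * y by rw [commutatorElement_def]; group]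
      exact mul_mem (hXσD (mem_sigC hy.1)) hy.2
    have h2 : Q.map (cj σ) = Q := eq_of_le_of_card_ge h1 (by rw [card_map_cj])
    refine mem_normalizer_iff.2 fun y => ⟨fun hy => h1 (mem_map_of_mem _ hy), fun hy => ?_⟩
    rw [← h2] at hy
    simpa [mul_assoc] using mem_map_cj.1 hy
  let R : Subgroup G :=
    { carrier := {k | k ∈ normalizer (Q : Set G) ∧ ∀ x ∈ xo p G, ⁅x, k⁆ ∈ Q}
      one_mem' := ⟨one_mem _, fun x _ => by simp⟩
      mul_mem' := fun {k l} hk hl => ⟨mul_mem hk.1 hl.1, fun x hx => by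
        rw [show ⁅x, k * l⁆ = ⁅x, k⁆ * (k * ⁅x, l⁆ * k⁻¹) by
          simp [commutatorElement_def, mul_assoc]]
        exact mul_mem (hk.2 x hx) ((mem_normalizer_iff.1 hk.1 _).1 (hl.2 x hx))⟩
      inv_mem' := fun {k} hk => ⟨inv_mem hk.1, fun x hx => by
        rw [show ⁅x, k⁻¹⁆ = k⁻¹ * ⁅x, k⁆⁻¹ * k⁻¹⁻¹ by simp [commutatorElement_def, mul_assoc]]
        exact (mem_normalizer_iff.1 (inv_mem hk.1) _).1 (inv_mem (hk.2 x hx))⟩ }
  have hRtop : S ⊔ zpowers σ ≤ R := sup_le (fun s hs => ⟨hSQ hs, fun x hx => by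
    have h1 : ⁅x, s⁆ ∈ xo p G := by
      rw [show ⁅x, s⁆ = x * (s * x⁻¹ * s⁻¹) by rw [commutatorElement_def]; group]
      exact mul_mem hx (hXn.conj_mem _ (inv_mem hx) s)
    exact ⟨h1, sh.commS x (hDS (xo_le_pCore hx)) s hs⟩⟩)
    (zpowers_le.2 ⟨hσQ, fun x hx => by
      have h1 : ⁅σ, x⁆ ∈ Xσ := mem_sigC hx
      rw [← commutatorElement_inv]
      exact inv_mem ⟨hXσ h1, hXσD h1⟩⟩)
  rw [hσ.gen] at hRtop
  refine hX ((xo_comm_opG (p := p) (G := G)).ge.trans (le_trans ?_ (inf_le_right : Q ≤ D₂)))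
  exact Subgroup.commutator_le.2 fun x hx k _ => (hRtop (mem_top k)).2 x hx

end Base

end Cfsg.Agent.Lib.GNiles
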