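import Mathlib
import Cfsg.Agent.Lib.GNiles.Shadow
/-!
For two situations on the same `S` with nontrivial layers, one of them with `h > q`:
`[O_p(G₁), O^p(G₁)]` lies in `O_p(G₂)`.
-/

set_option autoImplicit false
set_option linter.unusedSectionVars false

namespace Cfsg.Agent.Lib.GNiles

open Subgroup
open Cfsg.Agent.Lib
open Cfsg.Agent.Lib.SL2 (SLtwo PSLtwo)
open scoped commutatorElement

section Push

variable {G : Type*} [Group G] {H : Type*} [Group H] {S : Subgroup G} {T : Subgroup H}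

/-- Transport along an isomorphism of `S` onto `T`. -/
def push (e : S ≃* T) (K : Subgroup G) : Subgroup H :=
  ((K.subgroupOf S).map e.toMonoidHom).map T.subtype

variable (e : S ≃* T)

theorem push_le (K : Subgroup G) : push e K ≤ T := map_subtype_le _

theorem push_mono {K L : Subgroup G} (h : K ≤ L) : push e K ≤ push e L :=
  map_mono (map_mono fun _ hx => h hx)

theorem apply_mem_push {K : Subgroup G} {x : S} : (e x : H) ∈ push e K ↔ (x : G) ∈ K := by
  refine ⟨?_, fun h => mem_map_of_mem _ (mem_map_of_mem _ h)⟩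
  rintro ⟨_, ⟨y, hy, rfl⟩, he⟩
  rwa [e.injective (Subtype.ext he)] at hy

theorem mem_push {K : Subgroup G} {x : H} :
    x ∈ push e K ↔ ∃ y : S, (y : G) ∈ K ∧ (e y : H) = x := by
  refine ⟨?_, ?_⟩
  · rintro ⟨_, ⟨y, hy, rfl⟩, rfl⟩; exact ⟨y, hy, rfl⟩
  · rintro ⟨y, hy, rfl⟩; exact (apply_mem_push e).2 hy

theorem apply_mem_pull {K : Subgroup H} {x : S} : (x : G) ∈ push e.symm K ↔ (e x : H) ∈ K := by
  have := apply_mem_push e.symm (K := K) (x := e x)
  rwa [e.symm_apply_apply] at this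

theorem push_symm_push {K : Subgroup G} (hK : K ≤ S) : push e.symm (push e K) = K := by
  ext x
  refine ⟨fun hx => ?_, fun hx => ?_⟩
  · obtain ⟨y, hy, rfl⟩ := (mem_push e.symm).1 hx
    have := apply_mem_push e (K := K) (x := e.symm y)
    rw [e.apply_symm_apply] at this
    exact this.1 hy
  · exact (apply_mem_pull e (x := ⟨x, hK hx⟩)).2 ((apply_mem_push e).2 hx)

theorem push_push_symm {K : Subgroup H} (hK : K ≤ T) : push e (push e.symm K) = K := by
  conv_lhs => arg 1; rw [← e.symm_symm]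
  exact push_symm_push e.symm hK

theorem card_push {K : Subgroup G} (hK : K ≤ S) : Nat.card (push e K) = Nat.card K := by
  rw [push, card_map_of_injective (f := T.subtype) T.subtype_injective,
    card_map_of_injective (f := e.toMonoidHom) e.injective]
  exact Nat.card_congr (subgroupOfEquivOfLe hK).toEquiv

theorem relIndex_push {K L : Subgroup G} (hL : L ≤ S) :
    (push e K).relIndex (push e L) = K.relIndex L := by
  rw [push, push, relIndex_map_map_of_injective _ _ T.subtype_injective,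
    relIndex_map_map_of_injective _ _ e.injective, relIndex_subgroupOf hL]

theorem apply_comm (x y : S) : ((e ⁅x, y⁆ : T) : H) = ⁅(e x : H), (e y : H)⁆ := by
  simp [commutatorElement_def]

theorem apply_mem_zen {x : S} : (e x : H) ∈ zen T ↔ (x : G) ∈ zen S := by
  refine ⟨fun h => ⟨x.2, mem_centralizer_iff.2 fun y hy => ?_⟩,
    fun h => ⟨(e x).2, mem_centralizer_iff.2 fun y hy => ?_⟩⟩
  · have h1 := mem_centralizer_iff.1 h.2 _ (e ⟨y, hy⟩).2
    rw [← coe_mul, ← coe_mul, ← map_mul, ← map_mul] at h1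
    exact congrArg Subtype.val (e.injective (Subtype.ext h1))
  · obtain ⟨z, hz⟩ := e.surjective ⟨y, hy⟩
    have h1 : z * x = x * z := Subtype.ext (mem_centralizer_iff.1 h.2 _ z.2)
    have h2 : e z * e x = e x * e z := by rw [← map_mul, ← map_mul, h1]
    rw [hz] at h2
    exact congrArg Subtype.val h2

theorem push_zen : push e (zen S) = zen T := by
  ext x
  rw [mem_push]
  refine ⟨?_, fun hx => ?_⟩
  · rintro ⟨y, hy, rfl⟩; exact (apply_mem_zen e).2 hy
  · refine ⟨e.symm ⟨x, hx.1⟩, (apply_mem_zen e).1 ?_, by simp⟩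
    rwa [e.apply_symm_apply]

theorem push_comm_le {K : Subgroup G} (hK : K ≤ centralizer (K : Set G)) :
    push e K ≤ centralizer (push e K : Set H) := by
  intro x hx
  obtain ⟨u, hu, rfl⟩ := (mem_push e).1 hx
  refine mem_centralizer_iff.2 fun y hy => ?_
  obtain ⟨v, hv, rfl⟩ := (mem_push e).1 hy
  have h : v * u = u * v := Subtype.ext (mem_centralizer_iff.1 (hK hu) _ hv)
  rw [← coe_mul, ← coe_mul, ← map_mul, ← map_mul, h]

theorem IsLag.push {A : Subgroup G} (hA : IsLag S A) : IsLag T (push e A) :=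
  ⟨push_le e A, push_comm_le e hA.comm, fun B hB hBc => by
    rw [card_push e hA.le, ← card_push e.symm hB]
    exact hA.max _ (push_le _ _) (push_comm_le _ hBc)⟩

end Push

variable {p : ℕ} [hp : Fact p.Prime]
variable {G : Type*} [Group G] [Finite G] {F : Type} [Field F] [Fintype F] {n : ℕ}
  {S A : Subgroup G} {ψ : G →* PSLtwo F}
variable {H : Type*} [Group H] [Finite H] {K : Type} [Field K] [Fintype K] {m : ℕ}
  {T B : Subgroup H} {φ : H →* PSLtwo K}

/-- The shadow of a situation on `T` in `S`. -/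
theorem shadow_of_base (b : Base p T B m φ) (e : S ≃* T) (hnt : ¬ xo p H ≤ wc p H) :
    Shadow S (push e.symm (Cfsg.pCore p H))
      (push e.symm (centralizer (Cfsg.pCore p H : Set H))) (push e.symm (xo p H))
      (push e.symm (c0 p H)) := by
  have hDT : Cfsg.pCore p H ≤ T := b.ctx.setup.le_S
  have hn : ∀ N : Subgroup H, N.Normal → ∀ s ∈ S, ∀ x ∈ push e.symm N,
      s * x * s⁻¹ ∈ push e.symm N := by
    intro N hN s hs x hx
    have hxS := push_le _ _ hx
    rw [show s * x * s⁻¹ = (((⟨s, hs⟩ : S) * ⟨x, hxS⟩ * ⟨s, hs⟩⁻¹ : S) : G) from rfl, apply_mem_pull,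
      map_mul, map_mul, map_inv]
    exact hN.conj_mem _ ((apply_mem_pull e (x := ⟨x, hxS⟩)).1 hx) _
  have hlag : ∀ A', IsLag S A' → ¬ A' ≤ push e.symm (Cfsg.pCore p H) →
      Base p T (push e A') m φ := fun A' hA' hA'D => ⟨b.ctx, b.sat, hA'.push e, fun h => hA'D
      fun x hx => (apply_mem_pull e (x := ⟨x, hA'.le hx⟩)).2 (h ((apply_mem_push e).2 hx))⟩
  have hzT : ∀ x : S, (e x : H) ∈ zen T → (x : G) ∈ zen S := fun x => (apply_mem_zen e).1
  refine
    { Dn := hn _ inferInstance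
      commS := fun s hs t ht => ?_
      zenD := fun z hz => ?_
      Cle := push_le _ _
      Cn := hn _ inferInstance
      Wle := fun w hw => ?_
      WD := fun d hd w hw => ?_
      Wzen := fun h => ?_
      WS := fun s hs w hw => ?_
      Xle := push_mono _ xo_le_pCore
      Xn := hn _ inferInstance
      detect := fun v hv hvZ y hy h => ?_
      moves := fun A' hA' t ht htD h => ?_
      centC := fun A' hA' hA'D t ht htD x hx => ?_
      centZ := fun A' hA' hA'D t ht htD h s hs => ?_ }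
  · rw [show ⁅s, t⁆ = ((⁅(⟨s, hs⟩ : S), ⟨t, ht⟩⁆ : S) : G) by simp [commutatorElement_def],
      apply_mem_pull, apply_comm]
    exact b.ctx.setup.comm_mem (e _).2 (e _).2
  · exact (apply_mem_pull e (x := ⟨z, hz.1⟩)).2 (b.ctx.zen_le_D ((apply_mem_zen e).2 hz))
  · obtain ⟨y, hy, rfl⟩ := (mem_push e.symm).1 hw
    obtain ⟨x, hx, z, hz, he⟩ := mem_sup_of_normal_right.1 (b.W_le_xo hy)
    have hxT : x ∈ T := hDT (xo_le_pCore hx.1)
    have hzT' : z ∈ zen T := b.ctx.center_le_zen hz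
    rw [show y = (⟨x, hxT⟩ * ⟨z, hzT'.1⟩ : T) from Subtype.ext he.symm, map_mul, coe_mul]
    refine mul_mem (mem_sup_left ((apply_mem_push e.symm).2 hx.1)) (mem_sup_right (hzT _ ?_))
    rwa [e.apply_symm_apply]
  · have h1 := (apply_mem_pull e (x := ⟨d, push_le _ _ hd⟩)).1 hd
    have h2 := (apply_mem_pull e (x := ⟨w, push_le _ _ hw⟩)).1 hw
    have h3 := b.ctx.D_comm_W h1 h2
    rw [← coe_mul, ← coe_mul, ← map_mul, ← map_mul] at h3
    exact congrArg Subtype.val (e.injective (Subtype.ext h3))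
  · have h1 : centralizer (Cfsg.pCore p H : Set H) ≤ zen T := fun w hw => by
      have hwT : w ∈ T := hDT (b.ctx.W_le hw)
      have h2 := h ((apply_mem_push e.symm (x := ⟨w, hwT⟩)).2 hw)
      have := (apply_mem_zen e).2 h2
      rwa [e.apply_symm_apply] at this
    have := b.ctx.index_zen b.lag b.out
    rw [relIndex_eq_one.2 h1] at this
    exact b.ctx.setup.one_lt.ne this
  · have hwS := push_le _ _ hw
    rw [show ⁅w, s⁆ = ((⁅(⟨w, hwS⟩ : S), ⟨s, hs⟩⁆ : S) : G) by simp [commutatorElement_def]]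
    refine hzT _ ?_
    rw [apply_comm]
    exact b.ctx.comm_W_mem b.lag b.out (e _).2 ((apply_mem_pull e (x := ⟨w, hwS⟩)).1 hw)
  · have hvS := push_le _ _ hv
    have hv' := (apply_mem_pull e (x := ⟨v, hvS⟩)).1 hv
    refine (apply_mem_pull e (x := ⟨y, hy⟩)).2 (b.mem_pCore_of_comm_c0 hv'
      (fun hz => hvZ (hzT _ hz)) (e _).2 ?_)
    rw [← apply_comm, ← apply_mem_pull (G := G) e]
    simpa [commutatorElement_def] using h
  · have b' := hlag A' hA' fun hle => htD (hle ht)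
    have htS := hA'.le ht
    refine hnt (b'.xo_le_wc_of_comm (t := (e ⟨t, htS⟩ : H)) ((apply_mem_push e).2 ht)
      (fun hD => htD ((apply_mem_pull e (x := ⟨t, htS⟩)).2 hD)) fun x hx => ?_)
    have hxT : x ∈ T := hDT (xo_le_pCore hx)
    have h1 := h _ ((apply_mem_push e.symm (x := ⟨x, hxT⟩)).2 hx)
    rw [show ⁅t, (e.symm ⟨x, hxT⟩ : G)⁆ = ((⁅(⟨t, htS⟩ : S), e.symm ⟨x, hxT⟩⁆ : S) : G) by
      simp [commutatorElement_def]] at h1
    have h2 := (apply_mem_zen e).2 h1
    rwa [apply_comm, e.apply_symm_apply] at h2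
  · have b' := hlag A' hA' hA'D
    have htS := hA'.le ht
    have hxS := push_le _ _ hx
    rw [show ⁅t, x⁆ = ((⁅(⟨t, htS⟩ : S), ⟨x, hxS⟩⁆ : S) : G) by simp [commutatorElement_def],
      apply_mem_pull, apply_comm]
    exact b'.comm_mem_c0 ⟨(apply_mem_push e).2 ht, (apply_mem_pull e (x := ⟨t, htS⟩)).1 htD⟩
      ((apply_mem_pull e (x := ⟨x, hxS⟩)).1 hx)
  · have b' := hlag A' hA' hA'D
    have htS := hA'.le ht
    have h1 : ∀ x ∈ xo p H, ⁅(e ⟨t, htS⟩ : H), x⁆ = 1 := fun x hx => by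
      have hxT : x ∈ T := hDT (xo_le_pCore hx)
      have h2 := h _ ((apply_mem_push e.symm (x := ⟨x, hxT⟩)).2 hx)
      have h3 : ⁅(⟨t, htS⟩ : S), e.symm ⟨x, hxT⟩⁆ = 1 :=
        Subtype.ext (by simpa [commutatorElement_def] using h2)
      have h4 := apply_comm e (⟨t, htS⟩ : S) (e.symm ⟨x, hxT⟩)
      rw [h3, map_one, coe_one, e.apply_symm_apply] at h4
      exact h4.symm
    have h5 := b'.comm_mem_zen_c0
      ⟨(apply_mem_push e).2 ht, (apply_mem_pull e (x := ⟨t, htS⟩)).1 htD⟩ (e ⟨s, hs⟩).2 h1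
    obtain ⟨z, hz, k, hk, he⟩ := mem_sup_of_normal_right.1 h5
    have hkT : k ∈ T := hDT hk.1
    have e2 : ⁅(⟨s, hs⟩ : S), ⟨t, htS⟩⁆ = e.symm ⟨z, hz.1⟩ * e.symm ⟨k, hkT⟩ := by
      apply e.injective
      rw [map_mul, e.apply_symm_apply, e.apply_symm_apply]
      exact Subtype.ext ((apply_comm e _ _).trans he.symm)
    rw [show ⁅s, t⁆ = ((⁅(⟨s, hs⟩ : S), ⟨t, htS⟩⁆ : S) : G) by simp [commutatorElement_def], e2,
      coe_mul]
    refine mul_mem (mem_sup_left (hzT _ ?_)) (mem_sup_right ((apply_mem_push e.symm).2 hk))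
    rwa [e.apply_symm_apply]

namespace Base

variable (b : Base p S A n ψ)

include b

/-- The index `h` does not depend on the subgroup `A`. -/
theorem relIndex_wc_eq {A' : Subgroup G} (b' : Base p S A' n ψ) :
    (wc p G).relIndex (uPart p A ⊔ centralizer (Cfsg.pCore p G : Set G)) =
      (wc p G).relIndex (uPart p A' ⊔ centralizer (Cfsg.pCore p G : Set G)) :=
  Nat.mul_self_inj.1 (b.hSq_eq.symm.trans b'.hSq_eq)

theorem le_relIndex_of_not_le (hnt : ¬ xo p G ≤ wc p G) :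
    p ^ n ≤ (wc p G).relIndex (uPart p A ⊔ centralizer (Cfsg.pCore p G : Set G)) :=
  b.le_relIndex_uW fun h => hnt (relIndex_eq_one.1 (show hSq p G = 1 by rw [b.hSq_eq, h]))

end Base

/-- If neither `X₁ ≤ D₂` nor `X₂ ≤ D₁` then `h₂ ≤ q₁`. -/
theorem relIndex_le_of_not_le (b : Base p S A n ψ) (b₂ : Base p T B m φ) (e : S ≃* T)
    (hnt : ¬ xo p G ≤ wc p G) (hnt₂ : ¬ xo p H ≤ wc p H)
    (h12 : ¬ xo p G ≤ push e.symm (Cfsg.pCore p H)) (h21 : ¬ xo p H ≤ push e (Cfsg.pCore p G)) :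
    (wc p H).relIndex (uPart p B ⊔ centralizer (Cfsg.pCore p H : Set H)) ≤ p ^ n := by
  set D := Cfsg.pCore p G
  obtain ⟨g, hgP, hg⟩ := b.ctx.exists_opp
  obtain ⟨x, hx, hxx, hxD⟩ := b.exists_conj_not_mem (shadow_of_base b₂ e hnt₂) h12 hg hgP
  set B₁ := (uPart p A ⊔ centralizer (D : Set G)).map (cj g)
  have hB₁ : IsLag S B₁ := (b.ctx.lagUW b.lag b.out).map_conj
    (((map_mono (sup_le inf_le_right b.ctx.W_le)).trans (map_cj_normal D g).le).trans b.ctx.setup.le_S)
  have hxB : x ∈ B₁ := map_mono le_sup_left hx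
  have hxS : x ∈ S := hB₁.le hxB
  have hxD' : (e ⟨x, hxS⟩ : H) ∉ Cfsg.pCore p H := fun h =>
    hxD ((apply_mem_pull e (x := ⟨x, hxS⟩)).2 h)
  have hxB' : (e ⟨x, hxS⟩ : H) ∈ push e B₁ := (apply_mem_push e).2 hxB
  have b₂' : Base p T (push e B₁) m φ :=
    ⟨b₂.ctx, b₂.sat, hB₁.push e, fun h => hxD' (h hxB')⟩
  have sh' : Shadow T (push e (Cfsg.pCore p G)) (push e (centralizer (D : Set G))) (push e (xo p G))
      (push e (c0 p G)) := by
    have h := shadow_of_base b e.symm hnt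
    rwa [e.symm_symm] at h
  obtain ⟨o, hoP, ho⟩ := b₂'.ctx.exists_opp
  obtain ⟨y, hy, -, hyD⟩ := b₂'.exists_conj_not_mem sh' h21 ho hoP
  set W₂ := centralizer (Cfsg.pCore p H : Set H)
  set U₂ := uPart p (push e B₁)
  set A₂ := (U₂ ⊔ W₂).map (cj o)
  have hA₂ : IsLag T A₂ := (b₂'.ctx.lagUW b₂'.lag b₂'.out).map_conj
    (((map_mono (sup_le inf_le_right b₂'.ctx.W_le)).trans
      (map_cj_normal (Cfsg.pCore p H) o).le).trans b₂'.ctx.setup.le_S)
  have b' : Base p S (push e.symm A₂) n ψ := ⟨b.ctx, b.sat, hA₂.push e.symm, fun h => hyD (by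
    have hyA : y ∈ A₂ := map_mono le_sup_left hy
    have h1 := h ((apply_mem_push e.symm (x := ⟨y, hA₂.le hyA⟩)).2 hyA)
    have h2 := (apply_mem_push e (K := D)).2 h1
    rwa [e.apply_symm_apply] at h2)⟩
  set M := U₂.map (cj o)
  have hMA : M ≤ A₂ := map_mono le_sup_left
  have hkey : push e D ⊓ M ≤ wc p H := by
    intro t ht
    obtain ⟨t₁, ht₁, rfl⟩ := (mem_push e).1 ht.1
    have htA : (t₁ : G) ∈ push e.symm A₂ := (apply_mem_pull e).2 (hMA ht.2)
    obtain ⟨k, hk, hkx, i, hi, hti⟩ := b'.uPart_dec (u := (t₁ : G)) ⟨htA, ht₁⟩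
    have hxt : ⁅x, (t₁ : G)⁆ = ⁅x, k⁆ := by
      rw [hti, show ⁅x, k * i⁆ = ⁅x, k⁆ * (k * ⁅x, i⁆ * k⁻¹) by
        simp [commutatorElement_def, mul_assoc],
        commutatorElement_eq_one_iff_mul_comm.2 (xo_comm_c0 hxx hi.2)]
      group
    have h1 : ⁅x, (t₁ : G)⁆ ∈ push e.symm A₂ := by
      rw [hxt]; exact (b'.xx_mem (b'.xo_le_xPart hxx) (b'.xo_le_xPart hkx)).1
    have h2 : ⁅x, (t₁ : G)⁆ ∈ B₁ := by
      rw [hxt]
      exact map_mono le_sup_left (b.iPart_le_cj hgP
        (b.xx_mem (b.xo_le_xPart hxx) (b.xo_le_xPart hkx)))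
    rw [show ⁅x, (t₁ : G)⁆ = ((⁅(⟨x, hxS⟩ : S), t₁⁆ : S) : G) by simp [commutatorElement_def]] at h1 h2
    have h3 := (apply_mem_pull e).1 h1
    have h4 := (apply_mem_push e).2 h2
    rw [apply_comm] at h3 h4
    refine b₂'.mem_iW_of_comm ho hoP hxB' hxD' ht.2 h4 ?_
    rwa [show A₂ = U₂.map (cj o) ⊔ W₂ by
      rw [show A₂ = (U₂ ⊔ W₂).map (cj o) from rfl, Subgroup.map_sup, map_cj_normal W₂ o]] at h3
  haveI : (wc p H).Normal := inferInstance
  calc (wc p H).relIndex (uPart p B ⊔ W₂) = (wc p H).relIndex (U₂ ⊔ W₂) := b₂.relIndex_wc_eq b₂'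
    _ = (wc p H).relIndex A₂ := by
      conv_rhs => rw [← map_cj_normal (wc p H) o]
      rw [relIndex_map_map_of_injective _ _ (MulAut.conj o).injective]
    _ = (wc p H).relIndex M := by
      rw [← relIndex_sup_right A₂ (wc p H), ← relIndex_sup_right M (wc p H)]
      congr 1
      refine le_antisymm (sup_le ?_ le_sup_right) (sup_le_sup_right hMA _)
      rw [show A₂ = (U₂ ⊔ W₂).map (cj o) from rfl, Subgroup.map_sup, map_cj_normal W₂ o]
      exact sup_le le_sup_left ((le_sup_left : W₂ ≤ wc p H).trans le_sup_right)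
    _ ≤ (push e D ⊓ M).relIndex M :=
      relIndex_le_of_le_left hkey (by rw [relIndex]; exact index_ne_zero_of_finite)
    _ = (push e D).relIndex M := inf_relIndex_right _ _
    _ ≤ (push e D).relIndex A₂ :=
      relIndex_le_of_le_right hMA (by rw [relIndex]; exact index_ne_zero_of_finite)
    _ = p ^ n := by
      rw [← b'.ctx.relIndex_lag b'.lag b'.out,
        ← relIndex_push e (K := Cfsg.pCore p G) (push_le e.symm A₂), push_push_symm e hA₂.le]

/-- Two situations on one `S` with nontrivial layers, one of them with `h > q`. -/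
theorem xo_le_push (b : Base p S A n ψ) (b₂ : Base p T B m φ) (e : S ≃* T)
    (hnt : ¬ xo p G ≤ wc p G) (hnt₂ : ¬ xo p H ≤ wc p H)
    (hbig : p ^ n < (wc p G).relIndex (uPart p A ⊔ centralizer (Cfsg.pCore p G : Set G)) ∨
      p ^ m < (wc p H).relIndex (uPart p B ⊔ centralizer (Cfsg.pCore p H : Set H))) :
    xo p G ≤ push e.symm (Cfsg.pCore p H) := by
  by_contra h12
  have h21 : ¬ xo p H ≤ push e (Cfsg.pCore p G) := fun h => by
    refine b.shadow_not_le (shadow_of_base b₂ e hnt₂) h12 ?_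
    exact (push_mono e.symm h).trans (push_symm_push e b.ctx.setup.le_S).le
  have k1 := relIndex_le_of_not_le b b₂ e hnt hnt₂ h12 h21
  have k2 := relIndex_le_of_not_le b₂ b e.symm hnt₂ hnt (by rwa [e.symm_symm]) (by exact h12)
  have k3 := b.le_relIndex_of_not_le hnt
  have k4 := b₂.le_relIndex_of_not_le hnt₂
  omega

end Cfsg.Agent.Lib.GNiles
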