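import Mathlib
import Cfsg.Agent.Lib.GNiles.Side
/-!
Abelian subgroups of largest order with the most elements of order dividing `p`.
-/

set_option autoImplicit false
set_option linter.unusedSectionVars false

namespace Cfsg.Agent.Lib.GNiles

open Subgroup
open Cfsg.Agent.Lib
open Cfsg.Agent.Lib.SL2 (SLtwo PSLtwo)
open scoped commutatorElement

variable {G : Type*} [Group G] [Finite G] {p : ℕ} [hp : Fact p.Prime]
  {F : Type} [Field F] [Fintype F] {n : ℕ}
variable {S A : Subgroup G} {ψ : G →* PSLtwo F}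

/-- The subgroup generated by the elements of `R` of order dividing `p`. -/
def omSub (p : ℕ) (R : Subgroup G) : Subgroup G := closure {x | x ∈ R ∧ x ^ p = 1}

omit [Finite G] hp in
theorem omSub_le (R : Subgroup G) : omSub p R ≤ R := (closure_le _).2 fun _ hx => hx.1

omit [Finite G] hp in
theorem mem_omSub {R : Subgroup G} {x : G} (hx : x ∈ R) (hxp : x ^ p = 1) : x ∈ omSub p R :=
  subset_closure ⟨hx, hxp⟩

omit [Finite G] hp in
theorem pow_of_mem_omSub {R : Subgroup G} (hR : R ≤ centralizer (R : Set G)) {x : G}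
    (hx : x ∈ omSub p R) : x ^ p = 1 := by
  let K : Subgroup G :=
    { carrier := {x | x ∈ R ∧ x ^ p = 1}
      one_mem' := ⟨one_mem _, one_pow p⟩
      mul_mem' := fun {x y} hx hy => ⟨mul_mem hx.1 hy.1, by
        rw [(show Commute x y from (mem_centralizer_iff.1 (hR hx.1) y hy.1).symm).mul_pow,
          hx.2, hy.2, one_mul]⟩
      inv_mem' := fun {x} hx => ⟨inv_mem hx.1, by rw [inv_pow, hx.2, inv_one]⟩ }
  exact ((closure_le K).2 (fun y hy => hy) hx).2

/-- An abelian subgroup of largest order with the most elements of order dividing `p`. -/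
structure IsOmLag (p : ℕ) (S A : Subgroup G) : Prop where
  lag : IsLag S A
  max : ∀ B, IsLag S B → Nat.card (omSub p B) ≤ Nat.card (omSub p A)

namespace Base

variable (b : Base p S A n ψ)

include b

theorem W_pow (hZ : ∀ z ∈ zen S, z ^ p = 1) {w : G}
    (hw : w ∈ centralizer (Cfsg.pCore p G : Set G)) : w ^ p = 1 := by
  obtain ⟨v, z, hv, hz, rfl⟩ := b.ctx.W_dec b.lag b.out hw
  have hvW : v ∈ centralizer (Cfsg.pCore p G : Set G) := by
    have := mul_mem hw (inv_mem (b.ctx.zen_le_W hz))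
    rwa [mul_inv_cancel_right] at this
  rw [(show Commute v z from b.ctx.W_comm hvW (b.ctx.zen_le_W hz)).mul_pow, hv, hZ z hz, one_mul]

theorem omSub_uW (hZ : ∀ z ∈ zen S, z ^ p = 1) :
    Nat.card (omSub p A) ≤
        Nat.card (omSub p (uPart p A ⊔ centralizer (Cfsg.pCore p G : Set G))) ∧
      (Nat.card (omSub p (uPart p A ⊔ centralizer (Cfsg.pCore p G : Set G))) ≤ Nat.card (omSub p A) →
        ∀ a ∈ A, ∃ o ∈ A, o ^ p = 1 ∧ o⁻¹ * a ∈ uPart p A) := by
  set D := Cfsg.pCore p G
  set W := centralizer (D : Set G)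
  set U := uPart p A
  set Ω := omSub p A
  set ΩU := Ω ⊓ D
  have hΩA : Ω ≤ A := omSub_le A
  have hΩc : ΩU ≤ centralizer (W : Set G) := inf_le_right.trans (le_centralizer_iff.1 le_rfl)
  have hinf : ΩU ⊓ W = zen S := by
    refine le_antisymm (fun x hx => ?_) (le_inf (le_inf (fun z hz =>
      mem_omSub (b.lag.zen_le hz) (hZ z hz)) b.ctx.zen_le_D) b.ctx.zen_le_W)
    rw [← b.uPart_inf_W]
    exact ⟨⟨hΩA hx.1.1, hx.1.2⟩, hx.2⟩
  have h1 := PushingUp.card_sup_mul_card_inf_of_commute hΩc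
  have h2 : Nat.card W = Nat.card (zen S) * p ^ n := by
    rw [← relIndex_bot_left, ← relIndex_mul_relIndex ⊥ (zen S) W bot_le b.ctx.zen_le_W,
      relIndex_bot_left, b.ctx.index_zen b.lag b.out]
  rw [hinf, h2] at h1
  have h3 : Nat.card (ΩU ⊔ W : Subgroup G) = Nat.card ΩU * p ^ n := by
    refine Nat.eq_of_mul_eq_mul_right (Nat.card_pos : 0 < Nat.card (zen S)) ?_
    rw [h1]; ring
  have h4 : (ΩU ⊔ W : Subgroup G) ≤ omSub p (U ⊔ W) := sup_le (fun x hx =>
    mem_omSub (mem_sup_left ⟨hΩA hx.1, hx.2⟩) (pow_of_mem_omSub b.lag.comm hx.1))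
    fun w hw => mem_omSub (mem_sup_right hw) (b.W_pow hZ hw)
  have h5 : Nat.card Ω = Nat.card ΩU * D.relIndex Ω := by
    rw [← relIndex_bot_left, ← relIndex_mul_relIndex ⊥ ΩU Ω bot_le inf_le_left, relIndex_bot_left,
      inf_relIndex_left]
  have h6 : D.relIndex Ω ≤ p ^ n := by
    rw [← b.ctx.relIndex_lag b.lag b.out]
    exact relIndex_le_of_le_right hΩA (by rw [relIndex]; exact index_ne_zero_of_finite)
  refine ⟨?_, fun hle => ?_⟩
  · rw [h5]
    exact (Nat.mul_le_mul_left _ h6).trans (h3.symm.le.trans (card_le_of_le h4))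
  · have h7 : D.relIndex Ω = p ^ n := by
      refine le_antisymm h6 (Nat.le_of_mul_le_mul_left (c := Nat.card ΩU) ?_ Nat.card_pos)
      rw [← h3, ← h5]
      exact (card_le_of_le h4).trans hle
    have hUn : U ≤ normalizer (Ω : Set G) := fun u hu => mem_normalizer_iff.2 fun x => by
      constructor
      · intro hx
        rwa [comm_eq b.lag.comm hu.1 (hΩA hx), mul_inv_cancel_right]
      · intro hx
        have hxA : u * x * u⁻¹ ∈ A := hΩA hx
        have huA : u ∈ A := hu.1
        have hx' : x ∈ A := by simpa [mul_assoc] using mul_mem (mul_mem (inv_mem huA) hxA) huA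
        rwa [comm_eq b.lag.comm huA hx', mul_inv_cancel_right] at hx
    have h8 : A ≤ Ω ⊔ U := by
      have e1 : U.relIndex A = p ^ n := by
        rw [show U = A ⊓ D from rfl, inf_relIndex_left, b.ctx.relIndex_lag b.lag b.out]
      have e2 : D.relIndex (Ω ⊔ U) = p ^ n := by
        refine le_antisymm ?_ (h7 ▸ relIndex_le_of_le_right le_sup_left
          (by rw [relIndex]; exact index_ne_zero_of_finite))
        rw [← b.ctx.relIndex_lag b.lag b.out]
        exact relIndex_le_of_le_right (sup_le hΩA inf_le_left)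
          (by rw [relIndex]; exact index_ne_zero_of_finite)
      have e3 : U.relIndex (Ω ⊔ U) = p ^ n := by
        rw [← e2, ← inf_relIndex_right U (Ω ⊔ U), ← inf_relIndex_right D (Ω ⊔ U)]
        congr 1
        rw [show U ⊓ (Ω ⊔ U) = A ⊓ (D ⊓ (Ω ⊔ U)) from inf_assoc _ _ _,
          inf_eq_right.2 ((inf_le_right : D ⊓ (Ω ⊔ U) ≤ Ω ⊔ U).trans (sup_le hΩA inf_le_left))]
      have e4 := relIndex_mul_relIndex U (Ω ⊔ U) A le_sup_right (sup_le hΩA inf_le_left)
      rw [e3, e1] at e4
      exact relIndex_eq_one.1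
        (Nat.eq_of_mul_eq_mul_left (pow_pos hp.out.pos n) (e4.trans (mul_one _).symm))
    intro a ha
    have ha' := h8 ha
    rw [← SetLike.mem_coe, coe_mul_of_right_le_normalizer_left _ _ hUn] at ha'
    obtain ⟨o, ho, u, hu, rfl⟩ := Set.mem_mul.1 ha'
    exact ⟨o, hΩA ho, pow_of_mem_omSub b.lag.comm ho, by rwa [inv_mul_cancel_left]⟩

/-- For odd `p` the layer has exponent `p` as soon as some element of `A` outside `O_p(G)` has. -/
theorem pow_xo_of_element (hp2 : p ≠ 2) (hZ : ∀ z ∈ zen S, z ^ p = 1) {a : G} (ha : a ∈ A)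
    (haD : a ∉ Cfsg.pCore p G) (hap : a ^ p = 1) : ∀ x ∈ xo p G, x ^ p ∈ c0 p G := by
  intro x hx
  set W := centralizer (Cfsg.pCore p G : Set G)
  obtain ⟨g, hgP, hg⟩ := b.ctx.exists_opp
  obtain ⟨hlift, -⟩ := b.dec_of_invariant hg hgP ha haD (K := xPart p A) le_rfl
    (sup_le b.iPart_le_xPart b.W_le_xPart) (fun k hk y hy => b.xPart_conj hk hy)
  have hU : ∀ u ∈ uPart p A, u ^ p ∈ c0 p G := by
    intro u hu
    obtain ⟨t, ht, -, hte⟩ := hlift u hu (b.uPart_le_xPart hu)
    set c := ⁅a, t⁆ with hc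
    obtain ⟨v, hv, w, hw, hvw⟩ := mem_sup_of_normal_right.1 (b.comm_mem_UW hgP ha ht)
    set z := ⁅a, c⁆
    have hz : z ∈ zen S := by
      rw [show z = ⁅a, v * w⁆ by rw [hvw],
        show ⁅a, v * w⁆ = ⁅a, v⁆ * (v * ⁅a, w⁆ * v⁻¹) by simp [commutatorElement_def, mul_assoc],
        commutatorElement_eq_one_iff_mul_comm.2 (b.A_comm_u ha hv), one_mul]
      have h1 := b.ctx.comm_mem_zen b.lag b.out (b.lag.le ha) hw
      rwa [mem_centralizer_iff.1 h1.2 v (b.lag.le hv.1), mul_inv_cancel_right]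
    have hcS : c ∈ S := b.ctx.setup.le_S ((sup_le inf_le_right b.ctx.W_le :
      uPart p A ⊔ W ≤ Cfsg.pCore p G) (b.comm_mem_UW hgP ha ht))
    have hac : a * c * a⁻¹ = z * c := by simp [z, commutatorElement_def, mul_assoc]
    have hat : a * t * a⁻¹ = c * t := by simp [hc, commutatorElement_def, mul_assoc]
    have hzc : Commute z c := (show Commute c z from mem_centralizer_iff.1 hz.2 c hcS).symm
    have haz : a * z * a⁻¹ = z := by
      rw [mem_centralizer_iff.1 hz.2 a (b.lag.le ha), mul_inv_cancel_right]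
    have key : ∀ k : ℕ, a ^ k * t * (a ^ k)⁻¹ = z ^ (k.choose 2) * c ^ k * t := by
      intro k
      induction k with
      | zero => simp
      | succ k ih =>
        calc a ^ (k + 1) * t * (a ^ (k + 1))⁻¹ = a * (a ^ k * t * (a ^ k)⁻¹) * a⁻¹ := by
              rw [pow_succ']; group
          _ = (a * z * a⁻¹) ^ (k.choose 2) * (a * c * a⁻¹) ^ k * (a * t * a⁻¹) := by
              rw [ih, conj_pow, conj_pow]; group
          _ = z ^ (k.choose 2) * (z ^ k * c ^ k) * (c * t) := by rw [haz, hac, hzc.mul_pow, hat]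
          _ = _ := by
              rw [Nat.choose_succ_succ, Nat.choose_one_right, pow_succ c k, add_comm, pow_add]
              group
    have h1 := key p
    rw [hap, one_mul, inv_one, mul_one] at h1
    have hzp : z ^ p.choose 2 = 1 := by
      obtain ⟨j, hj⟩ := hp.out.dvd_choose_self two_ne_zero
        (lt_of_le_of_ne hp.out.two_le (Ne.symm hp2))
      rw [hj, pow_mul, hZ z hz, one_pow]
    rw [hzp, one_mul] at h1
    have hcp : c ^ p = 1 := mul_eq_right.1 h1.symm
    obtain ⟨i, hi, w', hw', hiw⟩ := mem_sup_of_normal_right.1 hte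
    have hu' : u = c * (i * w') := by rw [hiw, mul_inv_cancel_left]
    have hcX : c ∈ xPart p A := (sup_le b.uPart_le_xPart b.W_le_xPart :
      uPart p A ⊔ W ≤ xPart p A) (b.comm_mem_UW hgP ha ht)
    rw [hu', (show Commute c (i * w') from (show Commute c i from (b.iPart_comm hi hcX).symm).mul_right
        (show Commute c w' from b.ctx.D_comm_W (b.xPart_le_pCore hcX) hw')).mul_pow, hcp, one_mul,
      (show Commute i w' from b.ctx.D_comm_W hi.2.1 hw').mul_pow, b.W_pow hZ hw', mul_one]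
    exact pow_mem hi.2 p
  obtain ⟨u, hu, hux, u', hu', hu'x, rfl⟩ := b.xo_dec hg hgP hx
  set π := QuotientGroup.mk' (c0 p G)
  have hcm : Commute (π u) (π u') := commutatorElement_eq_one_iff_commute.1 (by
    rw [← map_commutatorElement]
    exact (QuotientGroup.eq_one_iff _).2 (b.xoxo_mem hux hu'x))
  refine (QuotientGroup.eq_one_iff _).1 (show π ((u * u') ^ p) = 1 from ?_)
  obtain ⟨y, hy, rfl⟩ := hu'
  rw [map_pow, map_mul, hcm.mul_pow, ← map_pow, ← map_pow,
    show π (u ^ p) = 1 from (QuotientGroup.eq_one_iff _).2 (hU u hu), one_mul, ← map_pow]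
  exact (QuotientGroup.eq_one_iff _).2 (c0_normal.conj_mem _ (hU y hy) g)

end Base

end Cfsg.Agent.Lib.GNiles
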