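import Mathlib
import Cfsg.Agent.Lib.GNiles.Opp
import Cfsg.Agent.Lib.Coprime.ThreeSubgroup
/-!
The easy pairs: `([Z(J), S] ∩ Z(S), J)` and `(℧¹(Z(S)), S)`.
-/

set_option autoImplicit false
set_option linter.unusedSectionVars false

namespace Cfsg.Agent.Lib.GNiles

open Subgroup
open Cfsg.Agent.Lib
open Cfsg.Agent.Lib.SL2 (SLtwo PSLtwo)
open Cfsg.Agent.Lib.RankOnePush (upperP normal_eq_bot)
open scoped commutatorElement

variable {G : Type*} [Group G] [Finite G] {p : ℕ} [hp : Fact p.Prime]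
  {F : Type} [Field F] [Fintype F] {n : ℕ}

variable {S A : Subgroup G} {ψ : G →* PSLtwo F}

namespace Ctx

variable (c : Ctx p S n ψ)

include c

theorem sup_eq_top_of_mem {N : Subgroup G} [hN : N.Normal] {a : G} (ha : a ∈ N) (haS : a ∈ S)
    (haD : a ∉ Cfsg.pCore p G) : N ⊔ S = ⊤ := by
  haveI : (N.map ψ).Normal := hN.map ψ c.setup.surj
  refine c.setup.full _ le_sup_right ?_
  rw [Subgroup.map_sup, c.setup.image]
  by_contra hne
  exact c.setup.apply_ne_one haS haD (mem_bot.1 (normal_eq_bot (N.map ψ) hne ▸ mem_map_of_mem ψ ha))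

omit c in
theorem normal_of_sup {N K : Subgroup G} (hKS : K ⊔ S = ⊤)
    (hK : ∀ k ∈ K, ∀ x ∈ N, k * x * k⁻¹ ∈ N) (hS : ∀ s ∈ S, ∀ x ∈ N, s * x * s⁻¹ ∈ N) :
    N.Normal := by
  refine ⟨fun x hx g => ?_⟩
  have hle : K ⊔ S ≤ normalizer (N : Set G) := by
    refine sup_le (fun k hk => ?_) fun s hs => ?_
    · refine mem_normalizer_iff.2 fun v => ⟨hK k hk v, fun hv => ?_⟩
      simpa [mul_assoc] using hK _ (inv_mem hk) _ hv
    · refine mem_normalizer_iff.2 fun v => ⟨hS s hs v, fun hv => ?_⟩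
      simpa [mul_assoc] using hS _ (inv_mem hs) _ hv
  exact (mem_normalizer_iff.1 (hle (hKS.symm ▸ mem_top g)) x).1 hx

/-- For `Y` normal in `S` inside every abelian subgroup of largest order, `[Y, S] ∩ Z(S)` is central. -/
theorem comm_inf_le_center (hA : IsLag S A) (hAD : ¬ A ≤ Cfsg.pCore p G) {Y : Subgroup G}
    (hY : ∀ B, IsLag S B → Y ≤ B) (hYn : ∀ s ∈ S, ∀ y ∈ Y, s * y * s⁻¹ ∈ Y) :
    ⁅Y, S⁆ ⊓ zen S ≤ center G := by
  set D := Cfsg.pCore p G
  set W := centralizer (D : Set G)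
  haveI hWn : W.Normal := inferInstance
  have hYD : Y ≤ D := (hY _ (c.lagUW hA hAD)).trans (sup_le inf_le_right c.W_le)
  have hYA : Y ≤ A := hY A hA
  set JD : Subgroup G := sSup {B | IsLag S B ∧ B ≤ D}
  haveI hJDn : JD.Normal := by
    refine ⟨fun x hx g => ?_⟩
    suffices h : JD.map (cj g) ≤ JD from h (mem_map_of_mem _ hx)
    rw [map_le_iff_le_comap, sSup_le_iff]
    rintro B ⟨hB, hBD⟩
    have hgB : B.map (cj g) ≤ D := (map_mono hBD).trans (map_cj_normal D g).le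
    exact map_le_iff_le_comap.1 (le_sSup ⟨hB.map_conj (hgB.trans c.setup.le_S), hgB⟩)
  set C := centralizer (JD : Set G) ⊓ D
  haveI hCn : C.Normal := inferInstance
  have hYC : Y ≤ C := le_inf (le_centralizer_iff.1 (sSup_le fun B hB x hx =>
    mem_centralizer_iff.2 fun y hy => comm_eq hB.1.comm (hY B hB.1 hy) hx)) hYD
  set π := QuotientGroup.mk' W
  set K := (centralizer (C.map π : Set (G ⧸ W))).comap π
  haveI : (C.map π).Normal := hCn.map π (QuotientGroup.mk'_surjective _)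
  haveI hKn : K.Normal := (inferInstance : (centralizer (C.map π : Set (G ⧸ W))).Normal).comap π
  have hKmem : ∀ k ∈ K, ∀ x ∈ C, ⁅k, x⁆ ∈ W := fun k hk x hx =>
    (QuotientGroup.eq_one_iff _).1 (show π ⁅k, x⁆ = 1 by
      rw [map_commutatorElement, commutatorElement_eq_one_iff_mul_comm]
      exact (mem_centralizer_iff.1 hk _ (mem_map_of_mem π hx)).symm)
  have hAK : A ≤ K := fun a ha => mem_centralizer_iff.2 (by
    rintro _ ⟨x, hx, rfl⟩
    have hxU : x ∈ (A ⊓ D) ⊔ W := (c.lagUW hA hAD).cent (c.setup.le_S hx.2) fun u hu =>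
      mem_centralizer_iff.1 hx.1 u
        (le_sSup (s := {B | IsLag S B ∧ B ≤ D}) ⟨c.lagUW hA hAD, sup_le inf_le_right c.W_le⟩ hu)
    obtain ⟨u, hu, w, hw, rfl⟩ := mem_sup_of_normal_right.1 hxU
    have hw1 : π w = 1 := (QuotientGroup.eq_one_iff _).2 hw
    rw [map_mul, hw1, mul_one, ← map_mul, ← map_mul, comm_eq hA.comm hu.1 ha])
  obtain ⟨a₀, ha₀, ha₀D⟩ := SetLike.not_le_iff_exists.1 hAD
  set K₂ := normalClosure (A : Set G)
  have hK₂K : K₂ ≤ K := normalClosure_le_normal hAK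
  have hK₂S : K₂ ⊔ S = ⊤ := c.sup_eq_top_of_mem (le_normalClosure ha₀) (hA.le ha₀) ha₀D
  have hYW : ∀ y ∈ Y ⊔ W, ∃ u ∈ Y, ∃ w ∈ W, y = u * w := fun y hy => by
    obtain ⟨u, hu, w, hw, rfl⟩ := mem_sup_of_normal_right.1 hy
    exact ⟨u, hu, w, hw, rfl⟩
  haveI hYWn : (Y ⊔ W).Normal := by
    refine normal_of_sup hK₂S (fun k hk y hy => ?_) fun s hs y hy => ?_
    · obtain ⟨u, hu, w, hw, rfl⟩ := hYW y hy
      rw [show k * (u * w) * k⁻¹ = ⁅k, u⁆ * u * (k * w * k⁻¹) by rw [commutatorElement_def]; group]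
      exact mul_mem (mul_mem (mem_sup_right (hKmem k (hK₂K hk) u (hYC hu))) (mem_sup_left hu))
        (mem_sup_right (hWn.conj_mem w hw k))
    · obtain ⟨u, hu, w, hw, rfl⟩ := hYW y hy
      rw [show s * (u * w) * s⁻¹ = (s * u * s⁻¹) * (s * w * s⁻¹) by group]
      exact mul_mem (mem_sup_left (hYn s hs u hu)) (mem_sup_right (hWn.conj_mem w hw s))
  haveI : (normalClosure (A : Set G)).Normal := normalClosure_normal
  have hX : ⁅D, K₂⁆ ≤ D ⊓ K := le_inf (commutator_le_left D K₂)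
    ((commutator_le_right D K₂).trans hK₂K)
  haveI : ⁅⁅D, K₂⁆, Y ⊔ W⁆.Normal := inferInstance
  have hM : ⁅⁅D, K₂⁆, Y ⊔ W⁆ ≤ center G := by
    refine c.normal_le_center (Subgroup.commutator_le.2 fun x hx y hy => ?_)
    obtain ⟨u, hu, w, hw, rfl⟩ := hYW y hy
    have hxw : ⁅x, w⁆ = 1 :=
      commutatorElement_eq_one_iff_mul_comm.2 (c.D_comm_W (hX hx).1 hw)
    rw [show ⁅x, u * w⁆ = ⁅x, u⁆ * (u * ⁅x, w⁆ * u⁻¹) by simp [commutatorElement_def, mul_assoc],
      hxw, mul_one, mul_inv_cancel, mul_one]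
    refine (c.W_inf hA hAD).le ⟨hKmem x (hX hx).2 u (hYC hu), hYA ?_⟩
    rw [commutatorElement_def]
    exact mul_mem (hYn x (c.setup.le_S (hX hx).1) u hu) (inv_mem hu)
  have hrot : ⁅⁅Y ⊔ W, D⁆, K₂⁆ ≤ center G := by
    have hn : ∀ H : Subgroup G, H ≤ normalizer (center G : Set G) := fun H =>
      (normalizer_eq_top_iff.2 (inferInstance : (center G).Normal)).symm ▸ le_top
    refine Coprime.commutator_commutator_le_of_rotate (hn _) (hn _) (hn _) hM ?_
    have h1 : ⁅K₂, Y ⊔ W⁆ ≤ W := Subgroup.commutator_le.2 fun k hk y hy => by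
      obtain ⟨u, hu, w, hw, rfl⟩ := hYW y hy
      rw [show ⁅k, u * w⁆ = ⁅k, u⁆ * (u * (k * w * k⁻¹ * w⁻¹) * u⁻¹) by
        simp [commutatorElement_def, mul_assoc]]
      exact W.mul_mem (hKmem k (hK₂K hk) u (hYC hu))
        (hWn.conj_mem _ (W.mul_mem (hWn.conj_mem w hw k) (W.inv_mem hw)) u)
    refine (commutator_mono h1 le_rfl).trans ?_
    rw [commutator_eq_bot_iff_le_centralizer.2 le_rfl]
    exact bot_le
  haveI : ⁅Y ⊔ W, D⁆.Normal := inferInstance
  have hF : ⁅Y, S⁆ ≤ ⁅Y ⊔ W, D⁆ := Subgroup.commutator_le.2 fun y hy s hs => by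
    obtain ⟨a, ha, d, hd, rfl⟩ := c.exists_mul hA hAD hs
    rw [show ⁅y, a * d⁆ = ⁅y, a⁆ * (a * ⁅y, d⁆ * a⁻¹) by simp [commutatorElement_def, mul_assoc],
      commutatorElement_eq_one_iff_mul_comm.2 (comm_eq hA.comm (hYA hy) ha), one_mul]
    exact (inferInstance : ⁅Y ⊔ W, D⁆.Normal).conj_mem _
      (commutator_mem_commutator (mem_sup_left hy) hd) a
  suffices hN : ((⁅Y ⊔ W, D⁆ ⊔ center G) ⊓ zen S).Normal by
    exact (inf_le_inf_right _ (hF.trans (le_sup_left (b := center G)))).trans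
      (c.normal_le_center inf_le_right)
  refine normal_of_sup hK₂S (fun k hk z hz => ?_) fun s hs z hz => ?_
  · have hkz : ⁅k, z⁆ ∈ center G := by
      obtain ⟨f, hf, e, he, rfl⟩ := mem_sup_of_normal_right.1 hz.1
      have e1 : ⁅k, f * e⁆ = ⁅k, f⁆ := by
        rw [show ⁅k, f * e⁆ = k * f * (k⁻¹ * (k * (e * k⁻¹) * e⁻¹)) * f⁻¹ by
          simp [commutatorElement_def, mul_assoc], ← mem_center_iff.1 he k⁻¹]
        simp [commutatorElement_def, mul_assoc]
      rw [e1, ← commutatorElement_inv]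
      exact inv_mem (hrot (commutator_mem_commutator hf hk))
    rw [show k * z * k⁻¹ = ⁅k, z⁆ * z by rw [commutatorElement_def]; group]
    exact mul_mem ⟨mem_sup_right hkz, c.center_le_zen hkz⟩ hz
  · rw [mem_centralizer_iff.1 hz.2.2 s hs, mul_inv_cancel_right]
    exact hz

/-- `℧¹(Z(S))` is normal. -/
theorem powerClosure_zen_normal (hA : IsLag S A) (hAD : ¬ A ≤ Cfsg.pCore p G) :
    (Cfsg.powerClosure p 1 (zen S)).Normal := by
  refine ⟨fun x hx g => ?_⟩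
  suffices h : (Cfsg.powerClosure p 1 (zen S)).map (cj g) ≤ Cfsg.powerClosure p 1 (zen S) from
    h (mem_map_of_mem _ hx)
  rw [Cfsg.powerClosure, MonoidHom.map_closure, closure_le]
  rintro _ ⟨_, ⟨z, hz, rfl⟩, rfl⟩
  obtain ⟨v, z₁, hv, hz₁, e⟩ := c.W_dec hA hAD (c.zen_map_le_W g (mem_map_of_mem _ hz))
  refine subset_closure ⟨z₁, hz₁, ?_⟩
  rw [map_pow, e, pow_one]
  have hvW : v ∈ centralizer (Cfsg.pCore p G : Set G) := by
    have := mul_mem (c.zen_map_le_W g (mem_map_of_mem _ hz)) (inv_mem (c.zen_le_W hz₁))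
    rwa [e, mul_inv_cancel_right] at this
  rw [(show Commute v z₁ from c.W_comm hvW (c.zen_le_W hz₁)).mul_pow, hv, one_mul]

end Ctx

end Cfsg.Agent.Lib.GNiles
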