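import Mathlib
import Cfsg.Agent.Lib.GNiles.Small
import Cfsg.Agent.Lib.PGroup.Frattini
/-!
The Frattini subgroup of `S` modulo `C_D(O^p(G))` when `O_p(G)` centralises `[O_p(G), O^p(G)]`
modulo it.
-/

set_option autoImplicit false
set_option linter.unusedSectionVars false

namespace Cfsg.Agent.Lib.GNiles

open Subgroup
open Cfsg.Agent.Lib
open Cfsg.Agent.Lib.SL2 (SLtwo PSLtwo proj upper)
open scoped commutatorElement

variable {G : Type*} [Group G] [Finite G] {p : ℕ} [hp : Fact p.Prime]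
  {F : Type} [Field F] [Fintype F] {n : ℕ}
variable {S A : Subgroup G} {ψ : G →* PSLtwo F}

/-- The Frattini subgroup of `S`, inside `G`. -/
abbrev phiS (S : Subgroup G) : Subgroup G := (frattini ↥S).map S.subtype

/-- The elements of `S` whose commutators with `S` lie in `N`. -/
theorem comm_le_of_gen {H N : Subgroup G} (hH : H ≤ S) (hN : ∀ s ∈ S, ∀ x ∈ N, s * x * s⁻¹ ∈ N)
    {T : Set G} (hT : H ≤ closure T) (hTS : T ⊆ S) (h : ∀ x ∈ T, ∀ s ∈ S, ⁅x, s⁆ ∈ N) :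
    ⁅H, S⁆ ≤ N := by
  let K : Subgroup G :=
    { carrier := {x | x ∈ S ∧ ∀ s ∈ S, ⁅x, s⁆ ∈ N}
      one_mem' := ⟨one_mem _, fun s _ => by simp⟩
      mul_mem' := fun {x y} hx hy => ⟨mul_mem hx.1 hy.1, fun s hs => by
        rw [show ⁅x * y, s⁆ = x * ⁅y, s⁆ * x⁻¹ * ⁅x, s⁆ by simp [commutatorElement_def, mul_assoc]]
        exact mul_mem (hN x hx.1 _ (hy.2 s hs)) (hx.2 s hs)⟩
      inv_mem' := fun {x} hx => ⟨inv_mem hx.1, fun s hs => by
        rw [show ⁅x⁻¹, s⁆ = x⁻¹ * ⁅x, s⁆⁻¹ * x⁻¹⁻¹ by simp [commutatorElement_def, mul_assoc]]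
        exact hN _ (inv_mem hx.1) _ (inv_mem (hx.2 s hs))⟩ }
  have hHK : H ≤ K := hT.trans ((closure_le _).2 fun x hx => ⟨hTS hx, h x hx⟩)
  exact Subgroup.commutator_le.2 fun x hx s hs => (hHK hx).2 s hs

namespace Base

variable (b : Base p S A n ψ) (hDM : Cfsg.pCore p G ≤ dmPart p G)

include b

theorem pow_mem_uPart {a : G} (ha : a ∈ A) : a ^ p ∈ uPart p A := by
  refine ⟨pow_mem ha p, ?_⟩
  rw [← b.ctx.setup.kerS]
  refine ⟨?_, pow_mem (b.lag.le ha) p⟩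
  obtain ⟨t, ht⟩ := b.ctx.setup.exists_upper (b.lag.le ha)
  show ψ (a ^ p) = 1
  haveI : CharP F p := charP_of_card_eq_prime_pow b.ctx.setup.card
  rw [map_pow, ht, ← map_pow, SL2.upper_pow, CharP.cast_eq_zero F p, zero_mul, SL2.upper_zero,
    map_one]

include hDM

/-- `O_p(G)` is abelian modulo `C_D(O^p(G))`. -/
theorem comm_pCore_mem {d e : G} (hd : d ∈ Cfsg.pCore p G) (he : e ∈ Cfsg.pCore p G) :
    ⁅d, e⁆ ∈ c0 p G := by
  set D := Cfsg.pCore p G
  have hn : ∀ K : Subgroup G, K ≤ normalizer (c0 p G : Set G) := fun K =>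
    (normalizer_eq_top_iff.2 (inferInstance : (c0 p G).Normal)).symm ▸ le_top
  have h1 : ⁅⁅D, opG p G⁆, D⁆ ≤ c0 p G :=
    Subgroup.commutator_le.2 fun x hx y hy => (hDM hy).2 x hx
  have h2 : ⁅⁅D, D⁆, opG p G⁆ ≤ c0 p G :=
    Coprime.commutator_commutator_le_of_rotate (hn _) (hn _) (hn _) h1
      ((commutator_comm_le (opG p G) D |> fun h => commutator_mono h le_rfl).trans h1)
  have hde : ⁅d, e⁆ ∈ ⁅D, D⁆ := commutator_mem_commutator hd he
  refine mem_c0 (commutator_le_left D D hde) fun x hx => ?_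
  exact (mem_centralizer_iff.1
    (h2 (commutator_mem_commutator hde (mem_pp (mem_top x) hx))).2 x (mem_pp (mem_top x) hx)).symm

variable (hxp : ∀ x ∈ xo p G, x ^ p ∈ c0 p G)

include hxp

theorem pow_pCore_mem {d : G} (hd : d ∈ Cfsg.pCore p G) : d ^ p ∈ c0 p G := by
  refine mem_c0 (pow_mem hd p) fun x hx => ?_
  set π := QuotientGroup.mk' (c0 p G)
  have hxd : x * d⁻¹ * x⁻¹ ∈ Cfsg.pCore p G :=
    (inferInstance : (Cfsg.pCore p G).Normal).conj_mem _ (inv_mem hd) x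
  have hcomm : Commute (π d) (π (x * d⁻¹ * x⁻¹)) := commutatorElement_eq_one_iff_commute.1 (by
    rw [← map_commutatorElement]
    exact (QuotientGroup.eq_one_iff _).2 (b.comm_pCore_mem hDM hd hxd))
  have h1 : π ⁅d ^ p, x⁆ = 1 := by
    have e : π ⁅d, x⁆ = π d * π (x * d⁻¹ * x⁻¹) := by
      rw [← map_mul]; simp [commutatorElement_def, mul_assoc]
    have e2 : π ⁅d ^ p, x⁆ = π d ^ p * π (x * d⁻¹ * x⁻¹) ^ p := by
      rw [← map_pow, ← map_pow, conj_pow, ← map_mul, inv_pow]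
      simp [commutatorElement_def, mul_assoc]
    rw [e2, ← hcomm.mul_pow, ← e, ← map_pow]
    exact (QuotientGroup.eq_one_iff _).2 (hxp _ (commutator_mem_commutator hd (mem_pp (mem_top x) hx)))
  exact (mem_centralizer_iff.1 ((QuotientGroup.eq_one_iff _).1 h1).2 x (mem_pp (mem_top x) hx)).symm

theorem phiS_le {P : Subgroup G} (hUP : uPart p A ≤ P) (hCP : c0 p G ≤ P)
    (hPD : P ≤ Cfsg.pCore p G)
    (hAD : ∀ a ∈ A, ∀ d ∈ Cfsg.pCore p G, ⁅a, d⁆ ∈ P) :
    phiS S ≤ P ∧ ∀ s ∈ S, ∀ x ∈ P, s * x * s⁻¹ ∈ P := by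
  have hconj : ∀ s ∈ S, ∀ x ∈ P, s * x * s⁻¹ ∈ P := by
    intro s hs x hx
    obtain ⟨a, ha, d, hd, rfl⟩ := b.ctx.exists_mul b.lag b.out hs
    have h1 : d * x * d⁻¹ ∈ P := by
      rw [show d * x * d⁻¹ = ⁅d, x⁆ * x by rw [commutatorElement_def]; group]
      exact mul_mem (hCP (b.comm_pCore_mem hDM hd (hPD hx))) hx
    rw [show a * d * x * (a * d)⁻¹ = ⁅a, d * x * d⁻¹⁆ * (d * x * d⁻¹) by
      rw [commutatorElement_def]; group]
    exact mul_mem (hAD a ha _ (hPD h1)) h1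
  refine ⟨?_, hconj⟩
  have hcomm : ∀ s ∈ S, ∀ t ∈ S, ⁅s, t⁆ ∈ P := by
    intro s hs t ht
    obtain ⟨a, ha, d, hd, rfl⟩ := b.ctx.exists_mul b.lag b.out hs
    obtain ⟨c, hc, e, he, rfl⟩ := b.ctx.exists_mul b.lag b.out ht
    have haS := b.lag.le ha
    have hcS := b.lag.le hc
    rw [show ⁅a * d, c * e⁆ = a * (⁅d, c⁆ * (c * ⁅d, e⁆ * c⁻¹)) * a⁻¹ *
      (⁅a, c⁆ * (c * ⁅a, e⁆ * c⁻¹)) by simp [commutatorElement_def, mul_assoc],
      commutatorElement_eq_one_iff_mul_comm.2 (comm_eq b.lag.comm ha hc), one_mul]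
    refine mul_mem (hconj a haS _ (mul_mem ?_ (hconj c hcS _ (hCP (b.comm_pCore_mem hDM hd he)))))
      (hconj c hcS _ (hAD a ha e he))
    rw [← commutatorElement_inv]
    exact inv_mem (hAD c hc d hd)
  refine PFrattini.frattini_map_subtype_le (p := p) (Subgroup.commutator_le.2 hcomm) fun s hs => ?_
  obtain ⟨a, ha, d, hd, rfl⟩ := b.ctx.exists_mul b.lag b.out hs
  set P' := P.subgroupOf S
  haveI : P'.Normal := ⟨fun x hx s => hconj _ s.2 _ hx⟩
  set π := QuotientGroup.mk' P'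
  have h1 : Commute (π ⟨a, b.lag.le ha⟩) (π ⟨d, b.ctx.setup.le_S hd⟩) :=
    commutatorElement_eq_one_iff_commute.1 (by
      rw [← map_commutatorElement]
      exact (QuotientGroup.eq_one_iff _).2 (hcomm _ (b.lag.le ha) _ (b.ctx.setup.le_S hd)))
  have h2 : π (⟨a, b.lag.le ha⟩ * ⟨d, b.ctx.setup.le_S hd⟩) ^ p = 1 := by
    rw [map_mul, h1.mul_pow, ← map_pow, ← map_pow,
      show π (⟨a, b.lag.le ha⟩ ^ p) = 1 from
        (QuotientGroup.eq_one_iff _).2 (show a ^ p ∈ P from hUP (b.pow_mem_uPart ha)),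
      show π (⟨d, b.ctx.setup.le_S hd⟩ ^ p) = 1 from
        (QuotientGroup.eq_one_iff _).2 (show d ^ p ∈ P from hCP (b.pow_pCore_mem hDM hxp hd)),
      one_mul]
  rw [← map_pow] at h2
  exact mem_subgroupOf.1 ((QuotientGroup.eq_one_iff _).1 h2)

/-- Class three modulo `C_D(O^p(G))`. -/
theorem phi_class_three :
    ⁅⁅phiS S, S⁆, S⁆ ≤ c0 p G ∧ (frattini ↥(phiS S)).map (phiS S).subtype ≤ c0 p G := by
  set W := centralizer (Cfsg.pCore p G : Set G)
  set U := uPart p A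
  set C := c0 p G
  obtain ⟨hΦ, hPn⟩ := b.phiS_le hDM hxp (P := U ⊔ W ⊔ C) (le_sup_left.trans le_sup_left) le_sup_right
    (sup_le (sup_le inf_le_right b.ctx.W_le) inf_le_left)
    fun a ha d hd => b.comm_A_pCore hDM ha hd
  have hPD : U ⊔ W ⊔ C ≤ Cfsg.pCore p G := sup_le (sup_le inf_le_right b.ctx.W_le) inf_le_left
  have hCn : ∀ s ∈ S, ∀ x ∈ C, s * x * s⁻¹ ∈ C := fun s _ x hx => c0_normal.conj_mem x hx s
  have hZn : ∀ s ∈ S, ∀ x ∈ zen S ⊔ C, s * x * s⁻¹ ∈ zen S ⊔ C := fun s hs x hx => by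
    obtain ⟨z, hz, e, he, rfl⟩ := mem_sup_of_normal_right.1 hx
    rw [show s * (z * e) * s⁻¹ = (s * z * s⁻¹) * (s * e * s⁻¹) by group,
      mem_centralizer_iff.1 hz.2 s hs, mul_inv_cancel_right]
    exact mul_mem (mem_sup_left hz) (mem_sup_right (c0_normal.conj_mem e he s))
  have hcC : ∀ e ∈ C, ∀ s : G, ⁅e, s⁆ ∈ C := fun e he s => by
    rw [show ⁅e, s⁆ = e * (s * e⁻¹ * s⁻¹) by rw [commutatorElement_def]; group]
    exact mul_mem he (c0_normal.conj_mem _ (inv_mem he) s)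
  have hsub : ⁅phiS S, S⁆ ≤ zen S ⊔ C := by
    refine comm_le_of_gen (map_subtype_le _) hZn (T := (U : Set G) ∪ W ∪ C)
      (hΦ.trans (le_of_eq (by simp only [Subgroup.closure_union, Subgroup.closure_eq])))
      (fun x hx => b.ctx.setup.le_S ?_) fun x hx s hs => ?_
    · rcases hx with (h | h) | h
      · exact h.2
      · exact b.ctx.W_le h
      · exact h.1
    rcases hx with (h | h) | h
    · obtain ⟨a, ha, d, hd, rfl⟩ := b.ctx.exists_mul b.lag b.out hs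
      rw [show ⁅x, a * d⁆ = ⁅x, a⁆ * (a * ⁅x, d⁆ * a⁻¹) by simp [commutatorElement_def, mul_assoc],
        commutatorElement_eq_one_iff_mul_comm.2 (b.A_comm_u ha h).symm, one_mul]
      exact mem_sup_right (c0_normal.conj_mem _ (b.comm_pCore_mem hDM h.2 hd) a)
    · exact mem_sup_left (b.ctx.comm_W_mem b.lag b.out hs h)
    · exact mem_sup_right (hcC x h s)
  refine ⟨(commutator_mono hsub le_rfl).trans ?_, ?_⟩
  · refine comm_le_of_gen (sup_le inf_le_left (inf_le_left.trans b.ctx.setup.le_S)) hCn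
      (T := (zen S : Set G) ∪ C) (le_of_eq (by simp only [Subgroup.closure_union, Subgroup.closure_eq])) (fun x hx => ?_)
      fun x hx s hs => ?_
    · rcases hx with h | h
      · exact h.1
      · exact b.ctx.setup.le_S h.1
    rcases hx with h | h
    · rw [commutatorElement_eq_one_iff_mul_comm.2 (mem_centralizer_iff.1 h.2 s hs).symm]
      exact one_mem _
    · exact hcC x h s
  · exact PFrattini.frattini_map_subtype_le (p := p)
      (Subgroup.commutator_le.2 fun x hx y hy =>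
        b.comm_pCore_mem hDM (hPD (hΦ hx)) (hPD (hΦ hy)))
      fun x hx => b.pow_pCore_mem hDM hxp (hPD (hΦ hx))

/-- Class two modulo `C_D(O^p(G))`, if `[A, O_p(G)] ≤ (A ∩ O_p(G)) C`. -/
theorem phi_class_two (hAD : ∀ a ∈ A, ∀ d ∈ Cfsg.pCore p G, ⁅a, d⁆ ∈ uPart p A ⊔ c0 p G) :
    ⁅phiS S, S⁆ ≤ c0 p G := by
  obtain ⟨hΦ, -⟩ := b.phiS_le hDM hxp (P := uPart p A ⊔ c0 p G) le_sup_left le_sup_right
    (sup_le inf_le_right inf_le_left) hAD
  refine comm_le_of_gen (map_subtype_le _) (fun s _ x hx => c0_normal.conj_mem x hx s)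
    (T := (uPart p A : Set G) ∪ c0 p G) (hΦ.trans (le_of_eq (by simp only [Subgroup.closure_union, Subgroup.closure_eq])))
    (fun x hx => ?_) fun x hx s hs => ?_
  · rcases hx with h | h
    · exact b.lag.le h.1
    · exact b.ctx.setup.le_S h.1
  rcases hx with h | h
  · obtain ⟨a, ha, d, hd, rfl⟩ := b.ctx.exists_mul b.lag b.out hs
    rw [show ⁅x, a * d⁆ = ⁅x, a⁆ * (a * ⁅x, d⁆ * a⁻¹) by simp [commutatorElement_def, mul_assoc],
      commutatorElement_eq_one_iff_mul_comm.2 (b.A_comm_u ha h).symm, one_mul]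
    exact c0_normal.conj_mem _ (b.comm_pCore_mem hDM h.2 hd) a
  · rw [show ⁅x, s⁆ = x * (s * x⁻¹ * s⁻¹) by rw [commutatorElement_def]; group]
    exact mul_mem h (c0_normal.conj_mem _ (inv_mem h) s)

/-- For `p = 2` one has `[A, O_p(G)] ≤ (A ∩ O_p(G)) C`. -/
theorem comm_A_two (h2 : p = 2) {a d : G} (ha : a ∈ A) (hd : d ∈ Cfsg.pCore p G) :
    ⁅a, d⁆ ∈ uPart p A ⊔ c0 p G := by
  by_cases haD : a ∈ Cfsg.pCore p G
  · exact mem_sup_right (b.comm_pCore_mem hDM haD hd)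
  set W := centralizer (Cfsg.pCore p G : Set G)
  haveI hWn : W.Normal := inferInstance
  obtain ⟨v, hv, e, he, hve⟩ := mem_sup_of_normal_right.1 (b.comm_A_pCore hDM ha hd)
  obtain ⟨u, hu, w, hw, rfl⟩ := mem_sup_of_normal_right.1 hv
  suffices hwz : w ∈ zen S by
    rw [← hve]
    exact mul_mem (mem_sup_left (mul_mem hu (b.zen_le_uPart hwz))) (mem_sup_right he)
  refine b.ctx.fix_W_mod b.lag b.out (b.lag.le ha) haD hw ?_
  rw [← b.ctx.W_inf_c0 b.lag b.out]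
  have hwW : ⁅a, w⁆ ∈ W := mul_mem (hWn.conj_mem w hw a) (inv_mem hw)
  suffices hwC : ⁅a, w⁆ ∈ c0 p G from ⟨hwW, hwC⟩
  rw [← QuotientGroup.eq_one_iff]
  set π := QuotientGroup.mk' (c0 p G)
  show π ⁅a, w⁆ = 1
  have hD2 : ∀ x ∈ Cfsg.pCore p G, π x * π x = 1 := fun x hx => by
    rw [← map_mul, ← sq, ← h2]
    exact (QuotientGroup.eq_one_iff _).2 (b.pow_pCore_mem hDM hxp hx)
  have hDc : ∀ x ∈ Cfsg.pCore p G, ∀ y ∈ Cfsg.pCore p G, Commute (π x) (π y) := fun x hx y hy =>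
    commutatorElement_eq_one_iff_commute.1 (by
      rw [← map_commutatorElement]
      exact (QuotientGroup.eq_one_iff _).2 (b.comm_pCore_mem hDM hx hy))
  have hau : a * u * a⁻¹ = u := by rw [b.A_comm_u ha hu, mul_inv_cancel_right]
  have e1 : π (a * d * a⁻¹) = π u * π w * π d := by
    rw [show a * d * a⁻¹ = ⁅a, d⁆ * d by rw [commutatorElement_def]; group, ← hve, map_mul, map_mul,
      map_mul, show π e = 1 from (QuotientGroup.eq_one_iff _).2 he, mul_one]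
  have haa : a * a ∈ Cfsg.pCore p G := by
    have := (b.pow_mem_uPart ha).2
    rwa [show a ^ p = a * a by rw [h2, sq]] at this
  have e2 : π (a * a) * π d * (π (a * a))⁻¹ = π u * π (a * w * a⁻¹) * (π u * π w * π d) := by
    rw [← e1, ← map_mul π (a * a) d, ← map_inv, ← map_mul, ← map_mul π u (a * w * a⁻¹), ← map_mul]
    calc π (a * a * d * (a * a)⁻¹) = π (a * (a * d * a⁻¹) * a⁻¹) := by congr 1; group
      _ = π a * π (a * d * a⁻¹) * (π a)⁻¹ := by rw [map_mul, map_mul, map_inv]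
      _ = π a * (π u * π w * π d) * (π a)⁻¹ := by rw [e1]
      _ = π (a * u * a⁻¹ * (a * w * a⁻¹) * (a * d * a⁻¹)) := by simp [mul_assoc]
      _ = _ := by rw [hau]
  rw [(hDc _ haa _ hd).eq, mul_inv_cancel_right] at e2
  set A' := π (a * w * a⁻¹)
  set X := π u
  set Y := π w
  have h3 : X * A' * (X * Y) = 1 := by
    have h := e2.symm
    rw [← mul_assoc] at h
    exact mul_eq_right.1 h
  have hWD : a * w * a⁻¹ ∈ Cfsg.pCore p G := b.ctx.W_le (hWn.conj_mem w hw a)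
  have h4 : A' * Y = 1 := by
    rw [(hDc u hu.2 _ hWD).eq, mul_assoc A' X, ← mul_assoc X X, hD2 u hu.2, one_mul] at h3
    exact h3
  rw [show ⁅a, w⁆ = (a * w * a⁻¹) * w⁻¹ by rw [commutatorElement_def], map_mul, map_inv]
  rw [show (π w)⁻¹ = π w from inv_eq_of_mul_eq_one_left (hD2 w (b.ctx.W_le hw))]
  exact h4

omit hDM hxp

theorem pow_xo_of_hSq (hZ : ∀ z ∈ zen S, z ^ p = 1) (h1 : hSq p G = 1) :
    ∀ x ∈ xo p G, x ^ p ∈ c0 p G := fun x hx => by
  obtain ⟨w, hw, e, he, rfl⟩ := mem_sup_of_normal_left.1 (relIndex_eq_one.1 h1 hx)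
  obtain ⟨v, z, hv, hz, rfl⟩ := b.ctx.W_dec b.lag b.out hw
  have hzW := b.ctx.zen_le_W hz
  have hvW : v ∈ centralizer (Cfsg.pCore p G : Set G) := by
    simpa using mul_mem hw (inv_mem hzW)
  rw [(show Commute (v * z) e from (b.ctx.D_comm_W he.1 hw).symm).mul_pow,
    (show Commute v z from b.ctx.W_comm hvW hzW).mul_pow, hv, hZ z hz, one_mul, one_mul]
  exact pow_mem he p

theorem pow_xo_of_elementary (hA : ∀ a ∈ A, a ^ p = 1) : ∀ x ∈ xo p G, x ^ p ∈ c0 p G := by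
  intro x hx
  obtain ⟨g, hgP, hg⟩ := b.ctx.exists_opp
  obtain ⟨u, hu, hux, u', hu', hu'x, rfl⟩ := b.xo_dec hg hgP hx
  set π := QuotientGroup.mk' (c0 p G)
  rw [← QuotientGroup.eq_one_iff]
  show π ((u * u') ^ p) = 1
  have hc : Commute (π u) (π u') := commutatorElement_eq_one_iff_commute.1 (by
    rw [← map_commutatorElement]
    exact (QuotientGroup.eq_one_iff _).2 (b.xoxo_mem hux hu'x))
  have hu'p : u' ^ p = 1 := by
    obtain ⟨v, hv, rfl⟩ := hu'
    rw [← map_pow, hA v hv.1, map_one]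
  rw [map_pow, map_mul, hc.mul_pow, ← map_pow, ← map_pow, hA u hu.1, hu'p, map_one, one_mul]

end Base

end Cfsg.Agent.Lib.GNiles
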