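import Mathlib
import Cfsg.Agent.Lib.GNiles.Opp
import Cfsg.Agent.Lib.Coprime.Generation
/-!
A layer on which a Sylow group acts quadratically with small fixed points: for `p ≥ 5` the relation
`w a w⁻¹ = b⁻¹`, `w = a b⁻¹ a`, of `PSL₂(q)` holds on it.
-/

set_option autoImplicit false
set_option linter.unusedSectionVars false

namespace Cfsg.Agent.Lib.GNiles

open Subgroup
open Cfsg.Agent.Lib
open Cfsg.Agent.Lib.SL2 (SLtwo PSLtwo proj upper lower)
open Cfsg.Agent.Lib.RankOnePush (upperP normal_eq_bot)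
open scoped commutatorElement

variable {G : Type*} [Group G] [Finite G] {p : ℕ} [hp : Fact p.Prime]
  {F : Type} [Field F] [Fintype F] {n : ℕ}
variable {S : Subgroup G} {ψ : G →* PSLtwo F}

/-- An element stabilising a series, of order prime to `p` modulo the centraliser, is trivial. -/
theorem stab_step {N : Subgroup G} [N.Normal] {x d : G} {m : ℕ} (hm : ⁅x ^ m, d⁆ ∈ N)
    (hc : ⁅x, ⁅x, d⁆⁆ ∈ N) (hpc : ⁅x, d⁆ ^ p ∈ N) (hcop : p.Coprime m) : ⁅x, d⁆ ∈ N := by
  set π := QuotientGroup.mk' N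
  rw [← QuotientGroup.eq_one_iff] at hm hc hpc ⊢
  change π ⁅x ^ m, d⁆ = 1 at hm
  change π ⁅x, ⁅x, d⁆⁆ = 1 at hc
  change π (⁅x, d⁆ ^ p) = 1 at hpc
  show π ⁅x, d⁆ = 1
  rw [map_commutatorElement, map_pow, commutatorElement_eq_one_iff_mul_comm] at hm
  rw [map_commutatorElement, map_commutatorElement, commutatorElement_eq_one_iff_mul_comm] at hc
  rw [map_pow] at hpc
  rw [map_commutatorElement] at hpc ⊢
  set y := π x
  set v := π d
  set c := ⁅y, v⁆ with hcdef
  have h1 : y * v = c * v * y := by rw [hcdef, commutatorElement_def]; group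
  have key : ∀ j : ℕ, y ^ j * v = c ^ j * v * y ^ j := by
    intro j
    induction j with
    | zero => simp
    | succ j ih =>
      have h2 : y * c ^ j = c ^ j * y := (show Commute y c from hc).pow_right j
      calc y ^ (j + 1) * v = y * (y ^ j * v) := by rw [pow_succ', mul_assoc]
        _ = (y * c ^ j) * v * y ^ j := by rw [ih]; group
        _ = c ^ j * (y * v) * y ^ j := by rw [h2]; group
        _ = c ^ j * (c * v * y) * y ^ j := by rw [h1]
        _ = _ := by rw [pow_succ c, pow_succ' y]; group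
  have hcm : c ^ m = 1 := by
    have h3 := key m
    rw [hm, mul_assoc] at h3
    exact mul_eq_right.1 h3.symm
  exact orderOf_eq_one_iff.1 (Nat.eq_one_of_dvd_coprimes hcop
    (orderOf_dvd_of_pow_eq_one hpc) (orderOf_dvd_of_pow_eq_one hcm))

/-- The elements acting trivially on `M / N`. -/
def layCent (N M : Subgroup G) [N.Normal] : Subgroup G where
  carrier := {x | ∀ m ∈ M, ⁅x, m⁆ ∈ N}
  one_mem' := fun m _ => by simp
  mul_mem' {x y} hx hy := fun m hm => by
    rw [show ⁅x * y, m⁆ = x * ⁅y, m⁆ * x⁻¹ * ⁅x, m⁆ by simp [commutatorElement_def, mul_assoc]]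
    exact mul_mem ((inferInstance : N.Normal).conj_mem _ (hy m hm) x) (hx m hm)
  inv_mem' {x} hx := fun m hm => by
    rw [show ⁅x⁻¹, m⁆ = x⁻¹ * ⁅x, m⁆⁻¹ * x⁻¹⁻¹ by simp [commutatorElement_def, mul_assoc]]
    exact (inferInstance : N.Normal).conj_mem _ (inv_mem (hx m hm)) x⁻¹

instance layCent_normal (N M : Subgroup G) [N.Normal] [M.Normal] : (layCent N M).Normal :=
  ⟨fun x hx g m hm => by
    have := (inferInstance : N.Normal).conj_mem _
      (hx _ ((inferInstance : M.Normal).conj_mem m hm g⁻¹)) g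
    simpa [commutatorElement_def, mul_assoc] using this⟩

/-- The hypotheses on a layer `M / N` with fixed points `Zm / N`. -/
structure Rigid (p : ℕ) (S : Subgroup G) (n : ℕ) (N M Zm : Subgroup G) : Prop where
  nN : N.Normal
  nM : M.Normal
  le_Zm : N ≤ Zm
  Zm_le : Zm ≤ M
  le_D : M ≤ Cfsg.pCore p G
  triv : ∀ d ∈ Cfsg.pCore p G, ∀ m ∈ M, ⁅d, m⁆ ∈ N
  pow : ∀ m ∈ M, m ^ p ∈ N
  commS : ∀ s ∈ S, ∀ m ∈ M, ⁅s, m⁆ ∈ Zm
  fixS : ∀ s ∈ S, ∀ z ∈ Zm, ⁅s, z⁆ ∈ N
  fix : ∀ s ∈ S, s ∉ Cfsg.pCore p G → ∀ m ∈ M, ⁅s, m⁆ ∈ N → m ∈ Zm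
  idx : N.relIndex Zm ≤ p ^ n

namespace Ctx

variable (c : Ctx p S n ψ)

include c

/-- `|ker ψ : O_p(G)|` is prime to `p`. -/
theorem coprime_ker : p.Coprime ((Cfsg.pCore p G).relIndex ψ.ker) := by
  obtain ⟨P, hP⟩ := c.setup.sylow
  refine (Nat.Prime.coprime_iff_not_dvd hp.out).2 fun h => P.not_dvd_index ?_
  rw [hP]
  have h1 := relIndex_mul_index (c.setup.le_ker)
  have h2 := relIndex_mul_index (c.setup.le_S)
  rw [c.index_D] at h2
  have h3 : p ^ n ∣ ψ.ker.index := by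
    rw [index_ker, MonoidHom.range_eq_top.2 c.setup.surj,
      ← PushingUp.card_range_unipHom (F := F) c.setup.card]
    exact card_dvd_of_le le_top
  have h4 : p * p ^ n ∣ S.index * p ^ n := by
    rw [mul_comm S.index, h2, ← h1]
    exact mul_dvd_mul h h3
  exact Nat.dvd_of_mul_dvd_mul_right (pow_pos hp.out.pos n) h4

theorem pow_mem_ker {x : G} (hx : x ∈ ψ.ker) :
    x ^ (Cfsg.pCore p G).relIndex ψ.ker ∈ Cfsg.pCore p G := by
  haveI : ((Cfsg.pCore p G).subgroupOf ψ.ker).Normal :=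
    (inferInstance : (Cfsg.pCore p G).Normal).comap _
  have h := pow_card_eq_one' (x := (QuotientGroup.mk ⟨x, hx⟩ :
    ψ.ker ⧸ (Cfsg.pCore p G).subgroupOf ψ.ker))
  rw [← QuotientGroup.mk_pow, QuotientGroup.eq_one_iff] at h
  exact h

theorem pow_mem_D {s : G} (hs : s ∈ S) : s ^ p ∈ Cfsg.pCore p G := by
  rw [← c.setup.kerS]
  refine ⟨?_, pow_mem hs p⟩
  obtain ⟨t, ht⟩ := c.setup.exists_upper hs
  show ψ (s ^ p) = 1
  haveI : CharP F p := charP_of_card_eq_prime_pow c.setup.card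
  rw [map_pow, ht, ← map_pow, SL2.upper_pow, CharP.cast_eq_zero F p, zero_mul, SL2.upper_zero,
    map_one]

variable {N M Zm : Subgroup G} (L : Rigid p S n N M Zm)

include L

theorem stab_of_le_sup [N.Normal] [M.Normal] (h : layCent N M ⊔ S = ⊤) (x : G) {z : G} (hz : z ∈ Zm) :
    x * z * x⁻¹ ∈ Zm := by
  obtain ⟨k, hk, t, ht, rfl⟩ :=
    mem_sup_of_normal_left.1 (h.symm ▸ mem_top x : x ∈ layCent N M ⊔ S)
  have h1 : t * z * t⁻¹ ∈ Zm := by
    rw [show t * z * t⁻¹ = ⁅t, z⁆ * z by rw [commutatorElement_def]; group]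
    exact mul_mem (L.le_Zm (L.fixS t ht z hz)) hz
  rw [show k * t * z * (k * t)⁻¹ = ⁅k, t * z * t⁻¹⁆ * (t * z * t⁻¹) by
    rw [commutatorElement_def]; group]
  exact mul_mem (L.le_Zm (hk _ (L.Zm_le h1))) h1

theorem layCent_le_ker [N.Normal] [M.Normal] (h : layCent N M ⊔ S ≠ ⊤) : layCent N M ≤ ψ.ker := by
  haveI : ((layCent N M).map ψ).Normal := (inferInstance : (layCent N M).Normal).map ψ c.setup.surj
  refine (Subgroup.map_eq_bot_iff _).1 (normal_eq_bot _ fun hs => h ?_)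
  exact c.setup.full _ le_sup_right (by rw [Subgroup.map_sup, c.setup.image, hs])

/-- One pair of conjugate elements with the same image, for `q = p`. -/
theorem pair_rel [N.Normal] [M.Normal] (hC : layCent N M ≤ ψ.ker) {x a z y : G} {γ : ℕ}
    (hx : x ∈ ψ.ker) (ha : a ∈ S) (haD : a ∉ Cfsg.pCore p G) (hz : z ∈ Zm) (hy : y ∈ M)
    (hgen : ∀ v ∈ Zm, ∃ i : ℕ, (v : G ⧸ N) = (z : G ⧸ N) ^ i)
    (hbz : ((x * a * x⁻¹ * z * (x * a * x⁻¹)⁻¹ : G) : G ⧸ N) = (y : G ⧸ N) * z)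
    (hby : ((x * a * x⁻¹ : G) : G ⧸ N) * y = y * ((x * a * x⁻¹ : G) : G ⧸ N))
    (hay : ((a * y * a⁻¹ : G) : G ⧸ N) = (z : G ⧸ N) ^ γ * y) (hγ : ¬ p ∣ γ) :
    (γ : F) = -1 := by
  haveI hch : CharP F p := charP_of_card_eq_prime_pow c.setup.card
  obtain ⟨m, -, hm⟩ := Nat.exists_mul_mod_eq_one_of_coprime
    ((Nat.Prime.coprime_iff_not_dvd hp.out).2 hγ).symm hp.out.one_lt
  set π := QuotientGroup.mk' N
  set b := x * a * x⁻¹
  set k := a * (b ^ m)⁻¹ * a * a * (a * (b ^ m)⁻¹ * a)⁻¹ * b ^ m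
  have hpz : π z ^ p = 1 := by
    rw [← map_pow]; exact (QuotientGroup.eq_one_iff _).2 (L.pow z (L.Zm_le hz))
  have hcMM : ∀ u ∈ M, ∀ v ∈ M, Commute (π u) (π v) := fun u hu v hv =>
    commutatorElement_eq_one_iff_commute.1 (by
      rw [← map_commutatorElement]
      exact (QuotientGroup.eq_one_iff _).2 (L.triv u (L.le_D hu) v hv))
  have haz : Commute (π a) (π z) := commutatorElement_eq_one_iff_commute.1 (by
    rw [← map_commutatorElement]
    exact (QuotientGroup.eq_one_iff _).2 (L.fixS a ha z hz))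
  set A := π a with hA
  set B := π b ^ m with hB
  set Z := π z with hZ
  set Y := π y ^ m with hY
  have hYZ : Commute Y Z := (hcMM y hy z (L.Zm_le hz)).pow_left m
  have hzm : Z ^ (γ * m) = Z := by
    rw [← Nat.mod_add_div (γ * m) p, hm, pow_add, pow_mul, hpz, one_pow, pow_one, mul_one]
  have hay' : A * π y * A⁻¹ = Z ^ γ * π y := by
    rw [hA, hZ, ← map_mul, ← map_inv, ← map_mul]; exact hay
  have hAY : A * Y = Z * Y * A := by
    have h1 : A * Y * A⁻¹ = Z * Y := by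
      rw [hY, ← conj_pow, hay', ((hcMM z (L.Zm_le hz) y hy).pow_left γ).mul_pow, ← pow_mul, hzm]
    rw [← h1, inv_mul_cancel_right]
  have hby' : Commute (π b) (π y) := hby
  have hBY : B * Y = Y * B := hby'.pow_pow m m
  have hBZ : B * Z = Y * Z * B := by
    have h1 : ∀ j : ℕ, π b ^ j * Z = π y ^ j * Z * π b ^ j := by
      intro j
      induction j with
      | zero => simp
      | succ j ih =>
        have h2 : π b * Z = π y * Z * π b := by
          have h3 : π b * Z * (π b)⁻¹ = π y * Z := by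
            rw [hZ, ← map_mul, ← map_inv, ← map_mul]; exact hbz
          rw [← h3, inv_mul_cancel_right]
        calc π b ^ (j + 1) * Z = π b ^ j * (π b * Z) := by rw [pow_succ, mul_assoc]
          _ = (π b ^ j * π y) * Z * π b := by rw [h2]; group
          _ = (π y * π b ^ j) * Z * π b := by rw [(hby'.pow_left j).eq]
          _ = π y * (π b ^ j * Z) * π b := by group
          _ = π y * (π y ^ j * Z * π b ^ j) * π b := by rw [ih]
          _ = _ := by rw [pow_succ' (π y), pow_succ (π b)]; group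
    exact h1 m
  -- `k` centralises `Z` and `Y`
  have hAZ : A * Z = Z * A := haz
  set W := A * B⁻¹ * A
  have hBiY : B⁻¹ * Y = Y * B⁻¹ := (show Commute B Y from hBY).inv_left.eq
  have hBiZ : B⁻¹ * Z = Y⁻¹ * Z * B⁻¹ := by
    calc B⁻¹ * Z = B⁻¹ * (Y⁻¹ * (Y * Z * B) * B⁻¹) := by group
      _ = B⁻¹ * (Y⁻¹ * (B * Z) * B⁻¹) := by rw [hBZ]
      _ = (B⁻¹ * Y⁻¹) * B * Z * B⁻¹ := by group
      _ = (Y⁻¹ * B⁻¹) * B * Z * B⁻¹ := by
        rw [(show Commute B Y from hBY).inv_left.inv_right.eq]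
      _ = _ := by group
  have hAYi : A * Y⁻¹ = Y⁻¹ * Z⁻¹ * A := by
    calc A * Y⁻¹ = Y⁻¹ * Z⁻¹ * (Z * Y * A) * Y⁻¹ := by
          group
      _ = Y⁻¹ * Z⁻¹ * (A * Y) * Y⁻¹ := by rw [hAY]
      _ = _ := by group
  have hWZ : W * Z = Y⁻¹ * W := by
    calc W * Z = A * B⁻¹ * (A * Z) := by simp [W, mul_assoc]
      _ = A * (B⁻¹ * Z) * A := by rw [hAZ]; group
      _ = (A * Y⁻¹) * Z * B⁻¹ * A := by rw [hBiZ]; group
      _ = Y⁻¹ * Z⁻¹ * (A * Z) * B⁻¹ * A := by rw [hAYi]; group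
      _ = _ := by rw [hAZ]; simp [W, mul_assoc]
  have hWY : W * Y = Z * W := by
    calc W * Y = A * B⁻¹ * (A * Y) := by simp [W, mul_assoc]
      _ = A * (B⁻¹ * Z) * Y * A := by rw [hAY]; group
      _ = (A * Y⁻¹) * Z * (B⁻¹ * Y) * A := by rw [hBiZ]; group
      _ = Y⁻¹ * Z⁻¹ * (A * Z) * (Y * B⁻¹) * A := by rw [hAYi, hBiY]; group
      _ = Y⁻¹ * (A * Y) * B⁻¹ * A := by rw [hAZ]; group
      _ = Y⁻¹ * (Z * Y) * W := by rw [hAY]; simp [W, mul_assoc]
      _ = _ := by rw [show Z * Y = Y * Z from hYZ.symm.eq]; group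
  have hWiY : W⁻¹ * Y⁻¹ = Z * W⁻¹ := by
    calc W⁻¹ * Y⁻¹ = W⁻¹ * (Y⁻¹ * W) * W⁻¹ := by group
      _ = W⁻¹ * (W * Z) * W⁻¹ := by rw [hWZ]
      _ = _ := by group
  have hWiZ : W⁻¹ * Z = Y * W⁻¹ := by
    calc W⁻¹ * Z = W⁻¹ * (Z * W) * W⁻¹ := by group
      _ = W⁻¹ * (W * Y) * W⁻¹ := by rw [hWY]
      _ = _ := by group
  have hWiY' : W⁻¹ * Y = Z⁻¹ * W⁻¹ := by
    calc W⁻¹ * Y = Z⁻¹ * (Z * W⁻¹) * Y := by group
      _ = Z⁻¹ * (W⁻¹ * Y⁻¹) * Y := by rw [hWiY]
      _ = _ := by group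
  have hkdef : π k = W * A * W⁻¹ * B := by simp [k, W, A, B]
  have hkY : Commute (π k) Y := by
    show π k * Y = Y * π k
    calc π k * Y = W * A * W⁻¹ * (B * Y) := by rw [hkdef]; group
      _ = W * A * (W⁻¹ * Y) * B := by rw [hBY]; group
      _ = W * (A * Z⁻¹) * W⁻¹ * B := by rw [hWiY']; group
      _ = (W * Z⁻¹) * A * W⁻¹ * B := by
        rw [(show Commute A Z from hAZ).inv_right.eq]; group
      _ = _ := by
        rw [show W * Z⁻¹ = Y * W by
          calc W * Z⁻¹ = Y * (Y⁻¹ * W) * Z⁻¹ := by group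
            _ = Y * (W * Z) * Z⁻¹ := by rw [hWZ]
            _ = _ := by group, hkdef]
        group
  have hkZ : Commute (π k) Z := by
    show π k * Z = Z * π k
    calc π k * Z = W * A * W⁻¹ * (B * Z) := by rw [hkdef]; group
      _ = W * A * (W⁻¹ * Y) * Z * B := by rw [hBZ]; group
      _ = W * (A * Z⁻¹) * (W⁻¹ * Z) * B := by rw [hWiY']; group
      _ = W * (Z⁻¹ * A) * (Y * W⁻¹) * B := by
        rw [(show Commute A Z from hAZ).inv_right.eq, hWiZ]
      _ = W * Z⁻¹ * (A * Y) * W⁻¹ * B := by group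
      _ = (W * Y) * A * W⁻¹ * B := by rw [hAY]; group
      _ = _ := by rw [hWY, hkdef]; group
  have hk : k ∈ layCent N M := by
    intro v hv
    rw [← QuotientGroup.eq_one_iff]
    show π ⁅k, v⁆ = 1
    rw [map_commutatorElement, commutatorElement_eq_one_iff_commute]
    obtain ⟨i, hi⟩ := hgen _ (L.commS a ha v hv)
    replace hi : π ⁅a, v⁆ = Z ^ i := hi
    have hyM : y ^ m ∈ M := pow_mem hy m
    set v' := v * ((y ^ m) ^ i)⁻¹ with hv'def
    have hv'M : v' ∈ M := mul_mem hv (inv_mem (pow_mem hyM i))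
    have hv' : v' ∈ Zm := by
      refine L.fix a ha haD v' hv'M ((QuotientGroup.eq_one_iff _).1 ?_)
      show π ⁅a, v'⁆ = 1
      rw [map_commutatorElement, commutatorElement_eq_one_iff_commute]
      show A * π v' = π v' * A
      have h1 : A * π v * A⁻¹ = Z ^ i * π v := by
        rw [← hi, map_commutatorElement, commutatorElement_def]; group; simp [A]
      have h2 : A * Y ^ i * A⁻¹ = Z ^ i * Y ^ i := by
        rw [← conj_pow, show A * Y * A⁻¹ = Z * Y by rw [hAY, mul_inv_cancel_right], hYZ.symm.mul_pow]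
      have e : π v' = π v * (Y ^ i)⁻¹ := by simp [hv'def, Y]
      have h3 : A * π v' * A⁻¹ = π v' := by
        calc A * π v' * A⁻¹ = (A * π v * A⁻¹) * (A * Y ^ i * A⁻¹)⁻¹ := by rw [e]; group
          _ = Z ^ i * π v * ((Y ^ i)⁻¹ * (Z ^ i)⁻¹) := by rw [h1, h2]; group
          _ = Z ^ i * (π v * (Y ^ i)⁻¹) * (Z ^ i)⁻¹ := by group
          _ = π v' := by
            rw [← e, ((hcMM z (L.Zm_le hz) v' hv'M).pow_left i).eq, mul_inv_cancel_right]
      calc A * π v' = A * π v' * A⁻¹ * A := by group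
        _ = _ := by rw [h3]
    obtain ⟨j, hj⟩ := hgen v' hv'
    replace hj : π v' = Z ^ j := hj
    have e : π v = Z ^ j * Y ^ i := by rw [← hj]; simp [hv'def, Y]
    rw [e]
    exact (hkZ.pow_right j).mul_right (hkY.pow_right i)
  have h1 : ψ k = 1 := hC hk
  obtain ⟨τ, hτ0, hτ⟩ := c.exists_t ha haD
  have hb : ψ b = proj (upper τ) := by
    rw [show b = x * a * x⁻¹ from rfl, map_mul, map_mul, map_inv, show ψ x = 1 from hx, one_mul,
      inv_one, mul_one, hτ]
  have h2 : ψ k = proj (upper (τ + m * τ)) := by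
    have e : ψ k = proj (upper τ * (upper τ ^ m)⁻¹ * upper τ * upper τ *
        (upper τ * (upper τ ^ m)⁻¹ * upper τ)⁻¹ * upper τ ^ m) := by
      simp [k, hτ, hb]
    rw [e]
    congr 1
    simp only [SL2.upper_pow, SL2.upper_inv, SL2.upper_mul]
    congr 1
    ring
  rw [h2] at h1
  have h3 : τ + m * τ = 0 :=
    RankOnePush.proj_upper_inj (h1.trans (by rw [SL2.upper_zero, map_one]))
  have h4 : (1 + m : F) = 0 := by
    rcases mul_eq_zero.1 (show (1 + m : F) * τ = 0 by linear_combination h3) with h | h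
    · exact h
    · exact absurd h hτ0
  have h5 : (γ : F) * m = 1 := by
    rw [← Nat.cast_mul, CharP.cast_eq_mod F p, hm, Nat.cast_one]
  linear_combination (γ : F) * h4 - h5

/-- The kernel of `ψ` leaves the fixed points invariant. -/
theorem ker_stab (h5 : 5 ≤ p) {x z : G} (hx : x ∈ ψ.ker) (hz : z ∈ Zm) : x⁻¹ * z * x ∈ Zm := by
  haveI := L.nN
  haveI := L.nM
  by_contra hxz
  have hC : layCent N M ≤ ψ.ker := c.layCent_le_ker L fun h => hxz (by
    simpa using c.stab_of_le_sup L h x⁻¹ hz)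
  have hDC : Cfsg.pCore p G ≤ layCent N M := fun d hd => L.triv d hd
  have hSC : layCent N M ⊓ S = Cfsg.pCore p G := le_antisymm
    (fun s hs => c.setup.kerS ▸ ⟨hC hs.1, hs.2⟩) (le_inf hDC c.setup.le_S)
  rcases Nat.lt_or_ge n 2 with hn | hn
  · -- `q = p`
    have hn1 : n = 1 := by have := c.setup.pos; omega
    haveI hch : CharP F p := charP_of_card_eq_prime_pow c.setup.card
    obtain ⟨s, hs, hsD⟩ : ∃ s ∈ S, s ∉ Cfsg.pCore p G := SetLike.not_le_iff_exists.1 fun h => by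
      have := c.index_D
      rw [relIndex_eq_one.2 h] at this
      exact c.setup.one_lt.ne this
    set π := QuotientGroup.mk' N
    have hzN : z ∉ N := fun h => hxz (L.le_Zm (by simpa using L.nN.conj_mem z h x⁻¹))
    have hpz : π z ^ p = 1 := by
      rw [← map_pow]; exact (QuotientGroup.eq_one_iff _).2 (L.pow z (L.Zm_le hz))
    have hgen : ∀ v ∈ Zm, ∃ i : ℕ, (v : G ⧸ N) = (z : G ⧸ N) ^ i := by
      have h1 : zpowers (π z) = Zm.map π := by
        refine eq_of_le_of_card_ge (zpowers_le.2 (mem_map_of_mem π hz)) ?_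
        rw [← relIndex_ker (K := Zm) π, QuotientGroup.ker_mk', Nat.card_zpowers,
          orderOf_eq_prime hpz fun h => hzN ((QuotientGroup.eq_one_iff _).1 h)]
        exact L.idx.trans_eq (by rw [hn1, pow_one])
      intro v hv
      obtain ⟨i, hi⟩ := mem_powers_iff_mem_zpowers.2 (h1.ge (mem_map_of_mem π hv))
      exact ⟨i, hi.symm⟩
    set b := x * s * x⁻¹
    set y := ⁅b, z⁆
    have hxz' : x⁻¹ * z * x ∈ M := by simpa using L.nM.conj_mem z (L.Zm_le hz) x⁻¹
    set v := ⁅s, x⁻¹ * z * x⁆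
    have hv : v ∈ Zm := L.commS s hs _ hxz'
    have hyv : y = x * v * x⁻¹ := by simp [y, v, b, commutatorElement_def, mul_assoc]
    have hvN : v ∉ N := fun h => hxz (L.fix s hs hsD _ hxz' h)
    have hyM : y ∈ M := hyv ▸ L.nM.conj_mem v (L.Zm_le hv) x
    have hby : Commute (π b) (π y) := by
      have h1 : Commute (π s) (π v) := commutatorElement_eq_one_iff_commute.1 (by
        rw [← map_commutatorElement]; exact (QuotientGroup.eq_one_iff _).2 (L.fixS s hs v hv))
      rw [hyv, show b = x * s * x⁻¹ from rfl, map_mul, map_mul, map_mul, map_mul, map_inv]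
      exact (Commute.conj_iff (π x)).2 h1
    obtain ⟨γ, hγ⟩ := hgen _ (L.commS s hs y hyM)
    have hbz : π (b * z * b⁻¹) = π y * π z := by
      rw [← map_mul]; congr 1; simp [y, commutatorElement_def, mul_assoc]
    have hay : π (s * y * s⁻¹) = π z ^ γ * π y := by
      rw [show π z ^ γ = π ⁅s, y⁆ from hγ.symm, ← map_mul]
      congr 1; simp [commutatorElement_def, mul_assoc]
    have hγp : ¬ p ∣ γ := by
      rintro ⟨j, rfl⟩
      have h1 : π ⁅s, y⁆ = 1 := by
        rw [show π ⁅s, y⁆ = π z ^ (p * j) from hγ, pow_mul, hpz, one_pow]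
      obtain ⟨i, hi⟩ := hgen y (L.fix s hs hsD y hyM ((QuotientGroup.eq_one_iff _).1 h1))
      replace hi : π y = π z ^ i := hi
      have hip : ¬ p ∣ i := by
        rintro ⟨l, rfl⟩
        rw [pow_mul, hpz, one_pow] at hi
        apply hvN
        have := L.nN.conj_mem _ ((QuotientGroup.eq_one_iff _).1 hi) x⁻¹
        simpa [hyv, mul_assoc] using this
      obtain ⟨l, -, hl⟩ := Nat.exists_mul_mod_eq_one_of_coprime
        ((Nat.Prime.coprime_iff_not_dvd hp.out).2 hip).symm hp.out.one_lt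
      have h2 : π (x⁻¹ * z * x) = π (v ^ l) := by
        have h3 : π z = π y ^ l := by
          rw [hi, ← pow_mul, ← Nat.mod_add_div (i * l) p, hl, pow_add, pow_mul, hpz, one_pow,
            pow_one, mul_one]
        rw [map_mul, map_mul, h3, ← map_pow, ← map_mul, ← map_mul, hyv, conj_pow]
        congr 1; group
      apply hxz
      have h4 := QuotientGroup.eq.1 h2.symm
      have := mul_mem (pow_mem hv l) (L.le_Zm h4)
      rwa [mul_inv_cancel_left] at this
    have e1 := c.pair_rel L hC hx hs hsD hz hyM hgen hbz hby hay hγp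
    -- the squares
    have h2p : ¬ p ∣ 2 := fun h => by have := Nat.le_of_dvd (by norm_num) h; omega
    have hs2D : s ^ 2 ∉ Cfsg.pCore p G := fun h => by
      obtain ⟨τ, hτ0, hτ⟩ := c.exists_t hs hsD
      have h3 : ψ (s ^ 2) = 1 := c.setup.le_ker h
      rw [map_pow, hτ, ← map_pow, SL2.upper_pow] at h3
      have h4 := RankOnePush.proj_upper_inj (h3.trans (by rw [SL2.upper_zero, map_one]))
      rcases mul_eq_zero.1 h4 with h5 | h5
      · exact h2p ((CharP.cast_eq_zero_iff F p 2).1 h5)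
      · exact hτ0 h5
    have hbz2 : π (x * s ^ 2 * x⁻¹ * z * (x * s ^ 2 * x⁻¹)⁻¹) = π (y ^ 2) * π z := by
      calc π (x * s ^ 2 * x⁻¹ * z * (x * s ^ 2 * x⁻¹)⁻¹)
          = π b * π (b * z * b⁻¹) * (π b)⁻¹ := by
            rw [← map_mul, ← map_inv, ← map_mul]; congr 1; simp [b, pow_two, mul_assoc]
        _ = π b * (π y * π z) * (π b)⁻¹ := by rw [hbz]
        _ = (π b * π y) * π z * (π b)⁻¹ := by group
        _ = (π y * π b) * π z * (π b)⁻¹ := by rw [hby.eq]
        _ = π y * (π b * π z * (π b)⁻¹) := by group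
        _ = π y * π (b * z * b⁻¹) := by rw [← map_inv π b, ← map_mul π b z, ← map_mul π (b * z)]
        _ = _ := by rw [hbz, map_pow, pow_two]; group
    have hby2 : Commute (π (x * s ^ 2 * x⁻¹)) (π (y ^ 2)) := by
      rw [show x * s ^ 2 * x⁻¹ = b ^ 2 by rw [conj_pow], map_pow, map_pow]
      exact hby.pow_pow 2 2
    have hay2 : π (s ^ 2 * y ^ 2 * (s ^ 2)⁻¹) = π z ^ (4 * γ) * π (y ^ 2) := by
      have hsz : Commute (π s) (π z) := commutatorElement_eq_one_iff_commute.1 (by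
        rw [← map_commutatorElement]; exact (QuotientGroup.eq_one_iff _).2 (L.fixS s hs z hz))
      have hzy : Commute (π z) (π y) := commutatorElement_eq_one_iff_commute.1 (by
        rw [← map_commutatorElement]
        exact (QuotientGroup.eq_one_iff _).2 (L.triv z (L.le_D (L.Zm_le hz)) y hyM))
      have h1 : π (s * y ^ 2 * s⁻¹) = π z ^ (2 * γ) * π y ^ 2 := by
        rw [← conj_pow, map_pow, hay, (hzy.pow_left γ).mul_pow, ← pow_mul, mul_comm γ 2]
      calc π (s ^ 2 * y ^ 2 * (s ^ 2)⁻¹)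
          = π s * π (s * y ^ 2 * s⁻¹) * (π s)⁻¹ := by
            rw [← map_mul, ← map_inv, ← map_mul]; congr 1; simp [pow_two, mul_assoc]
        _ = (π s * π z ^ (2 * γ)) * π y ^ 2 * (π s)⁻¹ := by rw [h1]; group
        _ = π z ^ (2 * γ) * π (s * y ^ 2 * s⁻¹) := by
          rw [(hsz.pow_right _).eq, map_mul, map_mul, map_inv, map_pow]; group
        _ = _ := by rw [h1, map_pow, ← mul_assoc, ← pow_add]; congr 2; omega
    have h4γ : ¬ p ∣ 4 * γ := fun h => by
      rcases hp.out.dvd_mul.1 h with h | h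
      · have := Nat.le_of_dvd (by norm_num) h; omega
      · exact hγp h
    have e2 := c.pair_rel L hC hx (pow_mem hs 2) hs2D hz (pow_mem hyM 2) hgen hbz2 hby2 hay2 h4γ
    push_cast at e2
    rw [e1] at e2
    have h3 : ((3 : ℕ) : F) = 0 := by
      push_cast
      linear_combination -e2
    have := Nat.le_of_dvd (by norm_num) ((CharP.cast_eq_zero_iff F p 3).1 h3)
    omega
  · -- `q > p`
    set π := QuotientGroup.mk' (layCent N M)
    let St : Subgroup G :=
      { carrier := {g | ∀ v ∈ Zm, g * v * g⁻¹ ∈ Zm ∧ g⁻¹ * v * g ∈ Zm}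
        one_mem' := fun v hv => by simpa using hv
        mul_mem' := fun {g h} hg hh v hv => ⟨by
          have := (hg _ (hh v hv).1).1
          simpa [mul_assoc] using this, by
          have := (hh _ (hg v hv).2).2
          simpa [mul_assoc] using this⟩
        inv_mem' := fun {g} hg v hv => ⟨by simpa using (hg v hv).2, by simpa using (hg v hv).1⟩ }
    set E := S.map π
    set P := ψ.ker.map π
    haveI : IsMulCommutative E := le_centralizer_iff_isMulCommutative.1 (by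
      rintro _ ⟨a, ha, rfl⟩
      refine mem_centralizer_iff.2 ?_
      rintro _ ⟨b, hb, rfl⟩
      refine commutatorElement_eq_one_iff_mul_comm.1 ?_
      rw [← map_commutatorElement]
      exact (QuotientGroup.eq_one_iff _).2 (hDC (c.setup.comm_mem hb ha)))
    have hcard : Nat.card E = p ^ n := by
      rw [← relIndex_ker (K := S) π, QuotientGroup.ker_mk', ← inf_relIndex_right, hSC, c.index_D]
    have hncyc : ¬ IsCyclic E := by
      intro h
      obtain ⟨g, hg⟩ := h.exists_generator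
      obtain ⟨s, hs, hse⟩ := g.2
      have h1 : orderOf g = p ^ n := hcard ▸ orderOf_eq_card_of_forall_mem_zpowers hg
      have h2 : orderOf g ∣ p := orderOf_dvd_of_pow_eq_one (Subtype.ext (by
        rw [coe_pow, ← hse, ← map_pow]
        exact (QuotientGroup.eq_one_iff _).2 (hDC (c.pow_mem_D hs))))
      rw [h1] at h2
      have h3 := Nat.le_of_dvd hp.out.pos h2
      have h4 : p ^ 2 ≤ p ^ n := Nat.pow_le_pow_right hp.out.pos hn
      have : p * p ≤ p := by rw [← pow_two]; exact h4.trans h3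
      nlinarith [hp.out.two_le]
    have hcop : (Nat.card E).Coprime (Nat.card P) := by
      rw [hcard, ← relIndex_ker (K := ψ.ker) π, QuotientGroup.ker_mk']
      exact (c.coprime_ker.coprime_dvd_right (relIndex_dvd_of_le_left _ hDC)).pow_left n
    haveI : P.Normal := (inferInstance : ψ.ker.Normal).map π (QuotientGroup.mk'_surjective _)
    have hPle := Coprime.le_of_noncyclic (A := E) (K := P) (L := St.map π) hncyc
      ((normalizer_eq_top_iff.2 ‹P.Normal›).symm ▸ le_top) hcop (by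
      rintro _ ⟨s, hs, rfl⟩ hs1 _ ⟨⟨g, hg, rfl⟩, hgs⟩
      refine mem_map_of_mem π ?_
      have hsD : s ∉ Cfsg.pCore p G := fun h => hs1 ((QuotientGroup.eq_one_iff _).2 (hDC h))
      have hgs' : Commute (π g) (π s) := mem_centralizer_singleton_iff.1 hgs
      have key : ∀ k : G, Commute (π k) (π s) → ∀ v ∈ Zm, k * v * k⁻¹ ∈ Zm := by
        intro k hk v hv
        refine L.fix s hs hsD _ (L.nM.conj_mem v (L.Zm_le hv) k) ?_
        have h1 : ⁅k⁻¹, s⁆ ∈ layCent N M := (QuotientGroup.eq_one_iff _).1 (by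
          show π ⁅k⁻¹, s⁆ = 1
          rw [map_commutatorElement, map_inv, commutatorElement_eq_one_iff_commute]
          exact hk.inv_left)
        have hsv : s * v * s⁻¹ ∈ M := L.nM.conj_mem v (L.Zm_le hv) s
        have h2 := L.nN.conj_mem _
          (mul_mem (h1 _ hsv) (L.fixS s hs v hv)) k
        rwa [show k * (⁅⁅k⁻¹, s⁆, s * v * s⁻¹⁆ * ⁅s, v⁆) * k⁻¹ = ⁅s, k * v * k⁻¹⁆ by
          simp [commutatorElement_def, mul_assoc]] at h2
      exact fun v hv => ⟨key g hgs' v hv,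
        by simpa using key g⁻¹ (by rw [map_inv]; exact hgs'.inv_left) v hv⟩)
    obtain ⟨g, hg, hgx⟩ := hPle (mem_map_of_mem π hx)
    apply hxz
    have hgc : g⁻¹ * x ∈ layCent N M := QuotientGroup.eq.1 hgx
    have h1 := (hg z hz).2
    rw [show x⁻¹ * z * x = ⁅(g⁻¹ * x)⁻¹, g⁻¹ * z * g⁆ * (g⁻¹ * z * g) by
      rw [commutatorElement_def]; group]
    exact mul_mem (L.le_Zm (inv_mem hgc _ (L.Zm_le h1))) h1

/-- The kernel of `ψ` is central on the layer. -/
theorem ker_comm (h5 : 5 ≤ p) {x : G} (hx : x ∈ ψ.ker) (g : G) :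
    ∀ m ∈ M, ⁅⁅x, g⁆, m⁆ ∈ N := by
  haveI := L.nN
  haveI := L.nM
  set π := QuotientGroup.mk' (layCent N M)
  haveI : (ψ.ker.map π).Normal :=
    (inferInstance : ψ.ker.Normal).map π (QuotientGroup.mk'_surjective _)
  have hst : ∀ k ∈ ψ.ker, ∀ v ∈ Zm, k * v * k⁻¹ ∈ Zm := fun k hk v hv => by
    simpa using c.ker_stab L h5 (inv_mem hk) hv
  have hS : S ≤ (centralizer (ψ.ker.map π : Set (G ⧸ layCent N M))).comap π := by
    intro t ht
    refine mem_centralizer_iff.2 ?_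
    rintro _ ⟨k, hk, rfl⟩
    rw [← commutatorElement_eq_one_iff_mul_comm, ← map_commutatorElement]
    refine (QuotientGroup.eq_one_iff _).2 fun v hv => ?_
    set y := ⁅k, t⁆
    have hy : y ∈ ψ.ker := by
      rw [show y = k * (t * k⁻¹ * t⁻¹) by simp [y, commutatorElement_def, mul_assoc]]
      exact mul_mem hk ((inferInstance : ψ.ker.Normal).conj_mem _ (inv_mem hk) t)
    have hfix : ∀ u ∈ Zm, ⁅y, u⁆ ∈ N := by
      intro u hu
      rw [← QuotientGroup.eq_one_iff]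
      set ρ := QuotientGroup.mk' N
      show ρ ⁅y, u⁆ = 1
      have hu' : k⁻¹ * u * k ∈ Zm := c.ker_stab L h5 hk hu
      have hcf : ∀ w ∈ Zm, Commute (ρ t) (ρ w) := fun w hw =>
        commutatorElement_eq_one_iff_commute.1 (by
          rw [← map_commutatorElement]; exact (QuotientGroup.eq_one_iff _).2 (L.fixS t ht w hw))
      have h1 := hcf u hu
      have h2 : ρ t * ρ (k⁻¹ * u * k) * (ρ t)⁻¹ = ρ (k⁻¹ * u * k) := by
        rw [(hcf _ hu').eq, mul_inv_cancel_right]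
      rw [map_commutatorElement, commutatorElement_eq_one_iff_commute]
      show ρ y * ρ u = ρ u * ρ y
      calc ρ y * ρ u = ρ k * ρ t * (ρ k)⁻¹ * ((ρ t)⁻¹ * ρ u) := by
            simp [y, commutatorElement_def, mul_assoc]
        _ = ρ k * ρ t * (ρ k)⁻¹ * (ρ u * (ρ t)⁻¹) := by rw [h1.inv_left.eq]
        _ = ρ k * (ρ t * ρ (k⁻¹ * u * k) * (ρ t)⁻¹) * ρ t * (ρ k)⁻¹ * (ρ t)⁻¹ := by
            simp [mul_assoc]
        _ = ρ k * ρ (k⁻¹ * u * k) * ρ t * (ρ k)⁻¹ * (ρ t)⁻¹ := by rw [h2]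
        _ = _ := by simp [y, commutatorElement_def, mul_assoc]
    have hmov : ⁅y, v⁆ ∈ Zm := by
      rw [show ⁅y, v⁆ = k * t * k⁻¹ * ⁅t⁻¹, v⁆ * (k * t * k⁻¹)⁻¹ *
          (k * ⁅t, k⁻¹ * v * k⁆ * k⁻¹) by simp [y, commutatorElement_def, mul_assoc]]
      refine mul_mem ?_ (hst k hk _ (L.commS t ht _ (by simpa using L.nM.conj_mem v hv k⁻¹)))
      have h1 := c.ker_stab L h5 hk (L.commS t⁻¹ (inv_mem ht) v hv)
      have h2 : t * (k⁻¹ * ⁅t⁻¹, v⁆ * k) * t⁻¹ ∈ Zm := by
        rw [show t * (k⁻¹ * ⁅t⁻¹, v⁆ * k) * t⁻¹ =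
          ⁅t, k⁻¹ * ⁅t⁻¹, v⁆ * k⁆ * (k⁻¹ * ⁅t⁻¹, v⁆ * k) by simp [commutatorElement_def, mul_assoc]]
        exact mul_mem (L.le_Zm (L.fixS t ht _ h1)) h1
      simpa [mul_assoc] using hst k hk _ h2
    exact stab_step (L.triv _ (c.pow_mem_ker hy) v hv) (hfix _ hmov) (L.pow _ (L.Zm_le hmov))
      c.coprime_ker
  have htop := c.eq_top_of_normal hS
  have h : π g ∈ centralizer (ψ.ker.map π : Set (G ⧸ layCent N M)) :=
    (htop.symm ▸ mem_top g : g ∈ (centralizer (ψ.ker.map π : Set (G ⧸ layCent N M))).comap π)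
  refine (QuotientGroup.eq_one_iff _).1 (show π ⁅x, g⁆ = 1 from ?_)
  rw [map_commutatorElement, commutatorElement_eq_one_iff_mul_comm]
  exact mem_centralizer_iff.1 h (π x) (mem_map_of_mem π hx)

/-- The Weyl relation holds on the layer. -/
theorem rigid_rel (h5 : 5 ≤ p) {a a₁ g : G} (ha : a ∈ S) (ha₁ : a₁ ∈ S)
    (hk : a * (g * a₁ * g⁻¹)⁻¹ * a * a * (a * (g * a₁ * g⁻¹)⁻¹ * a)⁻¹ * (g * a₁ * g⁻¹) ∈ ψ.ker) :
    ∀ m ∈ M, ⁅a * (g * a₁ * g⁻¹)⁻¹ * a * a * (a * (g * a₁ * g⁻¹)⁻¹ * a)⁻¹ * (g * a₁ * g⁻¹), m⁆ ∈ N := by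
  haveI := L.nN
  haveI := L.nM
  set b := g * a₁ * g⁻¹
  set w := a * b⁻¹ * a
  set k := w * a * w⁻¹ * b with hkdef
  refine (QuotientGroup.eq_one_iff (N := layCent N M) k).1 ?_
  set π := QuotientGroup.mk' (layCent N M)
  show π k = 1
  have hpow : ∀ e ∈ Cfsg.pCore p G, π e = 1 := fun e he =>
    (QuotientGroup.eq_one_iff _).2 fun m hm => L.triv e he m hm
  have hbp : π b ^ p = 1 := by
    rw [← map_pow, show b = g * a₁ * g⁻¹ from rfl, conj_pow]
    exact hpow _ ((inferInstance : (Cfsg.pCore p G).Normal).conj_mem _ (c.pow_mem_D ha₁) g)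
  have hap : π (w * a * w⁻¹) ^ p = 1 := by
    rw [← map_pow, conj_pow]
    exact hpow _ ((inferInstance : (Cfsg.pCore p G).Normal).conj_mem _ (c.pow_mem_D ha) w)
  have hcomm : Commute (π k) (π b) := commutatorElement_eq_one_iff_commute.1 (by
    rw [← map_commutatorElement]
    exact (QuotientGroup.eq_one_iff _).2 (c.ker_comm L h5 hk b))
  have e : π (w * a * w⁻¹) = π k * (π b)⁻¹ := by
    rw [hkdef, map_mul _ (w * a * w⁻¹) b, mul_inv_cancel_right]
  rw [e, hcomm.inv_right.mul_pow, inv_pow, hbp, inv_one, mul_one] at hap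
  have hkm : π k ^ (Cfsg.pCore p G).relIndex ψ.ker = 1 := by
    rw [← map_pow]; exact hpow _ (c.pow_mem_ker hk)
  exact orderOf_eq_one_iff.1 (Nat.eq_one_of_dvd_coprimes c.coprime_ker
    (orderOf_dvd_of_pow_eq_one hap) (orderOf_dvd_of_pow_eq_one hkm))

end Ctx

end Cfsg.Agent.Lib.GNiles
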