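import Mathlib
/-!
Two unipotent operators `1 + A`, `1 + B` satisfying the relation `w a w⁻¹ = b⁻¹` of `SL₂`, where
`w = a b⁻¹ a`: if `w⁴ = 1` and `6` is invertible then both act quadratically.
-/

set_option autoImplicit false

namespace Cfsg.Agent.Lib.GNiles

variable {M : Type*} [AddCommGroup M]

/-- The inverse of `1 + B`, for `B³ = 0`. -/
def bInv (B : M →+ M) (x : M) : M := x - B x + B (B x)

/-- `(1 + A)(1 + B)⁻¹(1 + A)`. -/
def weylMap (A B : M →+ M) (x : M) : M := bInv B (x + A x) + A (bInv B (x + A x))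

theorem weylMap_add (A B : M →+ M) (x y : M) :
    weylMap A B (x + y) = weylMap A B x + weylMap A B y := by
  simp only [weylMap, bInv, map_add, map_sub]; abel

theorem weylMap_neg (A B : M →+ M) (x : M) : weylMap A B (-x) = -weylMap A B x := by
  simp only [weylMap, bInv, map_add, map_sub, map_neg]; abel

/-- The setting: two halves `U`, `U'` and the parts `Z ≤ U`, `Z' ≤ U'` of the bottom layer. -/
structure WeylData (A B : M →+ M) (U U' Z Z' : AddSubgroup M) : Prop where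
  hZU : Z ≤ U
  hZU' : Z' ≤ U'
  disj : ∀ x ∈ U, x ∈ U' → x = 0
  hAU : ∀ x ∈ U, A x = 0
  hBU' : ∀ x ∈ U', B x = 0
  hAZ' : ∀ x ∈ Z', A x ∈ Z
  hBZ : ∀ x ∈ Z, B x ∈ Z'
  hA : ∀ x, ∃ u ∈ U, ∃ t ∈ Z', A x = u + t
  hB : ∀ x, ∃ u' ∈ U', ∃ s ∈ Z, B x = u' + s
  injA : ∀ x ∈ U', A x = 0 → x = 0
  injB : ∀ x ∈ U, B x = 0 → x = 0
  fixA : ∀ x ∈ U', (∃ z ∈ Z, ∃ t ∈ Z', A x = z + t) → x ∈ Z'
  rel : ∀ x, weylMap A B (x + A x) = bInv B (weylMap A B x)

namespace WeylData

variable {A B : M →+ M} {U U' Z Z' : AddSubgroup M} (d : WeylData A B U U' Z Z')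

include d

theorem bottom : (∀ z ∈ Z, A (B z) = z ∧ weylMap A B z = -B z) ∧
    (∀ t ∈ Z', B (A t) = t ∧ weylMap A B t = A t) := by
  have hAz : ∀ z ∈ Z, A z = 0 := fun z hz => d.hAU z (d.hZU hz)
  have hBt : ∀ t ∈ Z', B t = 0 := fun t ht => d.hBU' t (d.hZU' ht)
  have key : ∀ z ∈ Z, A (B z) = z := by
    intro z hz
    have h1 := d.hBZ z hz
    have h2 := d.hAZ' _ h1
    have hw : weylMap A B z = z - B z - A (B z) := by
      simp only [weylMap, bInv, hAz z hz, add_zero, hBt _ h1, map_sub, zero_sub]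
      abel
    have h := d.rel z
    rw [hAz z hz, add_zero, hw] at h
    simp only [bInv, map_sub, hBt _ h1, hBt _ (d.hBZ _ h2), map_zero] at h
    have h3 : B (A (B z) - z) = 0 := by
      rw [map_sub]
      refine Eq.trans ?_ (sub_eq_zero.2 h.symm)
      abel
    exact sub_eq_zero.1 (d.injB _ (d.hZU (Z.sub_mem h2 hz)) h3)
  have key' : ∀ t ∈ Z', B (A t) = t := fun t ht => by
    have h := key _ (d.hAZ' t ht)
    refine sub_eq_zero.1 (d.injA _ (d.hZU' (Z'.sub_mem (d.hBZ _ (d.hAZ' t ht)) ht)) ?_)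
    rw [map_sub, h, sub_self]
  refine ⟨fun z hz => ⟨key z hz, ?_⟩, fun t ht => ⟨key' t ht, ?_⟩⟩
  · simp only [weylMap, bInv, hAz z hz, add_zero, hBt _ (d.hBZ z hz), map_sub, key z hz, zero_sub]
    abel
  · have h2 := d.hAZ' t ht
    simp only [weylMap, bInv, map_add, hBt t ht, key' t ht, zero_add, map_sub, hAz _ h2, add_zero,
      sub_self]
    abel

/-- The behaviour on one element of `U`. -/
theorem upper {x : M} (hx : x ∈ U) : ∃ y ∈ U', ∃ t ∈ Z',
    A y = x + t ∧ B x = y - A t ∧ weylMap A B x = -y - t - t ∧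
      weylMap A B y = x + A t ∧ weylMap A B (weylMap A B x) = -x - A t - A t - A t := by
  obtain ⟨hz, ht'⟩ := d.bottom
  obtain ⟨y, hy, s, hs, hBx⟩ := d.hB x
  obtain ⟨x', hx', t, ht, hAy⟩ := d.hA y
  set R := B s
  have hR : R ∈ Z' := d.hBZ s hs
  have hAR : A R = s := (hz s hs).1
  have hBy : B y = 0 := d.hBU' y hy
  have hBR : B R = 0 := d.hBU' R (d.hZU' hR)
  have hBt : B t = 0 := d.hBU' t (d.hZU' ht)
  have hAx : A x = 0 := d.hAU x hx
  have hAs : A s = 0 := d.hAU s (d.hZU hs)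
  have hBBx : B (B x) = R := by rw [hBx, map_add, hBy, zero_add]
  have hwx : weylMap A B x = (x - x') + (-y + R - t) := by
    simp only [weylMap, bInv, hAx, add_zero, hBBx]
    rw [hBx]
    simp only [map_sub, map_add, hAx, hAy, hAs, hAR]
    abel
  -- `x' = x`
  have hxx : x' = x := by
    have h := d.rel x
    rw [hAx, add_zero, hwx] at h
    set e := x - x'
    have hB' : B (-y + R - t) = 0 := by simp [map_sub, map_add, hBy, hBR, hBt]
    have h0 : B e = B (B e) := by
      have h1 : bInv B (e + (-y + R - t)) = (e + (-y + R - t)) - B e + B (B e) := by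
        simp only [bInv, map_add, hB', add_zero]
      rw [h1] at h
      refine sub_eq_zero.1 ?_
      refine Eq.trans ?_ (sub_eq_zero.2 h)
      abel
    obtain ⟨v, hv, s', hs', hBe⟩ := d.hB e
    have h3 : B (B (B e)) = 0 := by
      rw [hBe, map_add, d.hBU' v hv, zero_add, d.hBU' _ (d.hZU' (d.hBZ s' hs'))]
    have h4 : B (B e) = 0 := by
      have := congrArg B h0
      rw [h3] at this
      exact this
    exact (sub_eq_zero.1 (d.injB e (U.sub_mem hx hx') (h0.trans h4))).symm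
  rw [hxx] at hAy
  rw [hxx, sub_self, zero_add] at hwx
  set T := A t
  have hT : T ∈ Z := d.hAZ' t ht
  have hAT : A T = 0 := d.hAU T (d.hZU hT)
  have hBT : B T = t := (ht' t ht).1
  have hwy : weylMap A B y = x + R + t + T := by
    simp only [weylMap, bInv, hAy, map_add, hBy, zero_add, hBBx, hBt, add_zero]
    rw [hBx]
    simp only [map_add, map_sub, hAy, hAs, hAR, hBy, zero_add, hAx, hBR, map_zero]
    show _ = x + R + t + A t
    abel
  -- `s = -A t`
  have hsT : s = -T := by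
    have h := d.rel y
    rw [hAy, weylMap_add, weylMap_add, hwy, hwx, (ht' t ht).2] at h
    have h2 : bInv B (x + R + t + T) = x + R + t + T - y - s - t + R := by
      simp only [bInv, map_add, hBR, hBt, add_zero, hBT]
      rw [hBBx]
      rw [hBx]
      abel
    rw [h2] at h
    have h3 : s + T = 0 := by
      refine Eq.trans ?_ (sub_eq_zero.2 h)
      show s + T = x + R + t + A t + (-y + R - t + A t) - (x + R + t + T - y - s - t + R)
      abel
    exact eq_neg_of_add_eq_zero_left h3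
  have hRt : R = -t := by
    show B s = -t
    rw [hsT, map_neg, hBT]
  refine ⟨y, hy, t, ht, hAy, ?_, ?_, ?_, ?_⟩
  · rw [hBx, hsT, sub_eq_add_neg]
  · rw [hwx, hRt]; abel
  · rw [hwy, hRt]; abel
  · rw [hwx, hRt, show -y + -t - t = -(y + t + t) by abel, weylMap_neg, weylMap_add, weylMap_add, hwy,
      (ht' t ht).2, hRt]
    abel

/-- The behaviour on one element of `U'`. -/
theorem lower {y : M} (hy : y ∈ U') : ∃ x ∈ U, ∃ t ∈ Z',
    A y = x + t ∧ weylMap A B y = x + A t ∧ weylMap A B x = -y - t - t := by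
  obtain ⟨x, hx, t, ht, hAy⟩ := d.hA y
  obtain ⟨y', hy', t', ht', hAy', -, hwx, hwy, -⟩ := d.upper hx
  have hd : y - y' ∈ Z' := by
    refine d.fixA _ (U'.sub_mem hy hy') ⟨0, Z.zero_mem, t - t', Z'.sub_mem ht ht', ?_⟩
    rw [map_sub, hAy, hAy']; abel
  have h1 : A (y - y') = t - t' := by rw [map_sub, hAy, hAy']; abel
  have h2 : t - t' = 0 := d.disj _ (h1 ▸ d.hZU (d.hAZ' _ hd)) (d.hZU' (Z'.sub_mem ht ht'))
  have h3 : y = y' := sub_eq_zero.1 (d.injA _ (d.hZU' hd) (h1.trans h2))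
  rw [← h3] at hwx hwy hAy'
  exact ⟨x, hx, t', ht', hAy', hwy, hwx⟩

/-- If `w⁴` stabilises no proper series and `6` is invertible then `A`, `B` are quadratic. -/
theorem quadratic
    (h4 : ∀ x c, weylMap A B (weylMap A B (weylMap A B (weylMap A B x))) = x + c →
      weylMap A B (weylMap A B (weylMap A B (weylMap A B c))) = c → c = 0)
    (h6 : ∀ x : M, (6 : ℕ) • x = 0 → x = 0) :
    (∀ y ∈ U', A y ∈ U) ∧ ∀ x ∈ U, B x ∈ U' := by
  obtain ⟨hz, hz'⟩ := d.bottom
  have key : ∀ x ∈ U, ∃ y ∈ U', A y = x ∧ B x = y := by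
    intro x hx
    obtain ⟨y', hy', t', ht', hAy', hBx, -, -, hww⟩ := d.upper hx
    set T := A t'
    have hT : T ∈ Z := d.hAZ' t' ht'
    have hwT : weylMap A B (weylMap A B T) = -T := by
      rw [(hz T hT).2, weylMap_neg, (hz' _ (d.hBZ T hT)).2, (hz T hT).1]
    have h4x : weylMap A B (weylMap A B (weylMap A B (weylMap A B x))) = x + (6 : ℕ) • T := by
      rw [hww, show -x - T - T - T = -(x + T + T + T) by abel, weylMap_neg, weylMap_neg, weylMap_add,
        weylMap_add, weylMap_add, weylMap_add, weylMap_add, weylMap_add, hww, hwT]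
      abel
    have hTT : weylMap A B (weylMap A B (weylMap A B (weylMap A B T))) = T := by
      rw [hwT, weylMap_neg, weylMap_neg, hwT, neg_neg]
    have h0 : (6 : ℕ) • T = 0 := by
      refine h4 x _ h4x ?_
      have e : (6 : ℕ) • T = T + T + T + T + T + T := by abel
      simp only [e, weylMap_add, hTT]
    have ht0 : t' = 0 := d.injA t' (d.hZU' ht') (h6 _ h0)
    exact ⟨y', hy', by rw [hAy', ht0, add_zero],
      by rw [hBx, show T = 0 from h6 _ h0, sub_zero]⟩
  refine ⟨fun y hy => ?_, fun x hx => ?_⟩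
  · obtain ⟨x, hx, t, ht, hAy, -, -⟩ := d.lower hy
    obtain ⟨y', hy', hAy', -⟩ := key x hx
    have hd : y - y' ∈ Z' := by
      refine d.fixA _ (U'.sub_mem hy hy') ⟨0, Z.zero_mem, t, ht, ?_⟩
      rw [map_sub, hAy, hAy']; abel
    rw [show A y = x + A (y - y') by rw [map_sub, hAy']; abel]
    exact U.add_mem hx (d.hZU (d.hAZ' _ hd))
  · obtain ⟨y, hy, -, hBx⟩ := key x hx
    exact hBx ▸ hy

/-- If `A` and `B` are quadratic on the halves then `A` maps everything into `U`. -/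
theorem image (hAq : ∀ y ∈ U', A y ∈ U) (hBq : ∀ x ∈ U, B x ∈ U')
    (h2 : ∀ x : M, (2 : ℕ) • x = 0 → x = 0) (m : M) : A m ∈ U := by
  obtain ⟨hz, hz'⟩ := d.bottom
  obtain ⟨u, hu, t, ht, hAm⟩ := d.hA m
  obtain ⟨u', hu', s, hs, hBm⟩ := d.hB m
  set R := B s
  set T := A t
  have hR : R ∈ Z' := d.hBZ s hs
  have hT : T ∈ Z := d.hAZ' t ht
  have hAu : A u = 0 := d.hAU u hu
  have hBu' : B u' = 0 := d.hBU' u' hu'
  have hAR : A R = s := (hz s hs).1
  have hBT : B T = t := (hz' t ht).1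
  have hBR : B R = 0 := d.hBU' R (d.hZU' hR)
  have hBt : B t = 0 := d.hBU' t (d.hZU' ht)
  have hAs : A s = 0 := d.hAU s (d.hZU hs)
  have hBBu : B (B u) = 0 := d.hBU' _ (hBq u hu)
  have hABu : A (B u) = u := by
    obtain ⟨y, hy, t₁, ht₁, hAy, hBu, -⟩ := d.upper hu
    have h0 : A t₁ = 0 := by
      have h1 : A t₁ ∈ U' := by
        have h2 : y - B u ∈ U' := U'.sub_mem hy (hBq u hu)
        rwa [hBu, sub_sub_cancel] at h2
      exact d.disj _ (d.hZU (d.hAZ' t₁ ht₁)) h1
    have ht0 : t₁ = 0 := d.injA t₁ (d.hZU' ht₁) h0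
    rw [hBu, ht0, map_zero, sub_zero, hAy, ht0, add_zero]
  have hBAu : B (A u') = u' := by
    obtain ⟨x, hx, t₁, ht₁, hAy, -, hwx⟩ := d.lower hu'
    obtain ⟨y, hy, t₂, ht₂, hAy2, hBx, -⟩ := d.upper hx
    have e1 : t₁ = 0 := d.disj _ (by
      have := U.sub_mem (hAq u' hu') hx
      rwa [hAy, add_sub_cancel_left] at this) (d.hZU' ht₁)
    have e2 : t₂ = 0 := d.disj _ (by
      have := U.sub_mem (hAq y hy) hx
      rwa [hAy2, add_sub_cancel_left] at this) (d.hZU' ht₂)
    have e3 : u' - y ∈ Z' := d.fixA _ (U'.sub_mem hu' hy) ⟨0, Z.zero_mem, 0, Z'.zero_mem, by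
      rw [map_sub, hAy, hAy2, e1, e2]; abel⟩
    have e4 : u' = y := sub_eq_zero.1 (d.injA _ (d.hZU' e3) (by
      rw [map_sub, hAy, hAy2, e1, e2]; abel))
    rw [hAy, e1, add_zero, hBx, e2, map_zero, sub_zero, e4]
  have hwu : weylMap A B u = -B u := by
    simp only [weylMap, bInv, hAu, add_zero, hBBu, map_sub, hABu]
    abel
  have hAAu' : A (A u') = 0 := d.hAU _ (hAq u' hu')
  have hwm : weylMap A B m = m + (u - A u' + T) + (t + t - u' + R - B u) := by
    simp only [weylMap, bInv, map_add, map_sub, hAm, hBm, hBu', zero_add, hBBu, hBt, map_zero,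
      add_zero, hAu, hAs, hAR, hABu, (hz s hs).1]
    abel
  have h := d.rel m
  rw [hAm, weylMap_add, weylMap_add, hwu, (hz' t ht).2, hwm] at h
  have hb : bInv B (m + (u - A u' + T) + (t + t - u' + R - B u)) =
      m + (u - A u' + T) + (t + t - u' + R - B u) + (-s + R - B u - t) := by
    simp only [bInv, map_add, map_sub, hBm, hBAu, hBT, hBt, hBR, hBu', hBBu, add_zero, sub_zero,
      zero_add]
    abel
  rw [hb] at h
  have hsplit : T + s = R - t := by
    refine sub_eq_zero.1 ?_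
    refine Eq.trans ?_ (sub_eq_zero.2 h)
    abel
  have hTs : T + s = 0 :=
    d.disj _ (U.add_mem (d.hZU hT) (d.hZU hs)) (hsplit ▸ U'.sub_mem (d.hZU' hR) (d.hZU' ht))
  have hRt : R = t := by
    rw [hTs] at hsplit
    exact sub_eq_zero.1 hsplit.symm
  have h2t : R + t = 0 := by
    have := congrArg B hTs
    rw [map_add, hBT, map_zero] at this
    rw [add_comm]
    exact this
  have ht0 : t = 0 := h2 t (by rw [two_nsmul]; rw [hRt] at h2t; exact h2t)
  rw [hAm, ht0, add_zero]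
  exact hu

end WeylData

end Cfsg.Agent.Lib.GNiles
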