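import Mathlib
import Cfsg.Agent.Lib.GNiles.Good
import Cfsg.Agent.Lib.GNiles.Rigid
import Cfsg.Agent.Lib.GNiles.Weyl
/-!
For `p ≥ 5` and `h ≤ q` the group `A` acts quadratically on `O_p(G)` modulo `C_D(O^p(G))`.
-/

set_option autoImplicit false
set_option linter.unusedSectionVars false

namespace Cfsg.Agent.Lib.GNiles

open Subgroup
open Cfsg.Agent.Lib
open Cfsg.Agent.Lib.SL2 (SLtwo PSLtwo proj upper lower)
open scoped commutatorElement IsMulCommutative

section Operators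

variable {Q : Type*} [Group Q] (V : Subgroup Q) [V.Normal] [IsMulCommutative V]

/-- An element of `V` as an element of the module. -/
def addEl (v : Q) (hv : v ∈ V) : Additive V := Additive.ofMul ⟨v, hv⟩

/-- The subgroup of the module given by a subgroup of `Q`. -/
def addSub (P : Subgroup Q) : AddSubgroup (Additive V) := (P.subgroupOf V).toAddSubgroup

/-- Conjugation. -/
def conjAct (x : Q) : Additive V →+ Additive V :=
  MonoidHom.toAdditive (MulAut.conjNormal (H := V) x).toMonoidHom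

/-- Conjugation minus the identity. -/
def conjDiff (x : Q) : Additive V →+ Additive V := conjAct V x - AddMonoidHom.id _

variable {V}

theorem exists_addEl (m : Additive V) : ∃ v, ∃ hv : v ∈ V, addEl V v hv = m :=
  ⟨(Additive.toMul m : V), (Additive.toMul m : V).2, rfl⟩

theorem addEl_mem {P : Subgroup Q} {v : Q} {hv : v ∈ V} : addEl V v hv ∈ addSub V P ↔ v ∈ P :=
  Iff.rfl

theorem addEl_congr {u v : Q} (h : u = v) (hu : u ∈ V) (hv : v ∈ V) :
    addEl V u hu = addEl V v hv := by subst h; rfl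

theorem addEl_add {u v : Q} (hu : u ∈ V) (hv : v ∈ V) :
    addEl V u hu + addEl V v hv = addEl V (u * v) (mul_mem hu hv) := rfl

theorem addEl_inj {u v : Q} {hu : u ∈ V} {hv : v ∈ V} (h : addEl V u hu = addEl V v hv) : u = v :=
  congrArg Subtype.val (Additive.ofMul.injective h)

theorem addEl_eq_zero {v : Q} {hv : v ∈ V} : addEl V v hv = 0 ↔ v = 1 :=
  ⟨fun h => addEl_inj (hv := one_mem V) h, fun h => addEl_congr h hv (one_mem V)⟩

theorem comm_mem_of_mem {v : Q} (hv : v ∈ V) (x : Q) : ⁅x, v⁆ ∈ V :=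
  mul_mem ((inferInstance : V.Normal).conj_mem v hv x) (inv_mem hv)

theorem conjAct_addEl (x : Q) {v : Q} (hv : v ∈ V) :
    conjAct V x (addEl V v hv) = addEl V (x * v * x⁻¹) ((inferInstance : V.Normal).conj_mem v hv x) :=
  rfl

theorem conjDiff_apply (x : Q) (m : Additive V) : conjDiff V x m = conjAct V x m - m := rfl

theorem conjDiff_addEl (x : Q) {v : Q} (hv : v ∈ V) :
    conjDiff V x (addEl V v hv) = addEl V ⁅x, v⁆ (comm_mem_of_mem hv x) := by
  rw [conjDiff_apply, conjAct_addEl, sub_eq_iff_eq_add, addEl_add]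
  exact addEl_congr (by rw [commutatorElement_def]; group) _ _

theorem conjAct_mul (x y : Q) (m : Additive V) :
    conjAct V (x * y) m = conjAct V x (conjAct V y m) := by
  obtain ⟨v, hv, rfl⟩ := exists_addEl m
  rw [conjAct_addEl, conjAct_addEl, conjAct_addEl]
  exact addEl_congr (by group) _ _

theorem conjAct_one (m : Additive V) : conjAct V 1 m = m := by
  obtain ⟨v, hv, rfl⟩ := exists_addEl m
  rw [conjAct_addEl]
  exact addEl_congr (by group) _ _

theorem bInv_conjDiff (b : Q) (m : Additive V)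
    (h : conjDiff V b (conjDiff V b (conjDiff V b m)) = 0) :
    bInv (conjDiff V b) m = conjAct V b⁻¹ m := by
  have e : conjAct V b (bInv (conjDiff V b) m) = m := by
    calc conjAct V b (bInv (conjDiff V b) m)
        = bInv (conjDiff V b) m + conjDiff V b (bInv (conjDiff V b) m) := by
          rw [conjDiff_apply _ (bInv (conjDiff V b) m)]; abel
      _ = m + conjDiff V b (conjDiff V b (conjDiff V b m)) := by
          simp only [bInv, map_add, map_sub]; abel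
      _ = m := by rw [h, add_zero]
  calc bInv (conjDiff V b) m = conjAct V (b⁻¹ * b) (bInv (conjDiff V b) m) := by
        rw [inv_mul_cancel, conjAct_one]
    _ = _ := by rw [conjAct_mul, e]

theorem weylMap_conjDiff (a b : Q)
    (h : ∀ m, conjDiff V b (conjDiff V b (conjDiff V b m)) = 0) (m : Additive V) :
    weylMap (conjDiff V a) (conjDiff V b) m = conjAct V (a * b⁻¹ * a) m := by
  have e : ∀ x : Additive V, x + conjDiff V a x = conjAct V a x := fun x => by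
    rw [conjDiff_apply]; abel
  unfold weylMap
  rw [e, bInv_conjDiff b _ (h _), e, conjAct_mul, conjAct_mul]

end Operators

variable {G : Type*} [Group G] [Finite G] {p : ℕ} [hp : Fact p.Prime]
  {F : Type} [Field F] [Fintype F] {n : ℕ}
variable {S A : Subgroup G} {ψ : G →* PSLtwo F}

namespace Ctx

variable (c : Ctx p S n ψ)

include c

/-- An opposite partner in `O^p(G)` for an element outside `O_p(G)`. -/
theorem exists_weyl_pair (hA : IsLag S A) (hAD : ¬ A ≤ Cfsg.pCore p G) {a : G} (ha : a ∈ A)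
    (haD : a ∉ Cfsg.pCore p G) :
    ∃ g ∈ opG p G, Opp ψ g ∧ ∃ a₁ ∈ A, a₁ ∉ Cfsg.pCore p G ∧
      a * (g * a₁ * g⁻¹)⁻¹ * a * a * (a * (g * a₁ * g⁻¹)⁻¹ * a)⁻¹ * (g * a₁ * g⁻¹) ∈ ψ.ker ∧
      (a * (g * a₁ * g⁻¹)⁻¹ * a) ^ 2 ∈ ψ.ker := by
  obtain ⟨o, ho, hopp⟩ := c.exists_opp
  obtain ⟨M, hM⟩ := SL2.proj_surjective (ψ o)
  have hM0 : M 1 0 ≠ 0 := hopp M hM
  obtain ⟨s, hs, hsψ⟩ := c.setup.exists_mem (M 0 0 / M 1 0)
  set g := s⁻¹ * o * s
  have hg : g ∈ opG p G := by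
    have := (inferInstance : (opG p G).Normal).conj_mem o ho s⁻¹
    rwa [inv_inv] at this
  set K := (upper (M 0 0 / M 1 0))⁻¹ * M * upper (M 0 0 / M 1 0)
  have hK : proj K = ψ g := by simp [K, g, ← hM, hsψ]
  have hK00 : K 0 0 = 0 := by
    simp [K, SL2.mul_00, SL2.mul_01, SL2.mul_10, SL2.mul_11, SL2.inv_00, SL2.inv_01, SL2.inv_10,
      SL2.inv_11]
    field_simp
    ring
  have hK10 : K 1 0 = M 1 0 := by
    simp [K, SL2.mul_00, SL2.mul_01, SL2.mul_10, SL2.mul_11, SL2.inv_00, SL2.inv_01, SL2.inv_10,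
      SL2.inv_11]
  have hgopp : Opp ψ g := opp_of_lift hK (by rw [hK10]; exact hM0)
  obtain ⟨t, ht0, ht⟩ := c.exists_t (hA.le ha) haD
  set r := -(1 / (t * M 1 0 * M 1 0)) with hr
  obtain ⟨s', hs', hs'ψ⟩ := c.setup.exists_mem r
  obtain ⟨a₁, ha₁, d, hd, rfl⟩ := c.exists_mul hA hAD hs'
  have ha₁ψ : ψ a₁ = proj (upper r) := by
    rw [← hs'ψ, map_mul, show ψ d = 1 from c.setup.le_ker hd, mul_one]
  have hr0 : r ≠ 0 := neg_ne_zero.2 (one_div_ne_zero (mul_ne_zero (mul_ne_zero ht0 hM0) hM0))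
  have hb : ψ (g * a₁ * g⁻¹) = proj (lower (1 / t)) := by
    have hd' := SL2.det_entries K
    rw [hK00, hK10] at hd'
    have e : K * upper r * K⁻¹ = lower (1 / t) := by
      apply SL2.ext_entries <;>
        simp [SL2.mul_00, SL2.mul_01, SL2.mul_10, SL2.mul_11, SL2.inv_00, SL2.inv_01, SL2.inv_10,
          SL2.inv_11, hK00, hK10, hr]
      · linear_combination hd'
      · field_simp
        ring
      · linear_combination hd'
    rw [map_mul, map_mul, map_inv, ← hK, ha₁ψ, ← map_inv, ← map_mul, ← map_mul, e]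
  refine ⟨g, hg, hgopp, a₁, ha₁, fun h => hr0 ?_, ?_, ?_⟩
  · exact RankOnePush.proj_upper_inj (ha₁ψ.symm.trans
      ((c.setup.le_ker h : ψ a₁ = 1).trans (by rw [SL2.upper_zero, map_one])))
  · show ψ _ = 1
    have e : upper t * (lower (1 / t))⁻¹ * upper t * upper t *
        (upper t * (lower (1 / t))⁻¹ * upper t)⁻¹ * lower (1 / t) = 1 := by
      apply SL2.ext_entries <;>
        simp [SL2.mul_00, SL2.mul_01, SL2.mul_10, SL2.mul_11, SL2.inv_00, SL2.inv_01, SL2.inv_10,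
          SL2.inv_11] <;> field_simp <;> ring
    generalize g * a₁ * g⁻¹ = β at hb ⊢
    simpa [ht, hb] using congrArg proj e
  · show ψ _ = 1
    have e : (upper t * (lower (1 / t))⁻¹ * upper t) * (upper t * (lower (1 / t))⁻¹ * upper t) = -1 := by
      apply SL2.ext_entries <;>
        simp [SL2.mul_00, SL2.mul_01, SL2.mul_10, SL2.mul_11, SL2.inv_00, SL2.inv_01, SL2.inv_10,
          SL2.inv_11] <;> field_simp <;> ring
    rw [map_pow, map_mul, map_mul, map_inv, ht, hb, ← map_inv, ← map_mul, ← map_mul, ← map_pow,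
      pow_two, e, SL2.proj_eq_one_iff, SL2.mem_center_iff_eq]
    exact Or.inr rfl

end Ctx

namespace Base

variable (b : Base p S A n ψ)

include b

theorem comm_mem_xo_c0 (x : G) {d : G} (hd : d ∈ Cfsg.pCore p G) (hDM : Cfsg.pCore p G ≤ dmPart p G) :
    ⁅x, d⁆ ∈ xo p G ⊔ c0 p G := by
  haveI hN : (xo p G ⊔ c0 p G).Normal := inferInstance
  obtain ⟨o, ho, s, hs, rfl⟩ :=
    mem_sup_of_normal_left.1 (b.ctx.opG_sup.symm ▸ mem_top x : x ∈ opG p G ⊔ S)
  obtain ⟨a, ha, e, he, rfl⟩ := b.ctx.exists_mul b.lag b.out hs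
  rw [show ⁅o * (a * e), d⁆ = o * (a * ⁅e, d⁆ * a⁻¹ * ⁅a, d⁆) * o⁻¹ * ⁅o, d⁆ by
    simp [commutatorElement_def, mul_assoc]]
  refine mul_mem (hN.conj_mem _ (mul_mem (hN.conj_mem _ (mem_sup_right (b.comm_pCore_mem hDM he hd)) a)
    (b.dxPart_le_xo_sup (b.comm_A_mem_dxPart ha hd))) o) (mem_sup_left ?_)
  rw [← commutatorElement_inv]
  exact inv_mem (commutator_mem_commutator hd ho)

/-- Fixed points in an opposite conjugate modulo `W C`. -/
theorem fix_mem_conj {g a u' : G} (hg : Opp ψ g) (hgP : g ∈ opG p G) (ha : a ∈ A)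
    (haD : a ∉ Cfsg.pCore p G) (hu' : u' ∈ (uPart p A).map (cj g)) (h : ⁅a, u'⁆ ∈ wc p G) :
    ∃ i ∈ c0 p G, ∃ w ∈ (zen S).map (cj g), u' = i * w := by
  have hu'X := b.uConj_le_xPart hgP hu'
  have hcX : ⁅a, u'⁆ ∈ xPart p A :=
    mul_mem (b.xPart_conj (mem_sup_right ha) hu'X) (inv_mem hu'X)
  have h1 := b.fix_uConj_mod hg hgP ha haD hu' (b.wc_inf_xPart.le ⟨h, hcX⟩)
  obtain ⟨i, hi, w, hw, e⟩ := mem_sup_of_normal_right.1 h1
  refine ⟨i, hi.2, w, ?_, e.symm⟩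
  have h2 : g⁻¹ * w * g ∈ uPart p A := mem_map_cj.1 (by
    rw [show w = i⁻¹ * u' by rw [← e]; group]
    exact mul_mem (inv_mem (b.iPart_le_cj hgP hi)) hu')
  rw [mem_map_cj, ← b.uPart_inf_W]
  exact ⟨h2, by simpa using
    (inferInstance : (centralizer (Cfsg.pCore p G : Set G)).Normal).conj_mem w hw g⁻¹⟩

theorem mem_c0_of_comm {g a u' : G} (hg : Opp ψ g) (hgP : g ∈ opG p G) (ha : a ∈ A)
    (haD : a ∉ Cfsg.pCore p G) (hu' : u' ∈ (uPart p A).map (cj g)) (h : ⁅a, u'⁆ ∈ c0 p G) :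
    u' ∈ c0 p G := by
  obtain ⟨i, hi, w, hw, rfl⟩ := b.fix_mem_conj hg hgP ha haD hu' (mem_sup_right h)
  refine mul_mem hi (b.ctx.center_le_c0 ?_)
  have hwW := b.ctx.zen_map_le_W g hw
  have h2 : ⁅a, w⁆ ∈ c0 p G := by
    rw [show ⁅a, w⁆ = i⁻¹ * (⁅a, i⁆⁻¹ * ⁅a, i * w⁆) * i⁻¹⁻¹ by
      simp [commutatorElement_def, mul_assoc]]
    exact c0_normal.conj_mem _
      (mul_mem (inv_mem (mul_mem (c0_normal.conj_mem i hi a) (inv_mem hi))) h) _
  rw [← b.ctx.inf_zen_conj hg]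
  refine ⟨b.ctx.fix_W_mod b.lag b.out (b.lag.le ha) haD hwW ?_, hw⟩
  rw [← b.ctx.W_inf_c0 b.lag b.out]
  exact ⟨b.ctx.zen_le_W (b.ctx.comm_mem_zen b.lag b.out (b.lag.le ha) hwW), h2⟩

variable (hDM : Cfsg.pCore p G ≤ dmPart p G) (hxp : ∀ x ∈ xo p G, x ^ p ∈ c0 p G)

include hDM hxp

/-- The relation holds on `O_p(G) / C_D(O^p(G))`. -/
theorem rel_trivial (h5 : 5 ≤ p)
    (hq : (wc p G).relIndex (uPart p A ⊔ centralizer (Cfsg.pCore p G : Set G)) ≤ p ^ n)
    {a a₁ g : G} (ha : a ∈ S) (ha₁ : a₁ ∈ S)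
    (hk : a * (g * a₁ * g⁻¹)⁻¹ * a * a * (a * (g * a₁ * g⁻¹)⁻¹ * a)⁻¹ * (g * a₁ * g⁻¹) ∈ ψ.ker)
    {d : G} (hd : d ∈ Cfsg.pCore p G) :
    ⁅a * (g * a₁ * g⁻¹)⁻¹ * a * a * (a * (g * a₁ * g⁻¹)⁻¹ * a)⁻¹ * (g * a₁ * g⁻¹), d⁆ ∈ c0 p G := by
  set D := Cfsg.pCore p G
  set W := centralizer (D : Set G)
  haveI hWn : W.Normal := inferInstance
  haveI hKn : (wc p G).Normal := inferInstance
  haveI hMn : (xo p G ⊔ wc p G).Normal := inferInstance
  have hwD : wc p G ≤ D := sup_le b.ctx.W_le inf_le_left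
  have hMD : xo p G ⊔ wc p G ≤ D := sup_le xo_le_pCore hwD
  have hUD : uPart p A ⊔ wc p G ≤ D := sup_le inf_le_right hwD
  have hT : Rigid p S n (wc p G) (xo p G ⊔ wc p G) (uPart p A ⊔ wc p G) := by
    refine ⟨hKn, hMn, le_sup_right, sup_le (b.uPart_le_xPart.trans ?_) le_sup_right, hMD,
      fun x hx m hm => mem_sup_right (b.comm_pCore_mem hDM hx (hMD hm)),
      fun m hm => mem_sup_right (b.pow_pCore_mem hDM hxp (hMD hm)), fun s hs m hm => ?_,
      fun s hs z hz => ?_, fun s hs hsD m hm hsm => ?_, ?_⟩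
    · rw [b.xPart_eq_sup]
      exact sup_le le_sup_left ((inf_le_right.trans le_sup_right).trans le_sup_right)
    · obtain ⟨x, hx, e, he, rfl⟩ := b.ctx.exists_mul b.lag b.out hs
      rw [show ⁅x * e, m⁆ = x * ⁅e, m⁆ * x⁻¹ * ⁅x, m⁆ by simp [commutatorElement_def, mul_assoc]]
      refine mul_mem (mem_sup_right (mem_sup_right (c0_normal.conj_mem _
        (b.comm_pCore_mem hDM he (hMD hm)) x))) ?_
      rw [← sup_assoc]
      exact b.comm_A_pCore hDM hx (hMD hm)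
    · obtain ⟨x, hx, e, he, rfl⟩ := b.ctx.exists_mul b.lag b.out hs
      rw [show ⁅x * e, z⁆ = x * ⁅e, z⁆ * x⁻¹ * ⁅x, z⁆ by simp [commutatorElement_def, mul_assoc]]
      refine mul_mem (hKn.conj_mem _ (mem_sup_right (b.comm_pCore_mem hDM he (hUD hz))) x) ?_
      obtain ⟨u, hu, k, hk', rfl⟩ := mem_sup_of_normal_right.1 hz
      rw [show ⁅x, u * k⁆ = ⁅x, u⁆ * (u * ⁅x, k⁆ * u⁻¹) by simp [commutatorElement_def, mul_assoc],
        commutatorElement_eq_one_iff_mul_comm.2 (b.A_comm_u hx hu), one_mul]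
      exact hKn.conj_mem _ (mul_mem (hKn.conj_mem k hk' x) (inv_mem hk')) u
    · obtain ⟨x, hx, e, he, rfl⟩ := b.ctx.exists_mul b.lag b.out hs
      have hxD : x ∉ D := fun h => hsD (mul_mem h he)
      have h1 : ⁅x, m⁆ ∈ wc p G := by
        rw [show ⁅x, m⁆ = (x * ⁅e, m⁆ * x⁻¹)⁻¹ * ⁅x * e, m⁆ by
          simp [commutatorElement_def, mul_assoc]]
        exact mul_mem (inv_mem (hKn.conj_mem _ (mem_sup_right (b.comm_pCore_mem hDM he (hMD hm))) x)) hsm
      obtain ⟨y, hy, k, hk', rfl⟩ := mem_sup_of_normal_right.1 hm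
      have h2 : ⁅x, y⁆ ∈ wc p G := by
        rw [show ⁅x, y⁆ = ⁅x, y * k⁆ * (y * ⁅x, k⁆ * y⁻¹)⁻¹ by
          simp [commutatorElement_def, mul_assoc]]
        exact mul_mem h1 (inv_mem (hKn.conj_mem _ (mul_mem (hKn.conj_mem k hk' x) (inv_mem hk')) y))
      obtain ⟨o, ho, hopp⟩ := b.ctx.exists_opp
      obtain ⟨u, hu, -, u', hu', hu'x, rfl⟩ := b.xo_dec hopp ho hy
      have h3 : ⁅x, u'⁆ ∈ wc p G := by
        rw [show ⁅x, u * u'⁆ = ⁅x, u⁆ * (u * ⁅x, u'⁆ * u⁻¹) by simp [commutatorElement_def, mul_assoc],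
          commutatorElement_eq_one_iff_mul_comm.2 (b.A_comm_u hx hu), one_mul] at h2
        simpa [mul_assoc] using hKn.conj_mem _ h2 u⁻¹
      obtain ⟨i, hi, w, hw, rfl⟩ := b.fix_mem_conj hopp ho hx hxD hu' h3
      exact mul_mem (mul_mem (mem_sup_left hu) (mem_sup_right
        (mul_mem (mem_sup_right hi) (mem_sup_left (b.ctx.zen_map_le_W o hw))))) (mem_sup_right hk')
    · refine le_trans (le_of_eq ?_) hq
      rw [show uPart p A ⊔ wc p G = (uPart p A ⊔ W) ⊔ wc p G from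
        le_antisymm (sup_le_sup_right le_sup_left _)
          (sup_le (sup_le le_sup_left (le_sup_left.trans le_sup_right)) le_sup_right),
        relIndex_sup_right]
  have hzW : zen S ⊔ c0 p G ≤ wc p G := sup_le_sup_right b.ctx.zen_le_W _
  have hW : Rigid p S n (c0 p G) (wc p G) (zen S ⊔ c0 p G) := by
    refine ⟨c0_normal, hKn, le_sup_right, hzW, hwD,
      fun x hx m hm => b.comm_pCore_mem hDM hx (hwD hm),
      fun m hm => b.pow_pCore_mem hDM hxp (hwD hm), fun s hs m hm => ?_, fun s hs z hz => ?_,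
      fun s hs hsD m hm hsm => ?_, ?_⟩
    · obtain ⟨w, hw, e, he, rfl⟩ := mem_sup_of_normal_right.1 hm
      rw [show ⁅s, w * e⁆ = ⁅s, w⁆ * (w * ⁅s, e⁆ * w⁻¹) by simp [commutatorElement_def, mul_assoc]]
      exact mul_mem (mem_sup_left (b.ctx.comm_mem_zen b.lag b.out hs hw))
        (mem_sup_right (c0_normal.conj_mem _ (mul_mem (c0_normal.conj_mem e he s) (inv_mem he)) w))
    · obtain ⟨w, hw, e, he, rfl⟩ := mem_sup_of_normal_right.1 hz
      rw [show ⁅s, w * e⁆ = ⁅s, w⁆ * (w * ⁅s, e⁆ * w⁻¹) by simp [commutatorElement_def, mul_assoc],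
        commutatorElement_eq_one_iff_mul_comm.2 (mem_centralizer_iff.1 hw.2 s hs), one_mul]
      exact c0_normal.conj_mem _ (mul_mem (c0_normal.conj_mem e he s) (inv_mem he)) w
    · obtain ⟨w, hw, e, he, rfl⟩ := mem_sup_of_normal_right.1 hm
      have h2 : ⁅s, w⁆ ∈ c0 p G := by
        rw [show ⁅s, w⁆ = ⁅s, w * e⁆ * (w * ⁅s, e⁆ * w⁻¹)⁻¹ by
          simp [commutatorElement_def, mul_assoc]]
        exact mul_mem hsm (inv_mem (c0_normal.conj_mem _
          (mul_mem (c0_normal.conj_mem e he s) (inv_mem he)) w))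
      refine mul_mem (mem_sup_left (b.ctx.fix_W_mod b.lag b.out hs hsD hw ?_)) (mem_sup_right he)
      rw [← b.ctx.W_inf_c0 b.lag b.out]
      exact ⟨b.ctx.zen_le_W (b.ctx.comm_mem_zen b.lag b.out hs hw), h2⟩
    · obtain ⟨o, -, hopp⟩ := b.ctx.exists_opp
      rw [relIndex_sup_right]
      refine (Nat.le_of_dvd (Nat.pos_of_ne_zero index_ne_zero_of_finite)
        (relIndex_dvd_of_le_left _ b.ctx.center_le_c0)).trans (le_of_eq ?_)
      exact (b.ctx.sup_zen_conj b.lag b.out hopp).2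
  set k := a * (g * a₁ * g⁻¹)⁻¹ * a * a * (a * (g * a₁ * g⁻¹)⁻¹ * a)⁻¹ * (g * a₁ * g⁻¹)
  have hm : ⁅k ^ D.relIndex ψ.ker, d⁆ ∈ c0 p G := b.comm_pCore_mem hDM (b.ctx.pow_mem_ker hk) hd
  have he : ⁅k, d⁆ ∈ xo p G ⊔ c0 p G := b.comm_mem_xo_c0 k hd hDM
  have hcD : ⁅k, d⁆ ∈ D := (sup_le xo_le_pCore inf_le_left : xo p G ⊔ c0 p G ≤ D) he
  have hpk := b.pow_pCore_mem hDM hxp hcD
  have h1 : ⁅k, d⁆ ∈ wc p G := stab_step (mem_sup_right hm)
    (b.ctx.rigid_rel hT h5 ha ha₁ hk _ ((sup_le_sup_left le_sup_right _ : _ ≤ xo p G ⊔ wc p G) he))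
    (mem_sup_right hpk) b.ctx.coprime_ker
  exact stab_step hm (b.ctx.rigid_rel hW h5 ha ha₁ hk _ h1) hpk b.ctx.coprime_ker

/-- `[A, O_p(G)] ≤ (A ∩ O_p(G)) C` for `p ≥ 5`. -/
theorem comm_A_five (h5 : 5 ≤ p)
    (hq : (wc p G).relIndex (uPart p A ⊔ centralizer (Cfsg.pCore p G : Set G)) ≤ p ^ n)
    {a d : G} (ha : a ∈ A) (hd : d ∈ Cfsg.pCore p G) : ⁅a, d⁆ ∈ uPart p A ⊔ c0 p G := by
  by_cases haD : a ∈ Cfsg.pCore p G
  · exact mem_sup_right (b.comm_pCore_mem hDM haD hd)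
  obtain ⟨g, hgP, hg, a₁, ha₁, ha₁D, hk, hw2⟩ := b.ctx.exists_weyl_pair b.lag b.out ha haD
  set D := Cfsg.pCore p G
  set W := centralizer (D : Set G)
  haveI hWn : W.Normal := inferInstance
  set π := QuotientGroup.mk' (c0 p G)
  set V := D.map π
  haveI hVn : V.Normal := (inferInstance : D.Normal).map π (QuotientGroup.mk'_surjective _)
  haveI hVc : IsMulCommutative V := le_centralizer_iff_isMulCommutative.1 (by
    rintro _ ⟨x, hx, rfl⟩
    refine mem_centralizer_iff.2 ?_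
    rintro _ ⟨y, hy, rfl⟩
    refine commutatorElement_eq_one_iff_mul_comm.1 ?_
    rw [← map_commutatorElement]
    exact (QuotientGroup.eq_one_iff _).2 (b.comm_pCore_mem hDM hy hx))
  set β := g * a₁ * g⁻¹
  set w := a * β⁻¹ * a
  set α' := conjDiff V (π a)
  set β' := conjDiff V (π β)
  set U := addSub V ((uPart p A).map π)
  set U' := addSub V (((uPart p A).map (cj g)).map π)
  set Z := addSub V ((zen S).map π)
  set Z' := addSub V (((zen S).map (cj g)).map π)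
  have hU'D : (uPart p A).map (cj g) ≤ D := (map_uPart A g).le.trans inf_le_right
  have hZ'D : (zen S).map (cj g) ≤ D := (b.ctx.zen_map_le_W g).trans b.ctx.W_le
  have hel : ∀ m : Additive V, ∃ x, ∃ hx : x ∈ D, addEl V (π x) (mem_map_of_mem π hx) = m := by
    intro m
    obtain ⟨v, ⟨x, hx, rfl⟩, rfl⟩ := exists_addEl m
    exact ⟨x, hx, rfl⟩
  have hsub : ∀ (P : Subgroup G) (hP : P ≤ D), ∀ m ∈ addSub V (P.map π),
      ∃ x, ∃ hx : x ∈ P, addEl V (π x) (mem_map_of_mem π (hP hx)) = m := by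
    intro P hP m hm
    obtain ⟨v, hv, rfl⟩ := exists_addEl m
    obtain ⟨x, hx, rfl⟩ := addEl_mem.1 hm
    exact ⟨x, hx, rfl⟩
  have hdiff : ∀ (y x : G) (hx : x ∈ D), conjDiff V (π y) (addEl V (π x) (mem_map_of_mem π hx)) =
      addEl V (π ⁅y, x⁆) (mem_map_of_mem π
        (mul_mem ((inferInstance : D.Normal).conj_mem x hx y) (inv_mem hx))) := fun y x hx => by
    rw [conjDiff_addEl]
    exact addEl_congr (map_commutatorElement π y x).symm _ _
  have hzero : ∀ (x : G) (hx : π x ∈ V), x ∈ c0 p G → addEl V (π x) hx = 0 := fun x hx h =>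
    addEl_eq_zero.2 ((QuotientGroup.eq_one_iff _).2 h)
  have hAa : ∀ x ∈ D, ∃ u ∈ uPart p A, ∃ t ∈ (zen S).map (cj g), π ⁅a, x⁆ = π u * π t := by
    intro x hx
    obtain ⟨v, hv, e, he, hve⟩ := mem_sup_of_normal_right.1 (b.comm_A_pCore hDM ha hx)
    obtain ⟨u, hu, w', hw', rfl⟩ := mem_sup_of_normal_right.1 hv
    obtain ⟨z, hz, t, ht, rfl⟩ := b.ctx.W_mul b.lag b.out hg hw'
    exact ⟨u * z, mul_mem hu (b.zen_le_uPart hz), t, ht, by
      rw [← hve, map_mul, show π e = 1 from (QuotientGroup.eq_one_iff _).2 he, mul_one,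
        map_mul, map_mul, map_mul, mul_assoc]⟩
  have hBb : ∀ x ∈ D, ∃ u ∈ (uPart p A).map (cj g), ∃ s ∈ zen S, π ⁅β, x⁆ = π u * π s := by
    intro x hx
    have hx' : g⁻¹ * x * g ∈ D := by simpa using (inferInstance : D.Normal).conj_mem x hx g⁻¹
    obtain ⟨v, hv, e, he, hve⟩ := mem_sup_of_normal_right.1 (b.comm_A_pCore hDM ha₁ hx')
    obtain ⟨u, hu, w', hw', rfl⟩ := mem_sup_of_normal_right.1 hv
    obtain ⟨z, hz, t, ht, hzt⟩ := b.ctx.W_mul b.lag b.out hg (hWn.conj_mem w' hw' g)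
    refine ⟨g * u * g⁻¹ * t, mul_mem (mem_map_of_mem (cj g) hu) ((map_mono b.zen_le_uPart) ht),
      z, hz, ?_⟩
    rw [show ⁅β, x⁆ = g * ⁅a₁, g⁻¹ * x * g⁆ * g⁻¹ by simp [β, commutatorElement_def, mul_assoc],
      ← hve, show g * (u * w' * e) * g⁻¹ = (g * u * g⁻¹) * (g * w' * g⁻¹) * (g * e * g⁻¹) by group,
      hzt, map_mul π _ (g * e * g⁻¹), show π (g * e * g⁻¹) = 1 from
        (QuotientGroup.eq_one_iff _).2 (c0_normal.conj_mem e he g), mul_one,
      b.ctx.W_comm (b.ctx.zen_le_W hz) (b.ctx.zen_map_le_W g ht), ← map_mul, mul_assoc _ t z]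
  have hBU : ∀ x ∈ (uPart p A).map (cj g), ⁅β, x⁆ = 1 := by
    rintro _ ⟨v, hv, rfl⟩
    rw [show ⁅β, cj g v⁆ = g * ⁅a₁, v⁆ * g⁻¹ by simp [β, cj_apply, commutatorElement_def, mul_assoc],
      commutatorElement_eq_one_iff_mul_comm.2 (b.A_comm_u ha₁ hv)]
    group
  have hBz : ∀ z ∈ zen S, ⁅β, z⁆ ∈ (zen S).map (cj g) := by
    intro z hz
    refine ⟨⁅a₁, g⁻¹ * z * g⁆, b.ctx.comm_mem_zen b.lag b.out (b.lag.le ha₁) ?_, ?_⟩
    · simpa using hWn.conj_mem z (b.ctx.zen_le_W hz) g⁻¹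
    · simp [β, cj_apply, commutatorElement_def, mul_assoc]
  have hinjA : ∀ x ∈ (uPart p A).map (cj g), ⁅a, x⁆ ∈ c0 p G → x ∈ c0 p G := fun x hx h =>
    b.mem_c0_of_comm hg hgP ha haD hx h
  have hinjB : ∀ x ∈ uPart p A, ⁅β, x⁆ ∈ c0 p G → x ∈ c0 p G := by
    intro x hx h
    have h1 : g⁻¹ * x * g ∈ (uPart p A).map (cj g⁻¹) := ⟨x, hx, by simp [cj_apply]⟩
    have h2 : ⁅a₁, g⁻¹ * x * g⁆ ∈ c0 p G := by
      have h3 := c0_normal.conj_mem _ h g⁻¹
      rwa [inv_inv, show g⁻¹ * ⁅β, x⁆ * g = ⁅a₁, g⁻¹ * x * g⁆ by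
        simp [β, commutatorElement_def, mul_assoc]] at h3
    have h4 := c0_normal.conj_mem _ (b.mem_c0_of_comm hg.inv (inv_mem hgP) ha₁ ha₁D h1 h2) g
    rwa [show g * (g⁻¹ * x * g) * g⁻¹ = x by group] at h4
  -- the three powers of `β'`
  have hcube : ∀ m, β' (β' (β' m)) = 0 := by
    intro m
    obtain ⟨x, hx, rfl⟩ := hel m
    obtain ⟨u, hu, s, hs, e⟩ := hBb x hx
    have hsD : s ∈ D := b.ctx.zen_le_D hs
    rw [hdiff β x hx, addEl_congr e _ (mul_mem (mem_map_of_mem π (hU'D hu)) (mem_map_of_mem π hsD)),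
      ← addEl_add (mem_map_of_mem π (hU'D hu)) (mem_map_of_mem π hsD), map_add, hdiff _ _ (hU'D hu), hdiff _ _ hsD,
      hzero _ _ (by rw [hBU u hu]; exact one_mem _), zero_add, hdiff _ _ (hZ'D (hBz s hs))]
    exact hzero _ _ (by rw [hBU _ (map_mono b.zen_le_uPart (hBz s hs))]; exact one_mem _)
  have hweyl := weylMap_conjDiff (V := V) (π a) (π β) hcube
  have hwπ : π a * (π β)⁻¹ * π a = π w := by simp [w]
  have hrel : ∀ m, weylMap α' β' (m + α' m) = bInv β' (weylMap α' β' m) := by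
    intro m
    rw [show m + α' m = conjAct V (π a) m by simp [α', conjDiff_apply],
      bInv_conjDiff _ _ (hcube _), hweyl, hweyl, ← conjAct_mul, ← conjAct_mul, hwπ]
    set k := w * a * w⁻¹ * β
    have hkk : ∀ m', conjAct V (π k) m' = m' := by
      intro m'
      obtain ⟨x, hx, rfl⟩ := hel m'
      have h1 : π ⁅k, x⁆ = 1 := (QuotientGroup.eq_one_iff _).2
        (b.rel_trivial hDM hxp h5 hq (b.lag.le ha) (b.lag.le ha₁) hk hx)
      rw [map_commutatorElement, commutatorElement_eq_one_iff_mul_comm] at h1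
      rw [conjAct_addEl]
      exact addEl_congr (by rw [h1, mul_inv_cancel_right]) _ _
    rw [show π w * π a = π k * ((π β)⁻¹ * π w) by simp [k, mul_assoc], conjAct_mul, hkk]
  have hdata : WeylData α' β' U U' Z Z' := by
    refine ⟨fun m hm => ?_, fun m hm => ?_, fun m hm hm' => ?_, fun m hm => ?_, fun m hm => ?_,
      fun m hm => ?_, fun m hm => ?_, fun m => ?_, fun m => ?_, fun m hm h0 => ?_,
      fun m hm h0 => ?_, fun m hm h0 => ?_, hrel⟩
    · obtain ⟨x, hx, rfl⟩ := hsub _ b.ctx.zen_le_D m hm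
      exact addEl_mem.2 (mem_map_of_mem π (b.zen_le_uPart hx))
    · obtain ⟨x, hx, rfl⟩ := hsub _ hZ'D m hm
      exact addEl_mem.2 (mem_map_of_mem π (map_mono b.zen_le_uPart hx))
    · obtain ⟨u, hu, rfl⟩ := hsub _ inf_le_right m hm
      obtain ⟨u', hu', e⟩ := addEl_mem.1 hm'
      apply hzero
      have h0 : u'⁻¹ * u ∈ xPart p A :=
        mul_mem (inv_mem (b.uConj_le_xPart hgP hu')) (b.uPart_le_xPart hu)
      have h1 : u'⁻¹ * u ∈ iPart p A := b.xPart_inf_c0.le ⟨h0, QuotientGroup.eq.1 e⟩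
      have h2 : u ∈ (uPart p A).map (cj g) := by
        rw [show u = u' * (u'⁻¹ * u) by group]
        exact mul_mem hu' (b.iPart_le_cj hgP h1)
      exact ((b.inf_eq_iPart hg hgP).le ⟨hu, h2⟩).2
    · obtain ⟨u, hu, rfl⟩ := hsub _ inf_le_right m hm
      rw [hdiff _ _ hu.2]
      refine hzero _ _ ?_
      rw [commutatorElement_eq_one_iff_mul_comm.2 (b.A_comm_u ha hu)]
      exact one_mem _
    · obtain ⟨u, hu, rfl⟩ := hsub _ hU'D m hm
      rw [hdiff _ _ (hU'D hu)]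
      exact hzero _ _ (by rw [hBU u hu]; exact one_mem _)
    · obtain ⟨x, hx, rfl⟩ := hsub _ hZ'D m hm
      rw [hdiff _ _ (hZ'D hx)]
      exact addEl_mem.2 (mem_map_of_mem π
        (b.ctx.comm_mem_zen b.lag b.out (b.lag.le ha) (b.ctx.zen_map_le_W g hx)))
    · obtain ⟨x, hx, rfl⟩ := hsub _ b.ctx.zen_le_D m hm
      rw [hdiff _ _ (b.ctx.zen_le_D hx)]
      exact addEl_mem.2 (mem_map_of_mem π (hBz x hx))
    · obtain ⟨x, hx, rfl⟩ := hel m
      obtain ⟨u, hu, t, ht, e⟩ := hAa x hx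
      refine ⟨addEl V (π u) (mem_map_of_mem π hu.2), addEl_mem.2 (mem_map_of_mem π hu),
        addEl V (π t) (mem_map_of_mem π (hZ'D ht)), addEl_mem.2 (mem_map_of_mem π ht), ?_⟩
      rw [hdiff _ _ hx, addEl_add]
      exact addEl_congr e _ _
    · obtain ⟨x, hx, rfl⟩ := hel m
      obtain ⟨u, hu, t, ht, e⟩ := hBb x hx
      refine ⟨addEl V (π u) (mem_map_of_mem π (hU'D hu)), addEl_mem.2 (mem_map_of_mem π hu),
        addEl V (π t) (mem_map_of_mem π (b.ctx.zen_le_D ht)), addEl_mem.2 (mem_map_of_mem π ht), ?_⟩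
      rw [hdiff _ _ hx, addEl_add]
      exact addEl_congr e _ _
    · obtain ⟨x, hx, rfl⟩ := hsub _ hU'D m hm
      rw [hdiff _ _ (hU'D hx), addEl_eq_zero] at h0
      exact hzero _ _ (hinjA x hx ((QuotientGroup.eq_one_iff _).1 h0))
    · obtain ⟨x, hx, rfl⟩ := hsub _ inf_le_right m hm
      rw [hdiff _ _ hx.2, addEl_eq_zero] at h0
      exact hzero _ _ (hinjB x hx ((QuotientGroup.eq_one_iff _).1 h0))
    · obtain ⟨x, hx, rfl⟩ := hsub _ hU'D m hm
      obtain ⟨z, hz, t, ht, e⟩ := h0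
      obtain ⟨z, hz', rfl⟩ := hsub _ b.ctx.zen_le_D z hz
      obtain ⟨t, ht', rfl⟩ := hsub _ hZ'D t ht
      rw [hdiff _ _ (hU'D hx), addEl_add] at e
      have e' : π (z * t) = π ⁅a, x⁆ := by rw [map_mul]; exact (addEl_inj e).symm
      have h1 : ⁅a, x⁆ ∈ wc p G := by
        rw [show ⁅a, x⁆ = (z * t) * ((z * t)⁻¹ * ⁅a, x⁆) by group]
        exact mul_mem (mem_sup_left (mul_mem (b.ctx.zen_le_W hz') (b.ctx.zen_map_le_W g ht')))
          (mem_sup_right (QuotientGroup.eq.1 e'))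
      obtain ⟨i, hi, y, hy, rfl⟩ := b.fix_mem_conj hg hgP ha haD hx h1
      refine addEl_mem.2 ⟨y, hy, ?_⟩
      rw [map_mul, show π i = 1 from (QuotientGroup.eq_one_iff _).2 hi, one_mul]
  have htor : ∀ j : ℕ, ¬ p ∣ j → ∀ m : Additive V, j • m = 0 → m = 0 := by
    intro j hj m hm
    have hpm : p • m = 0 := by
      obtain ⟨x, hx, rfl⟩ := hel m
      refine Additive.toMul.injective (Subtype.ext ?_)
      show π x ^ p = 1
      rw [← map_pow]
      exact (QuotientGroup.eq_one_iff _).2 (b.pow_pCore_mem hDM hxp hx)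
    exact AddMonoid.addOrderOf_eq_one_iff.1 (Nat.eq_one_of_dvd_coprimes
      ((Nat.Prime.coprime_iff_not_dvd hp.out).2 hj)
      (addOrderOf_dvd_of_nsmul_eq_zero hpm) (addOrderOf_dvd_of_nsmul_eq_zero hm))
  have hp2 : ¬ p ∣ 2 := fun h => by have := Nat.le_of_dvd (by norm_num) h; omega
  have hp6 : ¬ p ∣ 6 := fun h => by
    rcases hp.out.dvd_mul.1 (show p ∣ 2 * 3 by norm_num; exact h) with h | h
    · exact hp2 h
    · have := Nat.le_of_dvd (by norm_num) h; omega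
  obtain ⟨hAq, hBq⟩ := hdata.quadratic (fun m c hmc hcc => by
    obtain ⟨x, hx, rfl⟩ := hel m
    obtain ⟨e, he, rfl⟩ := hel c
    rw [hweyl, hweyl, hweyl, hweyl, ← conjAct_mul, ← conjAct_mul, ← conjAct_mul, hwπ] at hmc hcc
    set y := w * w * w * w
    have hy : π w * π w * π w * π w = π y := by simp [y]
    simp only [← mul_assoc, hy] at hmc hcc
    rw [conjAct_addEl, addEl_add] at hmc
    rw [conjAct_addEl] at hcc
    have h1 := addEl_inj hmc
    have h2 := addEl_inj hcc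
    have h3 : π ⁅y, x⁆ = π e := by
      rw [map_commutatorElement, commutatorElement_def, h1,
        show π x * π e = π e * π x from congrArg Subtype.val
          (mul_comm (⟨π x, mem_map_of_mem π hx⟩ : V) ⟨π e, mem_map_of_mem π he⟩), mul_inv_cancel_right]
    refine hzero _ _ ?_
    have hy' : y ∈ ψ.ker := by
      rw [show y = w ^ 2 * w ^ 2 by simp [y, pow_two, mul_assoc]]
      exact mul_mem hw2 hw2
    have hxe : ⁅y, x⁆ ∈ D :=
      mul_mem ((inferInstance : D.Normal).conj_mem x hx y) (inv_mem hx)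
    have h4 : ⁅y, x⁆ ∈ c0 p G := by
      refine stab_step (b.comm_pCore_mem hDM (b.ctx.pow_mem_ker hy') hx) ?_
        (b.pow_pCore_mem hDM hxp hxe) b.ctx.coprime_ker
      refine (QuotientGroup.eq_one_iff _).1 ?_
      show π ⁅y, ⁅y, x⁆⁆ = 1
      rw [map_commutatorElement, h3, commutatorElement_def, h2, mul_inv_cancel]
    rw [← QuotientGroup.eq_one_iff]
    show π e = 1
    rw [← h3]
    exact (QuotientGroup.eq_one_iff _).2 h4) (htor 6 hp6)
  have hfin := hdata.image hAq hBq (htor 2 hp2) (addEl V (π d) (mem_map_of_mem π hd))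
  rw [hdiff _ _ hd] at hfin
  obtain ⟨u, hu, e⟩ := addEl_mem.1 hfin
  rw [show ⁅a, d⁆ = u * (u⁻¹ * ⁅a, d⁆) by group]
  exact mul_mem (mem_sup_left hu) (mem_sup_right (QuotientGroup.eq.1 e))

end Base

end Cfsg.Agent.Lib.GNiles
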