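import Mathlib
import Cfsg.Agent.Lib.GNiles.Key
import Cfsg.Agent.Lib.GNiles.Omega
import Cfsg.Agent.Lib.GNiles.Relation
import Cfsg.Agent.Lib.GNiles.Outer
import Cfsg.Agent.Lib.PushingUp.Main
/-!
The characteristic subgroup `E(N)`, with `N` the intersection of all `O_p(G)` over the situations on
`P` with `h > q`.
-/

set_option autoImplicit false
set_option linter.unusedSectionVars false

universe u

namespace Cfsg.Agent.Lib.GNiles

open Subgroup
open Cfsg.Agent.Lib
open Cfsg.Agent.Lib.SL2 (SLtwo PSLtwo)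
open scoped commutatorElement

section Transport

variable {G : Type*} [Group G] {H : Type*} [Group H] {K : Type*} [Group K]
  {S : Subgroup G} {T : Subgroup H} {R : Subgroup K}

theorem push_trans (e : S ≃* T) (f : T ≃* R) (L : Subgroup G) :
    push (e.trans f) L = push f (push e L) := by
  ext x
  simp only [mem_push]
  constructor
  · rintro ⟨y, hy, rfl⟩
    exact ⟨e y, ⟨y, hy, rfl⟩, rfl⟩
  · rintro ⟨z, ⟨y, hy, e1⟩, rfl⟩
    exact ⟨y, hy, by rw [MulEquiv.trans_apply, show e y = z from Subtype.ext e1]⟩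

theorem push_inf_centralizer (e : S ≃* T) {L : Subgroup G} (hL : L ≤ S) :
    push e (S ⊓ centralizer (L : Set G)) = T ⊓ centralizer (push e L : Set H) := by
  ext x
  constructor
  · intro hx
    refine ⟨push_le _ _ hx, mem_centralizer_iff.2 fun y hy => ?_⟩
    obtain ⟨u, hu, rfl⟩ := (mem_push e).1 hx
    obtain ⟨v, hv, rfl⟩ := (mem_push e).1 hy
    have h : v * u = u * v := Subtype.ext (mem_centralizer_iff.1 hu.2 _ hv)
    rw [← coe_mul, ← coe_mul, ← map_mul, ← map_mul, h]
  · intro hx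
    refine (mem_push e).2 ⟨e.symm ⟨x, hx.1⟩, ⟨(e.symm ⟨x, hx.1⟩).2, ?_⟩, by simp⟩
    refine mem_centralizer_iff.2 fun y hy => ?_
    have h1 := mem_centralizer_iff.1 hx.2 _ ((apply_mem_push e (x := ⟨y, hL hy⟩)).2 hy)
    have h2 : e ⟨y, hL hy⟩ * ⟨x, hx.1⟩ = ⟨x, hx.1⟩ * e ⟨y, hL hy⟩ := Subtype.ext h1
    have h3 := congrArg e.symm h2
    simp only [map_mul, e.symm_apply_apply] at h3
    exact congrArg Subtype.val h3

theorem card_eq_of_equiv (e : S ≃* T) : Nat.card T = Nat.card S :=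
  (Nat.card_congr e.toEquiv).symm

theorem push_omSub (p : ℕ) (e : S ≃* T) {L : Subgroup G} (hL : L ≤ S) :
    push e (omSub p L) ≤ omSub p (push e L) := by
  intro x hx
  obtain ⟨y, hy, rfl⟩ := (mem_push e).1 hx
  have h : omSub p L ≤ ((omSub p (push e L)).comap (T.subtype.comp e.toMonoidHom)).map S.subtype := by
    refine (closure_le _).2 fun z hz => ⟨⟨z, hL hz.1⟩, ?_, rfl⟩
    refine mem_omSub ((apply_mem_push e).2 hz.1) ?_
    show (e ⟨z, hL hz.1⟩ : H) ^ p = 1
    rw [← SubmonoidClass.coe_pow, ← map_pow,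
      show (⟨z, hL hz.1⟩ : S) ^ p = 1 from Subtype.ext hz.2, map_one, coe_one]
  obtain ⟨y', hy', e1⟩ := h hy
  rw [show y = y' from Subtype.ext e1.symm]
  exact hy'

variable [Finite G] [Finite H]

theorem card_omSub_push (p : ℕ) (e : S ≃* T) {L : Subgroup G} (hL : L ≤ S) :
    Nat.card (omSub p (push e L)) = Nat.card (omSub p L) := by
  refine le_antisymm ?_ ?_
  · have h := card_le_of_le (push_omSub p e.symm (push_le e L))
    rwa [push_symm_push e hL, card_push e.symm ((omSub_le _).trans (push_le e L))] at h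
  · have h := card_le_of_le (push_omSub p e hL)
    rwa [card_push e ((omSub_le L).trans hL)] at h

theorem IsOmLag.push {p : ℕ} (e : S ≃* T) {A : Subgroup G} (hA : IsOmLag p S A) :
    IsOmLag p T (push e A) := by
  refine ⟨hA.lag.push e, fun B hB => ?_⟩
  rw [card_omSub_push p e hA.lag.le, ← card_omSub_push p e.symm hB.le]
  exact hA.max _ (hB.push e.symm)

theorem Sat.push (h : Sat S) (e : S ≃* T) : Sat T := by
  have hz : Nat.card (zen T) = Nat.card (zen S) := by
    rw [← push_zen e]; exact card_push e inf_le_left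
  refine ⟨fun L hL => ?_, fun A hA => ?_⟩
  · rw [hz, card_eq_of_equiv e]
    refine le_trans (le_of_eq ?_) (h.bound _ (push_le e.symm L))
    rw [← push_inf_centralizer e.symm hL, card_push e.symm hL, card_push e.symm inf_le_left]
  · rw [hz, card_eq_of_equiv e, ← card_push e.symm hA.le]
    exact h.sq _ (hA.push e.symm)

theorem omSub_map_cj (p : ℕ) (A : Subgroup G) (g : G) :
    Nat.card (omSub p (A.map (cj g))) = Nat.card (omSub p A) := by
  have e : omSub p (A.map (cj g)) = (omSub p A).map (cj g) := by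
    rw [omSub, omSub, MonoidHom.map_closure]
    congr 1
    ext x
    constructor
    · rintro ⟨⟨y, hy, rfl⟩, hx⟩
      refine ⟨y, ⟨hy, ?_⟩, rfl⟩
      exact (MulAut.conj g).injective (show cj g (y ^ p) = cj g 1 by rw [map_pow, hx, map_one])
    · rintro ⟨y, ⟨hy, hyp⟩, rfl⟩
      exact ⟨mem_map_of_mem _ hy, by rw [← map_pow, hyp, map_one]⟩
  rw [e, card_map_cj]

theorem IsOmLag.map_conj {p : ℕ} {A : Subgroup G} (h : IsOmLag p S A) {g : G}
    (hg : A.map (cj g) ≤ S) : IsOmLag p S (A.map (cj g)) :=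
  ⟨h.lag.map_conj hg, fun B hB => (h.max B hB).trans_eq (omSub_map_cj p A g).symm⟩

theorem exists_omLag {p : ℕ} {A : Subgroup G} (hA : IsLag S A) : ∃ R, IsOmLag p S R := by
  obtain ⟨R, hR, hmax⟩ := Set.Finite.exists_maximalFor
    (f := fun R : Subgroup G => Nat.card (omSub p R)) {R : Subgroup G | IsLag S R} (Set.toFinite _)
    ⟨A, hA⟩
  refine ⟨R, hR, fun B hB => ?_⟩
  rcases le_total (Nat.card (omSub p B)) (Nat.card (omSub p R)) with h | h
  · exact h
  · exact hmax hB h

end Transport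

variable {P : Type u} [Group P] {G : Type u} [Group G] {S : Subgroup G}

/-- `P` as the improper subgroup, onto `S`. -/
abbrev toTop (e : P ≃* S) : (⊤ : Subgroup P) ≃* S := Subgroup.topEquiv.trans e

/-- The image in `G`. -/
abbrev img (e : P ≃* S) (L : Subgroup P) : Subgroup G :=
  L.map ((S.subtype).comp (e : P ≃* S).toMonoidHom)

theorem push_toTop (e : P ≃* S) (L : Subgroup P) : push (toTop e) L = img e L := by
  ext x
  rw [mem_push]
  constructor
  · rintro ⟨y, hy, rfl⟩; exact ⟨(y : P), hy, rfl⟩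
  · rintro ⟨y, hy, rfl⟩; exact ⟨⟨y, mem_top y⟩, hy, rfl⟩

theorem mem_pull_toTop (e : P ≃* S) (L : Subgroup G) (x : P) :
    x ∈ push (toTop e).symm L ↔ (e x : G) ∈ L :=
  apply_mem_pull (toTop e) (x := ⟨x, mem_top x⟩)

theorem img_top (e : P ≃* S) : img e ⊤ = S := by
  ext x
  refine ⟨?_, fun hx => ⟨e.symm ⟨x, hx⟩, mem_top _, by simp⟩⟩
  rintro ⟨y, -, rfl⟩
  exact (e y).2

theorem img_le (e : P ≃* S) (L : Subgroup P) : img e L ≤ S :=
  (Subgroup.map_mono le_top).trans (img_top e).le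

theorem zen_top : zen (⊤ : Subgroup P) = center P := by
  ext z
  simp [mem_centralizer_iff, mem_center_iff]

theorem img_center (e : P ≃* S) : img e (center P) = zen S := by
  rw [← zen_top, ← push_toTop, push_zen]

theorem img_conj (e : P ≃* S) {L : Subgroup P} [hL : L.Normal] {s x : G} (hs : s ∈ S)
    (hx : x ∈ img e L) : s * x * s⁻¹ ∈ img e L := by
  obtain ⟨y, hy, rfl⟩ := hx
  refine ⟨e.symm ⟨s, hs⟩ * y * (e.symm ⟨s, hs⟩)⁻¹, hL.conj_mem y hy _, ?_⟩
  simp

/-- The bound on the part of the Frattini subgroup. -/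
noncomputable def sigPart (p : ℕ) (P : Type u) [Group P] : Subgroup P :=
  (if p = 3 then ⁅⁅frattini P, (⊤ : Subgroup P)⁆, (⊤ : Subgroup P)⁆
    else ⁅frattini P, (⊤ : Subgroup P)⁆) ⊔ (frattini ↥(frattini P)).map (frattini P).subtype

/-- `D` is `O_p(G)` for a situation on `P` with `h > q`. -/
def Member (p : ℕ) [Fact p.Prime] (P : Type u) [Group P] (D : Subgroup P) : Prop :=
  ∃ (G : Type u) (_ : Group G) (_ : Finite G) (S : Subgroup G) (e : P ≃* S) (n : ℕ) (F : Type)
    (_ : Field F) (_ : Fintype F) (ψ : G →* PSLtwo F) (A : Subgroup G),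
    Base p S A n ψ ∧
      p ^ n < (wc p G).relIndex (uPart p A ⊔ centralizer (Cfsg.pCore p G : Set G)) ∧
      D = push (toTop e).symm (Cfsg.pCore p G)

/-- The intersection of the members. -/
def famCore (p : ℕ) [Fact p.Prime] (P : Type u) [Group P] : Subgroup P := sInf {D | Member p P D}

/-- The join of the `IsOmLag` subgroups in the intersection. -/
def famLag (p : ℕ) [Fact p.Prime] (P : Type u) [Group P] : Subgroup P :=
  sSup {R | IsOmLag p (⊤ : Subgroup P) R ∧ R ≤ famCore p P}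

variable {p : ℕ} [hp : Fact p.Prime] [Finite P] [Finite G]
  {F : Type} [Field F] [Fintype F] {n : ℕ} {A : Subgroup G} {ψ : G →* PSLtwo F}

theorem member_aut {D : Subgroup P} (h : Member p P D) (σ : P ≃* P) :
    Member p P (D.comap σ.toMonoidHom) := by
  obtain ⟨G, iG, iGf, S, e, n, F, iF, iFf, ψ, A, hb, hbig, rfl⟩ := h
  refine ⟨G, iG, iGf, S, σ.trans e, n, F, iF, iFf, ψ, A, hb, hbig, ?_⟩
  ext x
  rw [mem_comap, mem_pull_toTop, mem_pull_toTop]
  rfl

theorem famCore_comap (σ : P ≃* P) : famCore p P ≤ (famCore p P).comap σ.toMonoidHom := by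
  intro x hx
  rw [mem_comap, famCore, mem_sInf]
  intro D hD
  exact (mem_sInf.1 hx) _ (member_aut hD σ)

theorem characteristic_of_comap {L : Subgroup P} (h : ∀ σ : P ≃* P, L ≤ L.comap σ.toMonoidHom) :
    L.Characteristic := characteristic_iff_le_comap.2 h

instance famCore_characteristic : (famCore p P).Characteristic :=
  characteristic_of_comap famCore_comap

theorem omLag_aut {R : Subgroup P} (h : IsOmLag p (⊤ : Subgroup P) R) (σ : P ≃* P) :
    IsOmLag p (⊤ : Subgroup P) (R.map σ.toMonoidHom) := by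
  have e := h.push ((Subgroup.topEquiv.trans σ).trans Subgroup.topEquiv.symm)
  have he : GNiles.push ((Subgroup.topEquiv.trans σ).trans Subgroup.topEquiv.symm) R =
      R.map σ.toMonoidHom := by
    ext x
    rw [mem_push]
    constructor
    · rintro ⟨y, hy, rfl⟩; exact ⟨(y : P), hy, rfl⟩
    · rintro ⟨y, hy, rfl⟩; exact ⟨⟨y, mem_top y⟩, hy, rfl⟩
  rwa [he] at e

instance famLag_characteristic : (famLag p P).Characteristic := by
  refine characteristic_of_comap fun σ => sSup_le fun R hR => ?_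
  rw [← map_le_iff_le_comap]
  refine le_sSup (s := {R | IsOmLag p (⊤ : Subgroup P) R ∧ R ≤ famCore p P}) ⟨omLag_aut hR.1 σ, ?_⟩
  exact (Subgroup.map_mono hR.2).trans (map_le_iff_le_comap.2 (famCore_comap σ))

/-- `[O_p(G), O^p(G)]` lies in every member. -/
theorem xo_le_img_famCore (b : Base p S A n ψ) (e : P ≃* S) (hnt : ¬ xo p G ≤ wc p G) :
    xo p G ≤ img e (famCore p P) := by
  intro x hx
  have hxS : x ∈ S := b.ctx.setup.le_S (xo_le_pCore hx)
  refine ⟨e.symm ⟨x, hxS⟩, ?_, by simp⟩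
  show e.symm ⟨x, hxS⟩ ∈ famCore p P
  rw [famCore, mem_sInf]
  rintro D ⟨H, iH, iHf, T, f, m, F', iF, iFf, φ, B, hb, hbig, rfl⟩
  have hnt₂ : ¬ xo p H ≤ wc p H := fun h => by
    have h1 : hSq p H = 1 := relIndex_eq_one.2 h
    rw [hb.hSq_eq] at h1
    have := hb.ctx.setup.one_lt
    have h2 := Nat.eq_one_of_mul_eq_one_right h1
    omega
  have hle := xo_le_push b hb ((e.symm).trans f) hnt hnt₂ (Or.inr hbig) hx
  rw [mem_pull_toTop]
  exact (apply_mem_pull ((e.symm).trans f) (x := ⟨x, hxS⟩)).1 hle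

/-- The iteration: some `IsOmLag` subgroup lies in every member. -/
theorem exists_omLag_famCore (hsat : Sat (⊤ : Subgroup P)) (hZ : ∀ z ∈ center P, z ^ p = 1)
    {A₀ : Subgroup P} (hA₀ : IsLag (⊤ : Subgroup P) A₀) :
    ∃ R, IsOmLag p (⊤ : Subgroup P) R ∧ R ≤ famCore p P := by
  classical
  set bad : Subgroup P → ℕ := fun R => Nat.card {D : Subgroup P // Member p P D ∧ ¬ R ≤ D}
  obtain ⟨R, hR, hmin⟩ := Set.Finite.exists_minimalFor (f := bad)
    {R : Subgroup P | IsOmLag p (⊤ : Subgroup P) R} (Set.toFinite _) (exists_omLag hA₀)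
  refine ⟨R, hR, le_sInf fun D hD => ?_⟩
  by_contra hRD
  obtain ⟨H, iH, iHf, T, f, m, F', iF, iFf, φ, B, hb, hbig, rfl⟩ := hD
  set R₁ := push (toTop f) R
  have hR₁ : IsOmLag p T R₁ := hR.push (toTop f)
  have hR₁D : ¬ R₁ ≤ Cfsg.pCore p H := fun h => hRD fun x hx => by
    rw [mem_pull_toTop]
    exact h ((apply_mem_push (toTop f) (x := ⟨x, mem_top x⟩)).2 hx)
  have b₁ : Base p T R₁ m φ := ⟨hb.ctx, hsat.push (toTop f), hR₁.lag, hR₁D⟩
  set W := centralizer (Cfsg.pCore p H : Set H)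
  set R₂ := uPart p R₁ ⊔ W
  have hZT : ∀ z ∈ zen T, z ^ p = 1 := by
    intro z hz
    rw [← img_center f] at hz
    obtain ⟨y, hy, rfl⟩ := hz
    rw [← map_pow, hZ y hy, map_one]
  have hR₂ : IsOmLag p T R₂ := ⟨hb.ctx.lagUW hR₁.lag hR₁D, fun L hL =>
    (hR₁.max L hL).trans (b₁.omSub_uW hZT).1⟩
  set R' := push (toTop f).symm R₂
  have hR' : IsOmLag p (⊤ : Subgroup P) R' := hR₂.push (toTop f).symm
  have hR₂D : R₂ ≤ Cfsg.pCore p H := sup_le inf_le_right hb.ctx.W_le
  have hnt : ¬ xo p H ≤ wc p H := fun h => by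
    have h1 : hSq p H = 1 := relIndex_eq_one.2 h
    rw [hb.hSq_eq] at h1
    have := hb.ctx.setup.one_lt
    have h2 := Nat.eq_one_of_mul_eq_one_right h1
    refine absurd hbig (not_lt.2 (le_trans (le_of_eq ?_) hb.ctx.setup.one_lt.le))
    exact h2
  have hsub : ∀ D : Subgroup P, Member p P D ∧ ¬ R' ≤ D → Member p P D ∧ ¬ R ≤ D := by
    rintro D' ⟨hD', hnle⟩
    refine ⟨hD', fun hle => hnle ?_⟩
    have hW : W ≤ img f (famCore p P) := (b₁.W_le_xo).trans (sup_le
      (inf_le_left.trans (xo_le_img_famCore b₁ f hnt)) ?_)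
    · have hDfam : famCore p P ≤ D' := sInf_le hD'
      intro x hx
      rw [mem_pull_toTop] at hx
      have h2 : uPart p R₁ ⊔ W ≤ img f D' := sup_le (inf_le_left.trans
        ((push_toTop f R).le.trans (Subgroup.map_mono hle))) (hW.trans (Subgroup.map_mono hDfam))
      obtain ⟨y, hy, e1⟩ := h2 hx
      rwa [show x = y from f.injective (Subtype.ext e1.symm)]
    · intro z hz
      have hzT := hb.ctx.center_le_zen hz
      rw [← img_center f] at hzT
      obtain ⟨y, hy, rfl⟩ := hzT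
      refine ⟨y, ?_, rfl⟩
      show y ∈ famCore p P
      rw [famCore, mem_sInf]
      rintro _ ⟨H', iH', iHf', T', f', m', F'', iF', iFf', φ', B', hb', -, rfl⟩
      rw [mem_pull_toTop]
      exact hb'.ctx.zen_le_D ((img_center f').le ⟨y, hy, rfl⟩)
  have hlt : bad R' < bad R := by
    let incl : {D : Subgroup P // Member p P D ∧ ¬ R' ≤ D} → {D : Subgroup P // Member p P D ∧ ¬ R ≤ D} :=
      fun D => ⟨D.1, hsub D.1 D.2⟩
    refine lt_of_le_of_ne (Nat.card_le_card_of_injective incl fun a b h => Subtype.ext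
      (by simpa [incl] using congrArg Subtype.val h)) fun heq => ?_
    have hbij := (show Function.Injective incl from fun a b h => Subtype.ext
      (by simpa [incl] using congrArg Subtype.val h)).bijective_of_nat_card_le heq.ge
    obtain ⟨⟨D, hD⟩, hDe⟩ := hbij.2 ⟨push (toTop f).symm (Cfsg.pCore p H),
      ⟨H, iH, iHf, T, f, m, F', iF, iFf, φ, B, hb, hbig, rfl⟩, hRD⟩
    refine hD.2 ?_
    rw [show D = push (toTop f).symm (Cfsg.pCore p H) from congrArg Subtype.val hDe]
    exact push_mono _ hR₂D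
  exact absurd (hmin hR' hlt.le) (not_le.2 hlt)

theorem img_frattini_le (hP : IsPGroup p P) (e : P ≃* S) :
    img e (frattini P) ≤ phiS S ∧
      img e ((frattini ↥(frattini P)).map (frattini P).subtype) ≤
        (frattini ↥(phiS S)).map (phiS S).subtype := by
  have hS : IsPGroup p S := hP.of_equiv e
  have h1 : img e (frattini P) ≤ phiS S := by
    rw [map_le_iff_le_comap]
    refine PFrattini.frattini_le (p := p) ?_ fun x => ?_
    · rw [commutator_def, Subgroup.commutator_le]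
      intro x _ y _
      exact ⟨⁅e x, e y⁆, PFrattini.commutator_le_frattini (p := p) hS
        (commutator_mem_commutator (mem_top _) (mem_top _)), by simp [commutatorElement_def]⟩
    · exact ⟨e x ^ p, PFrattini.pow_mem_frattini hS _, by simp⟩
  refine ⟨h1, ?_⟩
  have hpS : IsPGroup p (phiS S) := hS.to_le (map_subtype_le _)
  rw [map_le_iff_le_comap]
  refine PFrattini.frattini_map_subtype_le (p := p) (Subgroup.commutator_le.2 fun x hx y hy => ?_)
    fun x hx => ?_
  · exact ⟨⁅(⟨_, h1 (mem_map_of_mem _ hx)⟩ : phiS S), ⟨_, h1 (mem_map_of_mem _ hy)⟩⁆,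
      PFrattini.commutator_le_frattini (p := p) hpS
        (commutator_mem_commutator (mem_top _) (mem_top _)), by simp [commutatorElement_def]⟩
  · exact ⟨(⟨_, h1 (mem_map_of_mem _ hx)⟩ : phiS S) ^ p, PFrattini.pow_mem_frattini hpS _, by simp⟩

theorem sigPart_le (hP : IsPGroup p P) (b : Base p S A n ψ) (e : P ≃* S)
    (hJ : S ≤ sSup {B | IsLag S B})
    (hq : (wc p G).relIndex (uPart p A ⊔ centralizer (Cfsg.pCore p G : Set G)) ≤ p ^ n)
    (hxp : ∀ x ∈ xo p G, x ^ p ∈ c0 p G) : img e (sigPart p P) ≤ c0 p G := by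
  have hDM := b.dmPart_eq hJ hq
  obtain ⟨h1, h2⟩ := img_frattini_le hP e
  obtain ⟨h3, h4⟩ := b.phi_class_three hDM hxp
  rw [sigPart, img, Subgroup.map_sup]
  refine sup_le ?_ (h2.trans h4)
  split
  · rw [map_commutator, map_commutator]
    exact (commutator_mono (commutator_mono h1 (img_top e).le) (img_top e).le).trans h3
  · rename_i hp3
    rw [map_commutator]
    refine (commutator_mono h1 (img_top e).le).trans (b.phi_class_two hDM hxp ?_)
    intro a ha d hd
    by_cases hp2 : p = 2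
    · exact b.comm_A_two hDM hxp hp2 ha hd
    · refine b.comm_A_five hDM hxp ?_ hq ha hd
      have h2 := hp.out.two_le
      by_contra hlt
      have h45 : p = 2 ∨ p = 3 ∨ p = 4 := by omega
      rcases h45 with h | h | h
      · exact hp2 h
      · exact hp3 h
      · exact absurd (h ▸ hp.out) (by norm_num)

/-- One of `Σ ∩ Z(P)` and `E(N)` is normal. -/
theorem family_normal (hP : IsPGroup p P) (hsat : Sat (⊤ : Subgroup P))
    (hJ : (⊤ : Subgroup P) ≤ sSup {R | IsLag (⊤ : Subgroup P) R})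
    (hZ : ∀ z ∈ center P, z ^ p = 1)
    (hel : ∀ R, IsOmLag p (⊤ : Subgroup P) R → (∀ r ∈ R, r ^ p = 1) ∨ p ≠ 2)
    (e : P ≃* S) (hsit : Cfsg.IsPushingUpSituation p S) :
    (img e (sigPart p P ⊓ center P)).Normal ∨ (img e (famLag p P)).Normal := by
  have hzle : img e (sigPart p P ⊓ center P) ≤ zen S :=
    (Subgroup.map_mono inf_le_right).trans (img_center e).le
  by_cases hn : (zen S).Normal
  · obtain ⟨M, n, F, iF, iFt, ψ, d⟩ := PushingUp.exists_data hsit
    exact Or.inl (d.normal_of_center_le hzle hn)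
  obtain ⟨n, F, iF, iFt, ψ, c⟩ := exists_ctx hsit hn
  set D := Cfsg.pCore p G
  have hsatS : Sat S := hsat.push (toTop e)
  have hJS : S ≤ sSup {B | IsLag S B} := by
    intro x hx
    have hle : img e ⊤ ≤ sSup {B | IsLag S B} := (Subgroup.map_mono hJ).trans (by
      rw [map_le_iff_le_comap]
      refine sSup_le fun R hR => ?_
      rw [← map_le_iff_le_comap]
      refine le_sSup (s := {B | IsLag S B}) ?_
      show IsLag S (img e R)
      rw [← push_toTop]
      exact hR.push (toTop e))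
    exact hle ((img_top e).ge hx)
  obtain ⟨A, hA, hAD⟩ : ∃ A, IsLag S A ∧ ¬ A ≤ D := by
    by_contra hcon
    push Not at hcon
    have hSD : S = D := le_antisymm (hJS.trans (sSup_le hcon)) c.setup.le_S
    apply hn
    haveI : S.Normal := hSD ▸ (inferInstance : D.Normal)
    infer_instance
  have b : Base p S A n ψ := ⟨c, hsatS, hA, hAD⟩
  set hv := (wc p G).relIndex (uPart p A ⊔ centralizer (D : Set G))
  have hgood : hv ≤ p ^ n → (∀ x ∈ xo p G, x ^ p ∈ c0 p G) →
      (img e (sigPart p P ⊓ center P)).Normal := by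
    intro hq hxp
    have hle : img e (sigPart p P ⊓ center P) ≤ center G := fun x hx =>
      (c.W_inf_c0 hA hAD).le ⟨c.zen_le_W (hzle hx),
        sigPart_le hP b e hJS hq hxp (Subgroup.map_mono inf_le_left hx)⟩
    exact ⟨fun x hx g => by rwa [mem_center_iff.1 (hle hx) g, mul_inv_cancel_right]⟩
  have hZS : ∀ z ∈ zen S, z ^ p = 1 := by
    intro z hz
    rw [← img_center e] at hz
    obtain ⟨y, hy, rfl⟩ := hz
    rw [← map_pow, hZ y hy, map_one]
  by_cases hcase : hv ≤ p ^ n ∧ (xo p G ≤ wc p G ∨ ∃ B, IsOmLag p S B ∧ ¬ B ≤ D)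
  · obtain ⟨hq, h | ⟨B, hB, hBD⟩⟩ := hcase
    · exact Or.inl (hgood hq (b.pow_xo_of_hSq hZS (relIndex_eq_one.2 h)))
    · refine Or.inl (hgood hq ?_)
      have bB : Base p S B n ψ := ⟨c, hsatS, hB.lag, hBD⟩
      rcases hel _ (hB.push (toTop e).symm) with h | h
      · refine bB.pow_xo_of_elementary fun a ha => ?_
        have h1 := h (e.symm ⟨a, hB.lag.le ha⟩) (by rw [mem_pull_toTop]; simpa using ha)
        have h2 : (⟨a, hB.lag.le ha⟩ : S) ^ p = 1 := by
          apply e.symm.injective; rw [map_pow, h1, map_one]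
        exact congrArg Subtype.val h2
      · obtain ⟨a, ha, haD⟩ := SetLike.not_le_iff_exists.1 hBD
        obtain ⟨o, ho, hop, hoa⟩ :=
          (bB.omSub_uW hZS).2 (hB.max _ (c.lagUW hB.lag hBD)) a ha
        refine bB.pow_xo_of_element h hZS ho (fun hD => haD ?_) hop
        have h2 : o⁻¹ * a ∈ D := hoa.2
        simpa using mul_mem hD h2
  -- `E(N)` is normal
  right
  have hnt : ¬ xo p G ≤ wc p G := fun h => by
    by_cases hq : hv ≤ p ^ n
    · exact hcase ⟨hq, Or.inl h⟩
    · apply hq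
      have h1 : hSq p G = 1 := relIndex_eq_one.2 h
      rw [b.hSq_eq] at h1
      have h2 : hv = 1 := Nat.eq_one_of_mul_eq_one_right h1
      rw [h2]; exact c.setup.one_lt.le
  set N := img e (famCore p P)
  have hxN : xo p G ≤ N := xo_le_img_famCore b e hnt
  have hN2 : (N ⊓ D).Normal := by
    refine Ctx.normal_of_sup (S := S) (K := opG p G) c.opG_sup (fun k hk x hx => ?_)
      fun s hs x hx => ⟨img_conj e hs hx.1, (inferInstance : D.Normal).conj_mem x hx.2 s⟩
    have h1 : ⁅k, x⁆ ∈ xo p G := by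
      rw [← commutatorElement_inv]; exact inv_mem (commutator_mem_commutator hx.2 hk)
    have h2 : ⁅k, x⁆ ∈ N ⊓ D := ⟨hxN h1, xo_le_pCore h1⟩
    rw [show k * x * k⁻¹ = ⁅k, x⁆ * x by rw [commutatorElement_def]; group]
    exact mul_mem h2 hx
  have hlagD : ∀ R, IsOmLag p (⊤ : Subgroup P) R → R ≤ famCore p P → img e R ≤ D := by
    intro R hR hRN
    by_cases hq : hv ≤ p ^ n
    · by_contra h
      exact hcase ⟨hq, Or.inr ⟨_, push_toTop e R ▸ hR.push (toTop e), h⟩⟩
    · have hmem : Member p P (push (toTop e).symm D) :=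
        ⟨G, inferInstance, inferInstance, S, e, n, F, iF, iFt, ψ, A, b, not_le.1 hq, rfl⟩
      rintro _ ⟨y, hy, rfl⟩
      exact (mem_pull_toTop e D y).1 ((hRN.trans (sInf_le hmem)) hy)
  refine ⟨fun x hx g => ?_⟩
  suffices h : (img e (famLag p P)).map (cj g) ≤ img e (famLag p P) from h (mem_map_of_mem _ hx)
  rw [map_map, map_le_iff_le_comap, famLag]
  refine sSup_le fun R hR => ?_
  rw [← map_le_iff_le_comap, ← map_map]
  set R₁ := (img e R).map (cj g)
  have hRle : img e R ≤ N ⊓ D := le_inf (Subgroup.map_mono hR.2) (hlagD R hR.1 hR.2)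
  haveI := hN2
  have hR₁le : R₁ ≤ N ⊓ D := (Subgroup.map_mono hRle).trans (map_cj_normal _ g).le
  have hR₁S : R₁ ≤ S := hR₁le.trans (inf_le_right.trans c.setup.le_S)
  have hR₁ : IsOmLag p S R₁ := (push_toTop e R ▸ hR.1.push (toTop e)).map_conj hR₁S
  intro y hy
  have hy' : y ∈ img e (push (toTop e).symm R₁) := by
    rw [← push_toTop, push_push_symm (toTop e) hR₁S]; exact hy
  refine Subgroup.map_mono (le_sSup (s := {R | IsOmLag p (⊤ : Subgroup P) R ∧ R ≤ famCore p P})
    ⟨hR₁.push (toTop e).symm, fun z hz => ?_⟩) hy'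
  rw [mem_pull_toTop] at hz
  obtain ⟨w, hw, e1⟩ := (hR₁le hz).1
  exact (e.injective (Subtype.ext e1) : w = z) ▸ hw

end Cfsg.Agent.Lib.GNiles
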