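import Mathlib
import Cfsg.Agent.Lib.GNiles.Family
/-!
The remaining cases for the pair `S₁`, `S₂`.
-/

set_option autoImplicit false
set_option linter.unusedSectionVars false

universe u

namespace Cfsg.Agent.Lib.GNiles

open Subgroup
open Cfsg.Agent.Lib
open Cfsg.Agent.Lib.SL2 (SLtwo PSLtwo)
open scoped commutatorElement

variable {p : ℕ} [hp : Fact p.Prime] {P : Type u} [Group P] [Finite P]

theorem mem_maxAbelian_iff {R : Subgroup P} :
    R ∈ Cfsg.maxAbelianSubgroups P ↔ IsLag (⊤ : Subgroup P) R := by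
  constructor
  · intro h
    exact ⟨le_top, le_centralizer_iff_isMulCommutative.2 h.1,
      fun B _ hB => h.2 B (le_centralizer_iff_isMulCommutative.1 hB)⟩
  · intro h
    exact ⟨le_centralizer_iff_isMulCommutative.1 h.comm,
      fun B hB => h.max B le_top (le_centralizer_iff_isMulCommutative.2 hB)⟩

theorem exists_lag : ∃ R : Subgroup P, IsLag (⊤ : Subgroup P) R := by
  obtain ⟨R, hR⟩ := CD.exists_mem_maxAbelianSubgroups (G := P)
  exact ⟨R, mem_maxAbelian_iff.1 hR⟩

theorem lag_ne_bot [Nontrivial P] {R : Subgroup P} (hR : IsLag (⊤ : Subgroup P) R) : R ≠ ⊥ := by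
  intro h
  obtain ⟨x, hx⟩ := exists_ne (1 : P)
  have h1 := hR.max (zpowers x) le_top (le_centralizer_iff_isMulCommutative.2 inferInstance)
  rw [h, card_bot, Nat.card_zpowers] at h1
  exact hx (orderOf_eq_one_iff.1 (le_antisymm h1 (orderOf_pos x)))

/-- A nontrivial normal subgroup of a `p`-group meets the centre. -/
theorem inf_center_ne_bot (hP : IsPGroup p P) {L : Subgroup P} [hn : L.Normal] (hL : L ≠ ⊥) :
    L ⊓ center P ≠ ⊥ := by
  intro h
  obtain ⟨k, hk, hk1, hks⟩ := exists_fixed_mod (hP.to_subgroup (⊤ : Subgroup P)) (P := ⊤) le_rfl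
    (K := L) (H := ⊥) le_top (fun h => hL (le_bot_iff.1 h)) fun x hx s _ => by
      rw [show ⁅x, s⁆ = x * (s * x⁻¹ * s⁻¹) by rw [commutatorElement_def]; group]
      exact mul_mem hx (hn.conj_mem _ (inv_mem hx) s)
  refine hk1 (h.le ⟨hk, mem_center_iff.2 fun g => ?_⟩)
  exact (commutatorElement_eq_one_iff_mul_comm.1 (mem_bot.1 (hks g (mem_top g)))).symm

/-- The join of an invariant family is characteristic. -/
theorem characteristic_sSup {Q : Set (Subgroup P)}
    (h : ∀ σ : P ≃* P, ∀ R ∈ Q, R.map σ.toMonoidHom ∈ Q) : (sSup Q).Characteristic := by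
  refine characteristic_of_comap fun σ => sSup_le fun R hR => ?_
  rw [← map_le_iff_le_comap]
  exact le_sSup (h σ R hR)

theorem characteristic_subgroupOf_top {L T : Subgroup P} (hT : T = ⊤) (hL : L.Characteristic) :
    (L.subgroupOf T).Characteristic := by
  subst hT
  refine characteristic_iff_le_comap.2 fun σ x hx => ?_
  have h1 := (characteristic_iff_le_comap.1 hL)
    ((Subgroup.topEquiv.symm.trans σ).trans Subgroup.topEquiv)
  have h2 := h1 (show (x : P) ∈ L from hx)
  rw [mem_comap] at h2 ⊢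
  rw [mem_subgroupOf]
  exact h2

theorem lag_aut {R : Subgroup P} (h : IsLag (⊤ : Subgroup P) R) (σ : P ≃* P) :
    IsLag (⊤ : Subgroup P) (R.map σ.toMonoidHom) := by
  rw [← mem_maxAbelian_iff] at h ⊢
  refine ⟨le_centralizer_iff_isMulCommutative.1 ?_, fun B hB => ?_⟩
  · rintro _ ⟨x, hx, rfl⟩
    refine mem_centralizer_iff.2 ?_
    rintro _ ⟨y, hy, rfl⟩
    rw [← map_mul, ← map_mul,
      mem_centralizer_iff.1 (le_centralizer_iff_isMulCommutative.2 h.1 hx) y hy]
  · rw [card_map_of_injective (f := σ.toMonoidHom) σ.injective]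
    exact h.2 B hB

theorem thompsonA_eq : Cfsg.thompsonSubgroupA P = sSup {R | IsLag (⊤ : Subgroup P) R} := by
  rw [Cfsg.thompsonSubgroupA]
  congr 1
  ext R
  exact mem_maxAbelian_iff

theorem thompsonA_characteristic : (Cfsg.thompsonSubgroupA P).Characteristic := by
  rw [thompsonA_eq]
  exact characteristic_sSup fun σ R hR => lag_aut hR σ

theorem inf_centralizer_characteristic {L : Subgroup P} (hL : L.Characteristic) :
    (L ⊓ centralizer (L : Set P)).Characteristic := by
  refine characteristic_of_comap fun σ x hx => ?_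
  refine ⟨characteristic_iff_le_comap.1 hL σ hx.1, mem_centralizer_iff.2 fun y hy => ?_⟩
  have h1 : σ.symm y ∈ L := characteristic_iff_le_comap.1 hL σ.symm hy
  have h2 := congrArg σ (mem_centralizer_iff.1 hx.2 _ h1)
  rwa [map_mul, map_mul, σ.apply_symm_apply] at h2

theorem inf_characteristic {L L' : Subgroup P} (hL : L.Characteristic) (hL' : L'.Characteristic) :
    (L ⊓ L').Characteristic :=
  characteristic_of_comap fun σ _ hx =>
    ⟨characteristic_iff_le_comap.1 hL σ hx.1, characteristic_iff_le_comap.1 hL' σ hx.2⟩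

theorem commutator_characteristic' {L L' : Subgroup P} (hL : L.Characteristic)
    (hL' : L'.Characteristic) : ⁅L, L'⁆.Characteristic := by
  refine characteristic_of_comap fun σ => ?_
  rw [← map_le_iff_le_comap, map_commutator]
  exact commutator_mono (map_le_iff_le_comap.2 (characteristic_iff_le_comap.1 hL σ))
    (map_le_iff_le_comap.2 (characteristic_iff_le_comap.1 hL' σ))

theorem powerClosure_characteristic {L : Subgroup P} (hL : L.Characteristic) :
    (Cfsg.powerClosure p 1 L).Characteristic := by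
  refine characteristic_of_comap fun σ => (closure_le _).2 ?_
  rintro _ ⟨x, hx, rfl⟩
  exact subset_closure ⟨σ x, characteristic_iff_le_comap.1 hL σ hx, by simp⟩

theorem frattini_frattini_characteristic (hP : IsPGroup p P) :
    ((frattini ↥(frattini P)).map (frattini P).subtype).Characteristic := by
  have hchar : (frattini P).Characteristic := frattini_characteristic
  refine characteristic_of_comap fun σ => ?_
  have hΦ : IsPGroup p (frattini P) := hP.to_subgroup _
  refine PFrattini.frattini_map_subtype_le (p := p) (Subgroup.commutator_le.2 fun x hx y hy => ?_)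
    fun x hx => ?_
  · have hx' : σ x ∈ frattini P := characteristic_iff_le_comap.1 hchar σ hx
    have hy' : σ y ∈ frattini P := characteristic_iff_le_comap.1 hchar σ hy
    exact ⟨⁅(⟨σ x, hx'⟩ : frattini P), ⟨σ y, hy'⟩⁆, PFrattini.commutator_le_frattini (p := p) hΦ
      (commutator_mem_commutator (mem_top _) (mem_top _)), by simp [commutatorElement_def]⟩
  · have hx' : σ x ∈ frattini P := characteristic_iff_le_comap.1 hchar σ hx
    exact ⟨(⟨σ x, hx'⟩ : frattini P) ^ p, PFrattini.pow_mem_frattini hΦ _, by simp⟩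

theorem sigPart_characteristic (hP : IsPGroup p P) : (sigPart p P).Characteristic := by
  have h1 : (frattini P).Characteristic := frattini_characteristic
  have h2 : (⊤ : Subgroup P).Characteristic := inferInstance
  have h3 := frattini_frattini_characteristic (p := p) hP
  refine characteristic_of_comap fun σ => sup_le ?_ ?_
  · refine le_trans ?_ (comap_mono le_sup_left)
    split
    · exact characteristic_iff_le_comap.1
        (commutator_characteristic' (commutator_characteristic' h1 h2) h2) σ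
    · exact characteristic_iff_le_comap.1 (commutator_characteristic' h1 h2) σ
  · exact (characteristic_iff_le_comap.1 h3 σ).trans (comap_mono le_sup_right)

/-- Minimal centrally large subgroups along an isomorphism. -/
theorem mcl_map {H K : Type*} [Group H] [Group K] [Finite H] [Finite K] (e : H ≃* K) {Y : Subgroup H}
    (hY : Cfsg.IsMinimalCentrallyLarge Y) : Cfsg.IsMinimalCentrallyLarge (Y.map e.toMonoidHom) := by
  have hm : Cfsg.maxCentralProduct K = Cfsg.maxCentralProduct H := by
    unfold Cfsg.maxCentralProduct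
    congr 1
    ext k
    constructor
    · rintro ⟨R, hR⟩
      refine ⟨R.map e.symm.toMonoidHom, ?_⟩
      rwa [PushingUp.measure_map (f := e.symm.toMonoidHom) e.symm.injective]
    · rintro ⟨R, hR⟩
      refine ⟨R.map e.toMonoidHom, ?_⟩
      rwa [PushingUp.measure_map (f := e.toMonoidHom) e.injective]
  have hcl : ∀ R : Subgroup H, Cfsg.IsCentrallyLarge (R.map e.toMonoidHom) ↔
      Cfsg.IsCentrallyLarge R := fun R => by
    unfold Cfsg.IsCentrallyLarge
    rw [PushingUp.measure_map (f := e.toMonoidHom) e.injective, hm]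
  refine ⟨(hcl Y).2 hY.1, fun R hR hRC => ?_⟩
  have hRe : (R.comap e.toMonoidHom).map e.toMonoidHom = R := map_comap_eq_self_of_surjective e.surjective R
  rw [← hRe] at hRC ⊢
  rw [hY.2 _ (fun x hx => ?_) ((hcl _).1 hRC)]
  obtain ⟨y, hy, e1⟩ := hR hx
  exact e.injective e1 ▸ hy

theorem maxOmega_equiv {H K : Type*} [Group H] [Group K] [Finite H] [Finite K] (e : H ≃* K) :
    Cfsg.maxOmegaCenterOfMinimalCL p K = Cfsg.maxOmegaCenterOfMinimalCL p H := by
  unfold Cfsg.maxOmegaCenterOfMinimalCL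
  congr 1
  ext k
  constructor
  · rintro ⟨Q, hQ, hk⟩
    refine ⟨Q.map e.symm.toMonoidHom, mcl_map e.symm hQ, ?_⟩
    rwa [PushingUp.omegaOneCenter_map (f := e.symm.toMonoidHom) e.symm.injective,
      card_map_of_injective (f := e.symm.toMonoidHom) e.symm.injective]
  · rintro ⟨Q, hQ, hk⟩
    refine ⟨Q.map e.toMonoidHom, mcl_map e hQ, ?_⟩
    rwa [PushingUp.omegaOneCenter_map (f := e.toMonoidHom) e.injective,
      card_map_of_injective (f := e.toMonoidHom) e.injective]

theorem frattiniJoin_map {H K : Type*} [Group H] [Group K] [Finite H] [Finite K] (hH : IsPGroup p H)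
    (e : H ≃* K) : (Cfsg.frattiniOfMinimalCLJoin p H).map e.toMonoidHom ≤
      Cfsg.frattiniOfMinimalCLJoin p K := by
  rw [map_le_iff_le_comap, Cfsg.frattiniOfMinimalCLJoin, iSup_le_iff]
  rintro ⟨Q, hQ, hQm⟩
  rw [← map_le_iff_le_comap, ← PushingUp.frattini_map_hom hH (f := e.toMonoidHom) e.injective]
  refine le_iSup (fun Q : {Q : Subgroup K // Cfsg.IsMinimalCentrallyLarge Q ∧
    Nat.card ↥(Cfsg.omegaOneCenter p Q) = Cfsg.maxOmegaCenterOfMinimalCL p K} =>
      (frattini ↥(Q : Subgroup K)).map (Q : Subgroup K).subtype) ⟨_, mcl_map e hQ, ?_⟩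
  rw [PushingUp.omegaOneCenter_map (f := e.toMonoidHom) e.injective,
    card_map_of_injective (f := e.toMonoidHom) e.injective, maxOmega_equiv e, hQm]

theorem mclJoin_map {H K : Type*} [Group H] [Group K] [Finite H] [Finite K] (e : H ≃* K) :
    (Cfsg.minimalCentrallyLargeJoin H).map e.toMonoidHom ≤ Cfsg.minimalCentrallyLargeJoin K := by
  rw [map_le_iff_le_comap, Cfsg.minimalCentrallyLargeJoin, sSup_le_iff]
  intro Q hQ
  rw [← map_le_iff_le_comap]
  exact le_sSup (s := {R : Subgroup K | Cfsg.IsMinimalCentrallyLarge R}) (mcl_map e hQ)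

theorem map_join_eq {H K : Type*} [Group H] [Group K] {J : Subgroup H} {J' : Subgroup K} (e : H ≃* K)
    (h : J.map e.toMonoidHom ≤ J') (h' : J'.map e.symm.toMonoidHom ≤ J) :
    J.map e.toMonoidHom = J' := by
  refine le_antisymm h fun x hx => ⟨e.symm x, h' (mem_map_of_mem _ hx), by simp⟩

section Verify

variable {G : Type u} [Group G] [Finite G] {S : Subgroup G} (e : P ≃* S)
  (hsit : Cfsg.IsPushingUpSituation p S)

include hsit

theorem img_normal_of_center_le {L : Subgroup P} (hL : L ≤ center P) (hn : (zen S).Normal) :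
    (img e L).Normal := by
  obtain ⟨M, n, F, iF, iFt, ψ, d⟩ := PushingUp.exists_data hsit
  exact d.normal_of_center_le ((Subgroup.map_mono hL).trans (img_center e).le) hn

theorem pCore_le_of_sit : Cfsg.pCore p G ≤ S := by
  obtain ⟨M, n, F, iF, iFt, ψ, d⟩ := PushingUp.exists_data hsit
  exact d.pCore_le

/-- An abelian `P`. -/
theorem case_abelian (hab : IsMulCommutative P) : (img e ⊤).Normal := by
  have hc : Cfsg.pCore p G = S := by
    obtain ⟨M, n, F, iF, iFt, ψ, d⟩ := PushingUp.exists_data hsit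
    refine le_antisymm d.pCore_le (fun x hx => d.cent (mem_centralizer_iff.2 fun y hy => ?_))
    have h1 : e.symm ⟨y, d.pCore_le hy⟩ * e.symm ⟨x, hx⟩ =
        e.symm ⟨x, hx⟩ * e.symm ⟨y, d.pCore_le hy⟩ := hab.is_comm.comm _ _
    rw [← map_mul, ← map_mul] at h1
    exact congrArg Subtype.val (e.symm.injective h1)
  rw [img_top, ← hc]
  infer_instance

/-- Conjugates of abelian subgroups of largest order inside `O_p(G)`. -/
theorem img_sSup_normal {Q : Set (Subgroup P)}
    (hQ : ∀ R₁ : Subgroup G, R₁ ≤ Cfsg.pCore p G →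
      (∃ R ∈ Q, ∃ g : G, R₁ = (img e R).map (cj g)) → push (toTop e).symm R₁ ∈ Q)
    (hD : ∀ R ∈ Q, img e R ≤ Cfsg.pCore p G) : (img e (sSup Q)).Normal := by
  refine ⟨fun x hx g => ?_⟩
  suffices h : (img e (sSup Q)).map (cj g) ≤ img e (sSup Q) from h (mem_map_of_mem _ hx)
  rw [map_map, map_le_iff_le_comap]
  refine sSup_le fun R hR => ?_
  rw [← map_le_iff_le_comap, ← map_map]
  set R₁ := (img e R).map (cj g)
  have hR₁D : R₁ ≤ Cfsg.pCore p G := (Subgroup.map_mono (hD R hR)).trans (map_cj_normal _ g).le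
  have hR₁S : R₁ ≤ S := hR₁D.trans (pCore_le_of_sit hsit)
  rw [← push_push_symm (toTop e) hR₁S, push_toTop]
  exact Subgroup.map_mono (le_sSup (hQ R₁ hR₁D ⟨R, hR, g, rfl⟩))

theorem lag_of_conj {R : Subgroup P} (hR : IsLag (⊤ : Subgroup P) R) {g : G}
    (hD : (img e R).map (cj g) ≤ Cfsg.pCore p G) :
    IsLag (⊤ : Subgroup P) (push (toTop e).symm ((img e R).map (cj g))) :=
  ((push_toTop e R ▸ hR.push (toTop e)).map_conj (hD.trans (pCore_le_of_sit hsit))).push _

/-- `[Z(J), P] ∩ Z(P)` or `J`. -/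
theorem case_centerJ :
    (img e (⁅Cfsg.thompsonSubgroupA P ⊓ centralizer (Cfsg.thompsonSubgroupA P : Set P),
        (⊤ : Subgroup P)⁆ ⊓ center P)).Normal ∨ (img e (Cfsg.thompsonSubgroupA P)).Normal := by
  set J := Cfsg.thompsonSubgroupA P
  by_cases hn : (zen S).Normal
  · exact Or.inl (img_normal_of_center_le e hsit inf_le_right hn)
  obtain ⟨n, F, iF, iFt, ψ, c⟩ := exists_ctx hsit hn
  by_cases hall : ∀ R, IsLag (⊤ : Subgroup P) R → img e R ≤ Cfsg.pCore p G
  · right
    rw [show J = sSup {R | IsLag (⊤ : Subgroup P) R} from thompsonA_eq]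
    exact img_sSup_normal e hsit (fun R₁ hR₁ ⟨R, hR, g, hg⟩ => by
      subst hg; exact lag_of_conj e hsit hR hR₁) hall
  push Not at hall
  obtain ⟨R, hR, hRD⟩ := hall
  left
  set Y := img e (J ⊓ centralizer (J : Set P))
  have hA : IsLag S (img e R) := push_toTop e R ▸ hR.push (toTop e)
  have hle := c.comm_inf_le_center hA hRD (Y := Y) (fun B hB y hy => by
    obtain ⟨v, hv, rfl⟩ := hy
    refine hB.cent (e v).2 fun b hb => ?_
    have hb' : e.symm ⟨b, hB.le hb⟩ ∈ J := by
      rw [show J = sSup {R | IsLag (⊤ : Subgroup P) R} from thompsonA_eq]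
      refine mem_sSup_of_mem (hB.push (toTop e).symm) ?_
      rw [mem_pull_toTop]
      simpa using hb
    have h1 := congrArg e (mem_centralizer_iff.1 hv.2 _ hb')
    rw [map_mul, map_mul, e.apply_symm_apply] at h1
    exact congrArg Subtype.val h1) (fun s hs y hy => by
    haveI : (J ⊓ centralizer (J : Set P)).Characteristic :=
      inf_centralizer_characteristic thompsonA_characteristic
    exact img_conj e hs hy)
  have hle2 : img e (⁅J ⊓ centralizer (J : Set P), (⊤ : Subgroup P)⁆ ⊓ center P) ≤ center G := by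
    refine le_trans (le_inf ?_ ((Subgroup.map_mono inf_le_right).trans (img_center e).le)) hle
    refine (Subgroup.map_mono inf_le_left).trans ?_
    rw [map_commutator]
    exact commutator_mono le_rfl (img_top e).le
  exact ⟨fun x hx g => by rwa [mem_center_iff.1 (hle2 hx) g, mul_inv_cancel_right]⟩

/-- `Z(P) ∩ Q'` or the join of the minimal centrally large subgroups. -/
theorem case_mcl {Q : Subgroup P} (hQ : Cfsg.IsMinimalCentrallyLarge Q) :
    (img e (center P ⊓ ⁅Q, Q⁆)).Normal ∨ (img e (Cfsg.minimalCentrallyLargeJoin P)).Normal := by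
  obtain ⟨M, n, F, iF, iFt, ψ, d⟩ := PushingUp.exists_data hsit
  rcases d.inf_commutator_or_join_normal (Q := Q.map e.toMonoidHom) (mcl_map e hQ) with h | h
  · left
    have e1 : img e (center P ⊓ ⁅Q, Q⁆) =
        (S ⊓ centralizer (S : Set G)) ⊓ (⁅Q.map e.toMonoidHom, Q.map e.toMonoidHom⁆).map S.subtype := by
      rw [← map_commutator, ← show zen S = S ⊓ centralizer (S : Set G) from rfl, ← img_center e,
        img, map_inf _ _ _ (fun a b hab => e.injective (S.subtype_injective hab)), map_map]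
    rwa [e1]
  · right
    rw [img, ← map_map]
    rwa [map_join_eq e (mclJoin_map e) (mclJoin_map e.symm)]

/-- `Z(P)` or the join of the Frattini subgroups. -/
theorem case_frattini (hP : IsPGroup p P) :
    (img e (center P)).Normal ∨ (img e (Cfsg.frattiniOfMinimalCLJoin p P)).Normal := by
  obtain ⟨M, n, F, iF, iFt, ψ, d⟩ := PushingUp.exists_data hsit
  rcases d.center_or_frattiniJoin_normal with h | h
  · left; rw [img_center]; exact h
  · right
    rw [img, ← map_map]
    rwa [map_join_eq e (frattiniJoin_map hP e) (frattiniJoin_map (hP.of_equiv e) e.symm)]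

/-- `℧¹(Z(P))` or `P`. -/
theorem case_center (hJ : (⊤ : Subgroup P) ≤ sSup {R | IsLag (⊤ : Subgroup P) R}) :
    (img e (Cfsg.powerClosure p 1 (center P))).Normal ∨ (img e ⊤).Normal := by
  have hle : Cfsg.powerClosure p 1 (center P) ≤ center P := (closure_le _).2 (by
    rintro _ ⟨x, hx, rfl⟩; exact pow_mem hx _)
  by_cases hn : (zen S).Normal
  · exact Or.inl (img_normal_of_center_le e hsit hle hn)
  obtain ⟨n, F, iF, iFt, ψ, c⟩ := exists_ctx hsit hn
  by_cases hall : ∀ R, IsLag (⊤ : Subgroup P) R → img e R ≤ Cfsg.pCore p G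
  · right
    have h := img_sSup_normal e hsit (Q := {R | IsLag (⊤ : Subgroup P) R})
      (fun R₁ hR₁ ⟨R, hR, g, hg⟩ => by subst hg; exact lag_of_conj e hsit hR hR₁) hall
    rwa [le_antisymm le_top hJ] at h
  push Not at hall
  obtain ⟨R, hR, hRD⟩ := hall
  left
  have e1 : img e (Cfsg.powerClosure p 1 (center P)) = Cfsg.powerClosure p 1 (zen S) := by
    rw [img, Cfsg.powerClosure, Cfsg.powerClosure, MonoidHom.map_closure, ← img_center e]
    congr 1
    ext x
    constructor
    · rintro ⟨_, ⟨z, hz, rfl⟩, rfl⟩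
      exact ⟨_, mem_map_of_mem _ hz, map_pow _ z _⟩
    · rintro ⟨_, ⟨z, hz, rfl⟩, rfl⟩
      exact ⟨z ^ p ^ 1, ⟨z, hz, rfl⟩, map_pow _ z _⟩
  rw [e1]
  exact c.powerClosure_zen_normal (push_toTop e R ▸ hR.push (toTop e)) hRD

omit hsit in
/-- In class two `(o d)^k = o^k d^k [d, o]^{k choose 2}`. -/
theorem mul_pow_class_two {o d : G} (h : ∀ x ∈ S, ⁅d, o⁆ * x = x * ⁅d, o⁆) (ho : o ∈ S)
    (hd : d ∈ S) (k : ℕ) : (o * d) ^ k = o ^ k * d ^ k * ⁅d, o⁆ ^ k.choose 2 := by
  set c := ⁅d, o⁆
  have hdo : d * o = o * d * c := by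
    rw [mul_assoc, ← h d hd, ← mul_assoc, ← h o ho]; simp [c, commutatorElement_def, mul_assoc]
  have hdk : ∀ j : ℕ, d ^ j * o = o * d ^ j * c ^ j := by
    intro j
    induction j with
    | zero => simp
    | succ j ih =>
      calc d ^ (j + 1) * o = d * (d ^ j * o) := by rw [pow_succ', mul_assoc]
        _ = (d * o) * d ^ j * c ^ j := by rw [ih]; group
        _ = o * d * (c * d ^ j) * c ^ j := by rw [hdo]; group
        _ = o * d * (d ^ j * c) * c ^ j := by rw [h _ (pow_mem hd j)]
        _ = _ := by rw [pow_succ' d, pow_succ' c]; group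
  induction k with
  | zero => simp
  | succ k ih =>
    have h1 : c ^ k.choose 2 * o = o * c ^ k.choose 2 := (show Commute c o from h o ho).pow_left _
    have h2 : c ^ k.choose 2 * d = d * c ^ k.choose 2 := (show Commute c d from h d hd).pow_left _
    have h3 : c ^ k * d = d * c ^ k := (show Commute c d from h d hd).pow_left _
    calc (o * d) ^ (k + 1) = o ^ k * d ^ k * (c ^ k.choose 2 * o) * d := by rw [pow_succ, ih]; group
      _ = o ^ k * (d ^ k * o) * (c ^ k.choose 2 * d) := by rw [h1]; group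
      _ = o ^ k * o * d ^ k * (c ^ k * d) * c ^ k.choose 2 := by rw [hdk, h2]; group
      _ = o ^ (k + 1) * (d ^ k * d) * (c ^ k * c ^ k.choose 2) := by rw [h3, pow_succ o]; group
      _ = _ := by
        rw [Nat.choose_succ_succ, Nat.choose_one_right, pow_add c k, pow_succ d]

/-- `℧¹(P)` or the join of the `IsOmLag` subgroups, for `p > 2` and `Φ(P) ≤ Z(P)`. -/
theorem case_power (hp2 : p ≠ 2) (hP : IsPGroup p P) (hsat : Sat (⊤ : Subgroup P))
    (hJ : (⊤ : Subgroup P) ≤ sSup {R | IsLag (⊤ : Subgroup P) R})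
    (hZ : ∀ z ∈ center P, z ^ p = 1) (hΦ : frattini P ≤ center P) :
    (img e (Cfsg.powerClosure p 1 (⊤ : Subgroup P))).Normal ∨
      (img e (sSup {R | IsOmLag p (⊤ : Subgroup P) R})).Normal := by
  have hle : Cfsg.powerClosure p 1 (⊤ : Subgroup P) ≤ center P := (closure_le _).2 (by
    rintro _ ⟨x, -, rfl⟩; rw [pow_one]; exact hΦ (PFrattini.pow_mem_frattini hP x))
  by_cases hn : (zen S).Normal
  · exact Or.inl (img_normal_of_center_le e hsit hle hn)
  obtain ⟨n, F, iF, iFt, ψ, c⟩ := exists_ctx hsit hn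
  set D := Cfsg.pCore p G
  by_cases hall : ∀ R, IsOmLag p (⊤ : Subgroup P) R → img e R ≤ D
  · right
    exact img_sSup_normal e hsit (fun R₁ hR₁ ⟨R, hR, g, hg⟩ => by
      subst hg
      exact ((push_toTop e R ▸ hR.push (toTop e)).map_conj
        (hR₁.trans c.setup.le_S)).push (toTop e).symm) hall
  push Not at hall
  obtain ⟨R, hR, hRD⟩ := hall
  left
  have hA : IsOmLag p S (img e R) := push_toTop e R ▸ hR.push (toTop e)
  have b : Base p S (img e R) n ψ := ⟨c, hsat.push (toTop e), hA.lag, hRD⟩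
  have hZS : ∀ z ∈ zen S, z ^ p = 1 := by
    intro z hz
    rw [← img_center e] at hz
    obtain ⟨y, hy, rfl⟩ := hz
    rw [← map_pow, hZ y hy, map_one]
  have hcomm : ∀ s ∈ S, ∀ t ∈ S, ⁅s, t⁆ ∈ zen S := fun s hs t ht => by
    rw [← img_center e]
    exact ⟨⁅e.symm ⟨s, hs⟩, e.symm ⟨t, ht⟩⁆, hΦ (PFrattini.commutator_le_frattini (p := p) hP
      (commutator_mem_commutator (mem_top _) (mem_top _))), by simp [commutatorElement_def]⟩
  obtain ⟨a, ha, haD⟩ := SetLike.not_le_iff_exists.1 hRD
  have hwc : xo p G ≤ wc p G := b.xo_le_wc_of_comm ha haD fun x hx =>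
    hcomm a (hA.lag.le ha) x (c.setup.le_S (xo_le_pCore hx))
  have h1 : hSq p G = 1 := relIndex_eq_one.2 hwc
  have hxp := b.pow_xo_of_hSq hZS h1
  rw [b.hSq_eq] at h1
  have hJS : S ≤ sSup {B | IsLag S B} := by
    intro x hx
    have h2 : img e ⊤ ≤ sSup {B | IsLag S B} := (Subgroup.map_mono hJ).trans (by
      rw [map_le_iff_le_comap]
      refine sSup_le fun R' hR' => ?_
      rw [← map_le_iff_le_comap]
      exact le_sSup (s := {B | IsLag S B})
        (show IsLag S (img e R') from push_toTop e R' ▸ hR'.push (toTop e)))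
    exact h2 ((img_top e).ge hx)
  have hq : (wc p G).relIndex (uPart p (img e R) ⊔ centralizer (D : Set G)) ≤ p ^ n := by
    rw [Nat.eq_one_of_mul_eq_one_right h1]; exact c.setup.one_lt.le
  have hDM := b.dmPart_eq hJS hq
  have hkey : img e (Cfsg.powerClosure p 1 (⊤ : Subgroup P)) ≤ center G := by
    rw [img, map_le_iff_le_comap, Cfsg.powerClosure, closure_le]
    rintro _ ⟨x, -, rfl⟩
    show (S.subtype.comp e.toMonoidHom) (x ^ p ^ 1) ∈ center G
    rw [map_pow, pow_one]
    show (e x : G) ^ p ∈ center G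
    obtain ⟨a', ha', d, hd, he⟩ := c.exists_mul hA.lag hRD (e x).2
    obtain ⟨o, ho, hop, hoa⟩ := (b.omSub_uW hZS).2 (hA.max _ (c.lagUW hA.lag hRD)) a' ha'
    set d' := o⁻¹ * a' * d
    have hd' : d' ∈ D := mul_mem hoa.2 hd
    have hdS := c.setup.le_S hd'
    have hcc := hcomm d' hdS o (hA.lag.le ho)
    have e2 : (e x : G) = o * d' := by rw [← he]; simp [d', mul_assoc]
    have e3 : (e x : G) ^ p = d' ^ p := by
      rw [e2, mul_pow_class_two (fun y hy => (mem_centralizer_iff.1 hcc.2 y hy).symm) (hA.lag.le ho)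
        hdS p, hop, one_mul]
      obtain ⟨j, hj⟩ := hp.out.dvd_choose_self two_ne_zero
        (lt_of_le_of_ne hp.out.two_le (Ne.symm hp2))
      rw [hj, pow_mul, hZS _ hcc, one_pow, mul_one]
    rw [← c.W_inf_c0 hA.lag hRD, e3]
    refine ⟨c.zen_le_W ?_, b.pow_pCore_mem hDM hxp hd'⟩
    rw [← e3, ← img_center e]
    exact ⟨x ^ p, hΦ (PFrattini.pow_mem_frattini hP x), by simp⟩
  exact ⟨fun x hx g => by rwa [mem_center_iff.1 (hkey hx) g, mul_inv_cancel_right]⟩

end Verify

end Cfsg.Agent.Lib.GNiles
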