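import Mathlib
import Cfsg.Agent.Lib.GNiles.Cases
/-!
The pair of characteristic subgroups, assembled from the cases.
-/

set_option autoImplicit false
set_option linter.unusedSectionVars false

universe u

namespace Cfsg.Agent.Lib.GNiles

open Subgroup
open Cfsg.Agent.Lib
open scoped commutatorElement Pointwise

variable {p : ℕ} [hp : Fact p.Prime] {P : Type u} [Group P] [Finite P]

/-- `J(P)` is characteristic in any subgroup containing it. -/
theorem thompsonA_subgroupOf_characteristic {T : Subgroup P} (hJT : Cfsg.thompsonSubgroupA P ≤ T) :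
    ((Cfsg.thompsonSubgroupA P).subgroupOf T).Characteristic := by
  refine characteristic_iff_le_comap.2 fun σ => ?_
  have key : Cfsg.thompsonSubgroupA P ≤
      (((Cfsg.thompsonSubgroupA P).subgroupOf T).comap σ.toMonoidHom).map T.subtype := by
    refine sSup_le fun R hR => fun x hx => ?_
    have hRT : R ≤ T := (le_sSup hR).trans hJT
    refine ⟨⟨x, hRT hx⟩, ?_, rfl⟩
    show ((σ ⟨x, hRT hx⟩ : T) : P) ∈ Cfsg.thompsonSubgroupA P
    set f : T →* P := T.subtype.comp σ.toMonoidHom
    have hf : Function.Injective f := T.subtype_injective.comp σ.injective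
    have hcard : Nat.card ((R.subgroupOf T).map f) = Nat.card R := by
      rw [card_map_of_injective hf]
      exact Nat.card_congr (subgroupOfEquivOfLe hRT).toEquiv
    have hab : IsMulCommutative ((R.subgroupOf T).map f) := by
      refine le_centralizer_iff_isMulCommutative.1 ?_
      rintro _ ⟨a, ha, rfl⟩
      refine mem_centralizer_iff.2 ?_
      rintro _ ⟨b, hb, rfl⟩
      rw [← map_mul, ← map_mul]
      congr 1
      exact Subtype.ext
        (mem_centralizer_iff.1 (le_centralizer_iff_isMulCommutative.2 hR.1 ha) _ hb)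
    exact le_sSup (s := Cfsg.maxAbelianSubgroups P)
      ⟨hab, fun B hB => (hR.2 B hB).trans hcard.ge⟩
      (mem_map_of_mem f (show (⟨x, hRT hx⟩ : T) ∈ R.subgroupOf T from hx))
  intro x hx
  obtain ⟨y, hy, e1⟩ := key hx
  rwa [← T.subtype_injective e1]

variable (p P) in
/-- The conditions excluded in the theorem. -/
def Exceptional : Prop :=
  ¬ IsMulCommutative P ∧ Cfsg.thompsonSubgroupA P = ⊤ ∧
    Cfsg.IsElementaryAbelian p (center P) ∧ Cfsg.IsElementaryAbelian p (frattini P) ∧
    (p = 2 → frattini P ≤ center P) ∧ (p = 3 → frattini P ≤ Subgroup.upperCentralSeries P 2) ∧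
    (3 < p → frattini P ≤ center P ∧ Monoid.exponent P = p) ∧
    (∃ A ∈ Cfsg.maxAbelianSubgroups P, Cfsg.IsElementaryAbelian p A) ∧
    (∀ A ∈ Cfsg.maxAbelianSubgroups P, ∀ B ∈ Cfsg.maxAbelianSubgroups P, ∀ Q : Subgroup P,
      Nat.card ↥A ^ 2 = Nat.card P * Nat.card ↥(center P) ∧
      Nat.card ↥Q * Nat.card ↥(center ↥Q) ≤ Nat.card P * Nat.card ↥(center P) ∧
      ((A ⊔ B : Subgroup P) : Set P) = (A : Set P) * (B : Set P) ∧
      A ⊔ B = centralizer ((A ⊓ B : Subgroup P) : Set P))

theorem isElementaryAbelian_of_frattini_bot {L : Subgroup P} (hL : IsPGroup p L)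
    (h : (frattini ↥L).map L.subtype = ⊥) : Cfsg.IsElementaryAbelian p L := by
  have h' : frattini ↥L = ⊥ := (map_eq_bot_iff_of_injective _ L.subtype_injective).1 h
  refine ⟨⟨⟨fun a b => commutatorElement_eq_one_iff_mul_comm.1 (mem_bot.1 (h'.le
    (PFrattini.commutator_le_frattini (p := p) hL
      (commutator_mem_commutator (mem_top _) (mem_top _)))))⟩⟩, fun a ha => ?_⟩
  have h1 : (⟨a, ha⟩ : L) ^ p = 1 := mem_bot.1 (h'.le (PFrattini.pow_mem_frattini hL _))
  simpa using congrArg Subtype.val h1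

theorem exists_pair [Nontrivial P] (hP : IsPGroup p P) (hexc : ¬ Exceptional p P) :
    ∃ S₁ S₂ : Subgroup P, S₁ ≠ ⊥ ∧ S₂ ≠ ⊥ ∧ S₁.Characteristic ∧ S₂.Characteristic ∧
      S₁ ≤ center P ∧
      S₂ ≤ centralizer ((Cfsg.thompsonSubgroupA P ⊓
        centralizer (Cfsg.thompsonSubgroupA P : Set P) : Subgroup P) : Set P) ∧
      (S₂.subgroupOf (centralizer ((Cfsg.thompsonSubgroupA P ⊓
        centralizer (Cfsg.thompsonSubgroupA P : Set P) : Subgroup P) : Set P))).Characteristic ∧
      ∀ (G : Type u) [Group G] [Finite G] (S : Subgroup G) (e : P ≃* S),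
        Cfsg.IsPushingUpSituation p S → (img e S₁).Normal ∨ (img e S₂).Normal := by
  set J := Cfsg.thompsonSubgroupA P with hJdef
  set Z₁ := J ⊓ centralizer (J : Set P)
  set T := centralizer ((Z₁ : Subgroup P) : Set P)
  have htop : (⊤ : Subgroup P).Characteristic := inferInstance
  have hJchar : J.Characteristic := thompsonA_characteristic
  have hZ₁char : Z₁.Characteristic := inf_centralizer_characteristic hJchar
  have hcen : (center P).Characteristic := inferInstance
  obtain ⟨R₀, hR₀⟩ := exists_lag (P := P)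
  have hcz : center P ≠ ⊥ := by
    intro h
    refine inf_center_ne_bot hP (L := ⊤) top_ne_bot ?_
    rw [top_inf_eq, h]
  by_cases hab : IsMulCommutative P
  · have hc : center P = ⊤ :=
      eq_top_iff.2 fun x _ => mem_center_iff.2 fun g => hab.is_comm.comm g x
    have hT : T = ⊤ :=
      eq_top_iff.2 fun x _ => mem_centralizer_iff.2 fun g _ => hab.is_comm.comm g x
    exact ⟨⊤, ⊤, top_ne_bot, top_ne_bot, htop, htop, hc.ge, hT.ge,
      characteristic_subgroupOf_top hT htop, fun G _ _ S e hsit =>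
        Or.inl (case_abelian e hsit hab)⟩
  by_cases hZJ : ⁅Z₁, (⊤ : Subgroup P)⁆ ≠ ⊥
  · have hchar : (⁅Z₁, (⊤ : Subgroup P)⁆).Characteristic :=
      commutator_characteristic' hZ₁char htop
    have hJne : J ≠ ⊥ := fun h => lag_ne_bot hR₀ (le_bot_iff.1 (h ▸ by
      rw [hJdef, thompsonA_eq]; exact le_sSup (s := {R | IsLag (⊤ : Subgroup P) R}) hR₀))
    have hJT : J ≤ T := le_centralizer_iff.1 inf_le_right
    refine ⟨⁅Z₁, (⊤ : Subgroup P)⁆ ⊓ center P, J, ?_, hJne, inf_characteristic hchar hcen,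
      hJchar, inf_le_right, hJT, thompsonA_subgroupOf_characteristic hJT,
      fun G _ _ S e hsit => case_centerJ e hsit⟩
    haveI : (⁅Z₁, (⊤ : Subgroup P)⁆).Normal := by
      haveI := hchar; infer_instance
    exact inf_center_ne_bot hP hZJ
  push Not at hZJ
  have hZ₁ : Z₁ ≤ center P := by
    have h := commutator_eq_bot_iff_le_centralizer.1 hZJ
    rwa [coe_top, centralizer_univ] at h
  have hT : T = ⊤ := centralizer_eq_top_iff_subset.2 hZ₁
  have mk : ∀ S₁ S₂ : Subgroup P, S₁ ≠ ⊥ → S₂ ≠ ⊥ → S₁.Characteristic → S₂.Characteristic →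
      S₁ ≤ center P → (∀ (G : Type u) [Group G] [Finite G] (S : Subgroup G) (e : P ≃* S),
        Cfsg.IsPushingUpSituation p S → (img e S₁).Normal ∨ (img e S₂).Normal) →
      ∃ S₁ S₂ : Subgroup P, S₁ ≠ ⊥ ∧ S₂ ≠ ⊥ ∧ S₁.Characteristic ∧ S₂.Characteristic ∧
      S₁ ≤ center P ∧ S₂ ≤ T ∧ (S₂.subgroupOf T).Characteristic ∧
      ∀ (G : Type u) [Group G] [Finite G] (S : Subgroup G) (e : P ≃* S),
        Cfsg.IsPushingUpSituation p S → (img e S₁).Normal ∨ (img e S₂).Normal :=
    fun S₁ S₂ h1 h2 h3 h4 h5 h6 => ⟨S₁, S₂, h1, h2, h3, h4, h5, hT.symm ▸ le_top,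
      characteristic_subgroupOf_top hT h4, h6⟩
  by_cases hnab : ∃ Q : Subgroup P, Cfsg.IsMinimalCentrallyLarge Q ∧ ¬ IsMulCommutative Q
  · obtain ⟨Q, hQ, hQab⟩ := hnab
    have hchar : (⁅Q, Q⁆).Characteristic := PushingUp.commutator_characteristic hP hQ
    have hQQ : ⁅Q, Q⁆ ≠ ⊥ := fun h =>
      hQab (le_centralizer_iff_isMulCommutative.1 (commutator_eq_bot_iff_le_centralizer.1 h))
    refine mk (center P ⊓ ⁅Q, Q⁆) (Cfsg.minimalCentrallyLargeJoin P) ?_ ?_
      (inf_characteristic hcen hchar) ?_ inf_le_left fun G _ _ S e hsit => case_mcl e hsit hQ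
    · haveI : (⁅Q, Q⁆).Normal := by haveI := hchar; infer_instance
      rw [inf_comm]; exact inf_center_ne_bot hP hQQ
    · intro h
      have hQ0 : Q = ⊥ := le_bot_iff.1
        ((le_sSup (s := {R : Subgroup P | Cfsg.IsMinimalCentrallyLarge R}) hQ).trans h.le)
      exact hQQ (by rw [hQ0, commutator_bot_left])
    · exact characteristic_of_comap fun σ => map_le_iff_le_comap.1 (mclJoin_map σ)
  push Not at hnab
  obtain ⟨RC, hRC⟩ := CD.exists_centrallyLarge (G := P)
  obtain ⟨Q₀, -, hQ₀⟩ := CD.exists_minimalCentrallyLarge_le hRC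
  have hiff := (S3007.result (p := p) P hP Q₀ Q₀ hQ₀ hQ₀).2.2.2.2 (hnab Q₀ hQ₀)
  have hlagCL : ∀ R, IsLag (⊤ : Subgroup P) R → Cfsg.IsCentrallyLarge R := fun R hR =>
    ((hiff R).2 (mem_maxAbelian_iff.2 hR)).1
  obtain ⟨hJl, hJc⟩ := (CD.centrallyLarge_iff J).1
    (CD.centrallyLarge_sSup (T := Cfsg.maxAbelianSubgroups P) CD.exists_mem_maxAbelianSubgroups
      fun R hR => hlagCL R (mem_maxAbelian_iff.1 hR))
  have hCJ : centralizer (J : Set P) = center P :=
    le_antisymm ((le_inf hJc le_rfl).trans hZ₁) (center_le_centralizer _)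
  have hJtop : J = ⊤ := by
    refine eq_top_of_le_card J ?_
    have h := CD.cdMeasure_le_max (⊤ : Subgroup P)
    rw [← show Nat.card J * Nat.card (centralizer (J : Set P)) = Cfsg.maxCentralizerProduct P
      from hJl, hCJ, CD.cdMeasure, card_top, coe_top, centralizer_univ] at h
    exact Nat.le_of_mul_le_mul_right h Nat.card_pos
  have hmax : Cfsg.maxCentralizerProduct P = Nat.card P * Nat.card (center P) := by
    rw [← show Nat.card J * Nat.card (centralizer (J : Set P)) = Cfsg.maxCentralizerProduct P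
      from hJl, hCJ, hJtop, card_top]
  have hsq : ∀ A, IsLag (⊤ : Subgroup P) A →
      Nat.card A * Nat.card A = Nat.card P * Nat.card (center P) := by
    intro A hA
    have h1 : Nat.card A * Nat.card (centralizer (A : Set P)) = Cfsg.maxCentralizerProduct P :=
      ((CD.centrallyLarge_iff A).1 (hlagCL A hA)).1
    rwa [CD.centralizer_maxAbelian (mem_maxAbelian_iff.2 hA), hmax] at h1
  have hsat : Sat (⊤ : Subgroup P) :=
    { bound := fun H _ => by
        rw [top_inf_eq, zen_top, card_top, ← hmax]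
        exact CD.cdMeasure_le_max H
      sq := fun A hA => by rw [zen_top, card_top]; exact hsq A hA }
  have hJ : (⊤ : Subgroup P) ≤ sSup {R | IsLag (⊤ : Subgroup P) R} := by
    rw [← thompsonA_eq, ← hJdef, hJtop]
  by_cases hZp : ∃ z ∈ center P, z ^ p ≠ 1
  · obtain ⟨z, hz, hzp⟩ := hZp
    refine mk (Cfsg.powerClosure p 1 (center P)) ⊤ ?_ top_ne_bot
      (powerClosure_characteristic hcen) htop ?_ fun G _ _ S e hsit => case_center e hsit hJ
    · exact fun h => hzp (mem_bot.1 (h.le (subset_closure ⟨z, hz, by rw [pow_one]⟩)))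
    · exact (closure_le _).2 (by rintro _ ⟨x, hx, rfl⟩; exact pow_mem hx _)
  push Not at hZp
  by_cases hA₀ : ∀ A ∈ Cfsg.maxAbelianSubgroups P, ¬ Cfsg.IsElementaryAbelian p A
  · refine mk (center P) (Cfsg.frattiniOfMinimalCLJoin p P) hcz ?_ hcen ?_ le_rfl
      fun G _ _ S e hsit => case_frattini e hsit hP
    · intro h
      obtain ⟨A, hA, hAe⟩ := (PushingUp.of_frattiniJoin_eq_bot hP h).2
      exact hA₀ A hA hAe
    · exact characteristic_of_comap fun σ => map_le_iff_le_comap.1 (frattiniJoin_map hP σ)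
  push Not at hA₀
  obtain ⟨A₀, hA₀, hA₀e⟩ := hA₀
  have hA₀' := mem_maxAbelian_iff.1 hA₀
  have hel : ∀ R, IsOmLag p (⊤ : Subgroup P) R → (∀ r ∈ R, r ^ p = 1) ∨ p ≠ 2 := by
    intro R hR
    refine Or.inl fun r hr => ?_
    have h1 : A₀ ≤ omSub p A₀ := fun a ha => mem_omSub ha (hA₀e.2 a ha)
    have h2 : Nat.card R ≤ Nat.card (omSub p R) :=
      ((hA₀'.max R le_top hR.lag.comm).trans (card_le_of_le h1)).trans (hR.max _ hA₀')
    rw [← eq_of_le_of_card_ge (omSub_le R) h2] at hr
    exact pow_of_mem_omSub hR.lag.comm hr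
  by_cases hSig : sigPart p P ≠ ⊥
  · have hchar := sigPart_characteristic (p := p) hP
    refine mk (sigPart p P ⊓ center P) (famLag p P) ?_ ?_ (inf_characteristic hchar hcen)
      famLag_characteristic inf_le_right
      fun G _ _ S e hsit => family_normal hP hsat hJ hZp hel e hsit
    · haveI : (sigPart p P).Normal := by haveI := hchar; infer_instance
      exact inf_center_ne_bot hP hSig
    · obtain ⟨R, hR, hRc⟩ := exists_omLag_famCore hsat hZp hA₀'
      exact fun h => lag_ne_bot hR.lag (le_bot_iff.1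
        ((le_sSup (s := {R | IsOmLag p (⊤ : Subgroup P) R ∧ R ≤ famCore p P})
          ⟨hR, hRc⟩).trans h.le))
  push Not at hSig
  rw [sigPart, sup_eq_bot_iff] at hSig
  have hΦe : Cfsg.IsElementaryAbelian p (frattini P) :=
    isElementaryAbelian_of_frattini_bot (hP.to_subgroup _) hSig.2
  have hΦZ : p ≠ 3 → frattini P ≤ center P := fun h3 => by
    have h := hSig.1
    rw [if_neg h3, commutator_eq_bot_iff_le_centralizer, coe_top, centralizer_univ] at h
    exact h
  have hΦ3 : p = 3 → frattini P ≤ Subgroup.upperCentralSeries P 2 := fun h3 x hx => by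
    refine Subgroup.mem_upperCentralSeries_succ_iff.2 fun y => ?_
    rw [Subgroup.upperCentralSeries_one, mem_center_iff]
    intro g
    have h := hSig.1
    rw [if_pos h3] at h
    have h2 : ⁅⁅x, y⁆, g⁆ = 1 := mem_bot.1
      (h.le (commutator_mem_commutator (commutator_mem_commutator hx (mem_top y)) (mem_top g)))
    exact (commutatorElement_eq_one_iff_mul_comm.1 h2).symm
  have hex : 3 < p ∧ Monoid.exponent P ≠ p := by
    by_contra hcon
    refine hexc ⟨hab, hJtop, ⟨inferInstance, hZp⟩, hΦe, fun h2 => hΦZ (by omega), hΦ3,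
      fun h3 => ⟨hΦZ (by omega), by_contra fun h => hcon ⟨h3, h⟩⟩, ⟨A₀, hA₀, hA₀e⟩,
      fun A hA B hB Q => ⟨?_, ?_, ?_, ?_⟩⟩
    · rw [pow_two]; exact hsq A (mem_maxAbelian_iff.1 hA)
    · rw [← hmax, CD.card_center_subgroup]
      exact (Nat.mul_le_mul_left _ (card_le_of_le inf_le_right)).trans (CD.cdMeasure_le_max Q)
    · exact (CD.centralizerLarge_sup_inf
        ((CD.centrallyLarge_iff A).1 (hlagCL A (mem_maxAbelian_iff.1 hA))).1
        ((CD.centrallyLarge_iff B).1 (hlagCL B (mem_maxAbelian_iff.1 hB))).1).2.2.1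
    · have h := (CD.centralizerLarge_sup_inf
        ((CD.centrallyLarge_iff A).1 (hlagCL A (mem_maxAbelian_iff.1 hA))).1
        ((CD.centrallyLarge_iff B).1 (hlagCL B (mem_maxAbelian_iff.1 hB))).1).2.2.2.2
      rw [CD.centralizer_maxAbelian hA, CD.centralizer_maxAbelian hB] at h
      exact h.symm
  have hp2 : p ≠ 2 := by omega
  have hΦ : frattini P ≤ center P := hΦZ (by omega)
  refine mk (Cfsg.powerClosure p 1 (⊤ : Subgroup P)) (sSup {R | IsOmLag p (⊤ : Subgroup P) R})
    ?_ ?_ (powerClosure_characteristic htop)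
    (characteristic_sSup fun σ R hR => omLag_aut hR σ) ?_
    fun G _ _ S e hsit => case_power e hsit hp2 hP hsat hJ hZp hΦ
  · intro h
    apply hex.2
    refine Monoid.exponent_eq_prime_iff hp.out |>.2 fun g hg => orderOf_eq_prime ?_ hg
    exact mem_bot.1 (h.le (subset_closure ⟨g, mem_top g, by rw [pow_one]⟩))
  · obtain ⟨R, hR⟩ := exists_omLag (p := p) hA₀'
    exact fun h => lag_ne_bot hR.lag (le_bot_iff.1
      ((le_sSup (s := {R | IsOmLag p (⊤ : Subgroup P) R}) hR).trans h.le))
  · refine (closure_le _).2 ?_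
    rintro _ ⟨x, -, rfl⟩
    rw [pow_one]
    exact hΦ (PFrattini.pow_mem_frattini hP x)

end Cfsg.Agent.Lib.GNiles
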