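import Mathlib
import Cfsg.Agent.Lib.GNiles.Cases
/-!
Two situations on the same `S` with `h ≤ q` and layers not of exponent `p`: `[O_p(G₁), O^p(G₁)]`
lies in `O_p(G₂)`.
-/

set_option autoImplicit false
set_option linter.unusedSectionVars false

namespace Cfsg.Agent.Lib.GNiles

open Subgroup
open Cfsg.Agent.Lib
open Cfsg.Agent.Lib.SL2 (SLtwo PSLtwo)
open scoped commutatorElement

variable {p : ℕ} [hp : Fact p.Prime]
variable {G : Type*} [Group G] [Finite G] {F : Type} [Field F] [Fintype F] {n : ℕ}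
  {S A : Subgroup G} {ψ : G →* PSLtwo F}

namespace Base

variable (b : Base p S A n ψ) (hZ : ∀ z ∈ zen S, z ^ p = 1)

include b hZ

theorem wc_pow {x : G} (hx : x ∈ wc p G) : x ^ p ∈ c0 p G := by
  obtain ⟨w, hw, c, hc, rfl⟩ := mem_sup_of_normal_right.1 hx
  rw [(show Commute w c from (b.ctx.D_comm_W hc.1 hw).symm).mul_pow, b.W_pow hZ hw, one_mul]
  exact pow_mem hc p

omit hZ in
theorem wc_comm_xo {x y : G} (hx : x ∈ wc p G) (hy : y ∈ xo p G) : Commute x y := by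
  obtain ⟨w, hw, c, hc, rfl⟩ := mem_sup_of_normal_right.1 hx
  exact (show Commute w y from (b.ctx.D_comm_W (xo_le_pCore hy) hw).symm).mul_left
    (show Commute c y from (xo_comm_c0 hy hc).symm)

/-- For `h ≤ q` the layer modulo `W C` has exponent `p`. -/
theorem pow_xo_wc (hq : (wc p G).relIndex (uPart p A ⊔ centralizer (Cfsg.pCore p G : Set G)) ≤ p ^ n) :
    ∀ x ∈ xo p G, x ^ p ∈ wc p G := by
  classical
  haveI hn : (wc p G).Normal := inferInstance
  haveI hXn : (xo p G).Normal := inferInstance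
  set π := QuotientGroup.mk' (wc p G)
  have hc : ∀ x ∈ xo p G, ∀ y ∈ xo p G, Commute (π x) (π y) := fun x hx y hy =>
    commutatorElement_eq_one_iff_commute.1 (by
      rw [← map_commutatorElement]
      exact (QuotientGroup.eq_one_iff _).2 (mem_sup_right (b.xoxo_mem hx hy)))
  let K : Subgroup G :=
    { carrier := {x | x ∈ xo p G ∧ x ^ p ∈ wc p G}
      one_mem' := ⟨one_mem _, by simp⟩
      mul_mem' := fun {x y} hx hy => ⟨mul_mem hx.1 hy.1, (QuotientGroup.eq_one_iff _).1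
        (show π ((x * y) ^ p) = 1 by
          rw [map_pow, map_mul, (hc x hx.1 y hy.1).mul_pow, ← map_pow, ← map_pow,
            show π (x ^ p) = 1 from (QuotientGroup.eq_one_iff _).2 hx.2, one_mul]
          exact (QuotientGroup.eq_one_iff _).2 hy.2)⟩
      inv_mem' := fun {x} hx => ⟨inv_mem hx.1, by rw [inv_pow]; exact inv_mem hx.2⟩ }
  intro x hx
  by_cases hxw : x ∈ wc p G
  · exact pow_mem hxw p
  obtain ⟨k, hk⟩ := (PSolvable.pCore_isPGroup.to_le xo_le_pCore : IsPGroup p (xo p G)) ⟨x, hx⟩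
  have hk' : x ^ p ^ k = 1 := by simpa using congrArg Subtype.val hk
  have hex : ∃ j, x ^ p ^ j ∈ wc p G := ⟨k, by rw [hk']; exact one_mem _⟩
  obtain ⟨i, hi⟩ : ∃ i, Nat.find hex = i + 1 := ⟨Nat.find hex - 1, by
    have h0 : Nat.find hex ≠ 0 := fun h => hxw (by simpa [h] using Nat.find_spec hex)
    omega⟩
  have hy : (x ^ p ^ i) ^ p ∈ wc p G := by
    rw [← pow_mul, ← pow_succ, ← hi]; exact Nat.find_spec hex
  have hyn : x ^ p ^ i ∉ wc p G := Nat.find_min hex (by omega)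
  exact (b.xo_le_of_invariant (K := K) hq (fun y hy' hyw => ⟨hy', pow_mem hyw p⟩)
    (fun g _ y hy' hyK => ⟨hXn.conj_mem y hy' g, by rw [conj_pow]; exact hn.conj_mem _ hyK.2 g⟩)
    (pow_mem hx _) ⟨pow_mem hx _, hy⟩ hyn hx).2

/-- Either the layer has exponent `p` modulo `C` or only its part in `W C` has. -/
theorem pow_mem_c0_iff (hq : (wc p G).relIndex (uPart p A ⊔ centralizer (Cfsg.pCore p G : Set G)) ≤ p ^ n)
    (hne : ¬ ∀ x ∈ xo p G, x ^ p ∈ c0 p G) {x : G} (hx : x ∈ xo p G) (hxp : x ^ p ∈ c0 p G) :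
    x ∈ wc p G := by
  by_contra hxn
  apply hne
  haveI hXn : (xo p G).Normal := inferInstance
  set π := QuotientGroup.mk' (c0 p G)
  have hc : ∀ x ∈ xo p G, ∀ y ∈ xo p G, Commute (π x) (π y) := fun x hx y hy =>
    commutatorElement_eq_one_iff_commute.1 (by
      rw [← map_commutatorElement]
      exact (QuotientGroup.eq_one_iff _).2 (b.xoxo_mem hx hy))
  let K : Subgroup G :=
    { carrier := {x | x ∈ xo p G ∧ x ^ p ∈ c0 p G}
      one_mem' := ⟨one_mem _, by simp⟩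
      mul_mem' := fun {x y} hx hy => ⟨mul_mem hx.1 hy.1, (QuotientGroup.eq_one_iff _).1
        (show π ((x * y) ^ p) = 1 by
          rw [map_pow, map_mul, (hc x hx.1 y hy.1).mul_pow, ← map_pow, ← map_pow,
            show π (x ^ p) = 1 from (QuotientGroup.eq_one_iff _).2 hx.2, one_mul]
          exact (QuotientGroup.eq_one_iff _).2 hy.2)⟩
      inv_mem' := fun {x} hx => ⟨inv_mem hx.1, by rw [inv_pow]; exact inv_mem hx.2⟩ }
  exact fun y hy => (b.xo_le_of_invariant (K := K) hq (fun z hz hzw => ⟨hz, b.wc_pow hZ hzw⟩)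
    (fun g _ z hz hzK => ⟨hXn.conj_mem z hz g, by rw [conj_pow]; exact c0_normal.conj_mem _ hzK.2 g⟩)
    hx ⟨hx, hxp⟩ hxn hy).2

/-- For `h ≤ q` the layer has exponent dividing `p²`. -/
theorem pow_sq_xo (hq : (wc p G).relIndex (uPart p A ⊔ centralizer (Cfsg.pCore p G : Set G)) ≤ p ^ n)
    {x : G} (hx : x ∈ xo p G) : x ^ p ^ 2 = 1 := by
  have hpw := b.pow_xo_wc hZ hq
  haveI hXn : (xo p G).Normal := inferInstance
  have hcen : ∀ u ∈ xo p G, ∀ v ∈ xo p G, ∀ y ∈ xo p G, ⁅u, v⁆ * y = y * ⁅u, v⁆ :=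
    fun u hu v hv y hy => (xo_comm_c0 hy (b.xoxo_mem hu hv)).symm
  have hexp : ∀ u ∈ xo p G, ∀ v ∈ xo p G, ⁅u, v⁆ ^ p = 1 := by
    intro u hu v hv
    have hcu : Commute ⁅u, v⁆ u := hcen u hu v hv u hu
    have key : ∀ k : ℕ, u ^ k * v * (u ^ k)⁻¹ = ⁅u, v⁆ ^ k * v := by
      intro k
      induction k with
      | zero => simp
      | succ k ih =>
        calc u ^ (k + 1) * v * (u ^ (k + 1))⁻¹ = u * (u ^ k * v * (u ^ k)⁻¹) * u⁻¹ := by
              rw [pow_succ']; group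
          _ = (u * ⁅u, v⁆ ^ k) * v * u⁻¹ := by rw [ih]; group
          _ = ⁅u, v⁆ ^ k * (u * v * u⁻¹) := by rw [← (hcu.pow_left k).eq]; group
          _ = _ := by rw [pow_succ]; simp [commutatorElement_def, mul_assoc]
    have h1 := key p
    rw [(b.wc_comm_xo (hpw u hu) hv).eq, mul_inv_cancel_right] at h1
    exact mul_eq_right.1 h1.symm
  have hmul : ∀ u ∈ xo p G, ∀ v ∈ xo p G, (u * v) ^ p ^ 2 = u ^ p ^ 2 * v ^ p ^ 2 := by
    intro u hu v hv
    obtain ⟨j, hj⟩ : p ∣ (p ^ 2).choose 2 := hp.out.dvd_choose_pow two_ne_zero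
      (by have := hp.out.two_le; nlinarith)
    rw [mul_pow_class_two (S := xo p G) (fun y hy => hcen v hv u hu y hy) hu hv, hj, pow_mul,
      hexp v hv u hu, one_pow, mul_one]
  have hc0 : ∀ u ∈ xo p G, u ^ p ^ 2 ∈ c0 p G := fun u hu => by
    rw [pow_two, pow_mul]; exact b.wc_pow hZ (hpw u hu)
  let K : Subgroup G :=
    { carrier := {u | u ∈ xo p G ∧ u ^ p ^ 2 = 1}
      one_mem' := ⟨one_mem _, one_pow _⟩
      mul_mem' := fun {u v} hu hv => ⟨mul_mem hu.1 hv.1, by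
        rw [hmul u hu.1 v hv.1, hu.2, hv.2, one_mul]⟩
      inv_mem' := fun {u} hu => ⟨inv_mem hu.1, by rw [inv_pow, hu.2, inv_one]⟩ }
  have hle : ⁅xo p G, opG p G⁆ ≤ K := commutator_le.2 fun v hv k hk => by
    have h1 : k * v⁻¹ * k⁻¹ ∈ xo p G := hXn.conj_mem _ (inv_mem hv) k
    have e : ⁅v, k⁆ = v * (k * v⁻¹ * k⁻¹) := by rw [commutatorElement_def]; group
    refine ⟨e ▸ mul_mem hv h1, ?_⟩
    have h2 : k * v⁻¹ ^ p ^ 2 * k⁻¹ = v⁻¹ ^ p ^ 2 := by
      rw [mem_centralizer_iff.1 (hc0 _ (inv_mem hv)).2 k hk, mul_inv_cancel_right]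
    rw [e, hmul v hv _ h1, conj_pow, h2, inv_pow, mul_inv_cancel]
  rw [← xo_comm_opG] at hx
  exact (hle hx).2

end Base

variable {H : Type*} [Group H] [Finite H] {K : Type} [Field K] [Fintype K] {m : ℕ}
  {T B : Subgroup H} {φ : H →* PSLtwo K}

/-- Two situations on one `S` with nontrivial layers, `h ≤ q`, and layers not of exponent `p`. -/
theorem xo_le_push_of_pow (b : Base p S A n ψ) (b₂ : Base p T B m φ) (e : S ≃* T)
    (hnt : ¬ xo p G ≤ wc p G) (hnt₂ : ¬ xo p H ≤ wc p H)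
    (hZ : ∀ z ∈ zen S, z ^ p = 1)
    (hq : (wc p G).relIndex (uPart p A ⊔ centralizer (Cfsg.pCore p G : Set G)) ≤ p ^ n)
    (hne : ¬ ∀ x ∈ xo p G, x ^ p ∈ c0 p G)
    (hq₂ : (wc p H).relIndex (uPart p B ⊔ centralizer (Cfsg.pCore p H : Set H)) ≤ p ^ m)
    (hne₂ : ¬ ∀ x ∈ xo p H, x ^ p ∈ c0 p H) :
    xo p G ≤ push e.symm (Cfsg.pCore p H) := by
  have hZT : ∀ z ∈ zen T, z ^ p = 1 := by
    intro z hz
    rw [← push_zen e] at hz
    obtain ⟨y, hy, rfl⟩ := (mem_push e).1 hz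
    have h1 : y ^ p = 1 := Subtype.ext (by simpa using hZ _ hy)
    rw [← coe_pow, ← map_pow, h1, map_one, coe_one]
  by_contra h12
  have h21 : ¬ xo p H ≤ push e (Cfsg.pCore p G) := fun h => by
    refine b.shadow_not_le (shadow_of_base b₂ e hnt₂) h12 ?_
    exact (push_mono e.symm h).trans (push_symm_push e b.ctx.setup.le_S).le
  set D := Cfsg.pCore p G
  set W := centralizer (D : Set G)
  haveI hWn : W.Normal := inferInstance
  haveI hKn : (wc p G).Normal := inferInstance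
  obtain ⟨g, hgP, hg⟩ := b.ctx.exists_opp
  obtain ⟨x₀, hx₀, -, hx₀D⟩ := b.exists_conj_not_mem (shadow_of_base b₂ e hnt₂) h12 hg hgP
  set B₁ := (uPart p A ⊔ W).map (cj g)
  have hB₁ : IsLag S B₁ := (b.ctx.lagUW b.lag b.out).map_conj
    (((map_mono (sup_le inf_le_right b.ctx.W_le)).trans (map_cj_normal D g).le).trans b.ctx.setup.le_S)
  have hx₀B : x₀ ∈ B₁ := map_mono le_sup_left hx₀
  have b₂' : Base p T (push e B₁) m φ := ⟨b₂.ctx, b₂.sat, hB₁.push e, fun h => hx₀D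
    ((apply_mem_pull e (x := ⟨x₀, hB₁.le hx₀B⟩)).2 (h ((apply_mem_push e).2 hx₀B)))⟩
  set U₂ := uPart p (push e B₁)
  -- an element of `[O_p(G₂), O^p(G₂)]` outside `O_p(G)`
  obtain ⟨y, hy, hyD⟩ := SetLike.not_le_iff_exists.1 h21
  have hyT : y ∈ T := b₂.ctx.setup.le_S (xo_le_pCore hy)
  set y₁ : S := e.symm ⟨y, hyT⟩
  have hy₁ : (y₁ : G) ∉ D := fun h => hyD (by
    have := (apply_mem_push e (K := D) (x := y₁)).2 h
    rwa [e.apply_symm_apply] at this)
  -- the domain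
  set K₁ := (uPart p A).map (cj g) ⊓ xo p G
  have hK₁S : K₁ ≤ S := fun x hx => b.ctx.setup.le_S (xo_le_pCore hx.2)
  have hcommK : ∀ x ∈ K₁, ∀ z ∈ K₁, x * z = z * x := fun x hx z hz => b.uConj_comm hx.1 hz.1
  let f : K₁ →* H :=
    { toFun := fun x => (e ⟨x, hK₁S x.2⟩ : H) ^ p
      map_one' := by
        rw [show (⟨((1 : K₁) : G), hK₁S (1 : K₁).2⟩ : S) = 1 from rfl, map_one, coe_one, one_pow]
      map_mul' := fun x z => by
        have hc : Commute (⟨x, hK₁S x.2⟩ : S) ⟨z, hK₁S z.2⟩ := Subtype.ext (hcommK x x.2 z z.2)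
        rw [show (⟨((x * z : K₁) : G), hK₁S (x * z).2⟩ : S) =
          ⟨x, hK₁S x.2⟩ * ⟨z, hK₁S z.2⟩ from rfl, ← coe_pow, ← map_pow, hc.mul_pow, map_mul,
          map_pow, map_pow]
        rfl }
  have hrange : f.range ≤ U₂ := by
    rintro _ ⟨x, rfl⟩
    refine b₂'.pow_mem_uPart ((apply_mem_push e).2 ?_)
    exact map_mono le_sup_left x.2.1
  have hker : ∀ x : K₁, f x ∈ wc p H → (x : G) ∈ wc p G := by
    intro x hx
    have hxX : (x : G) ∈ xo p G := x.2.2
    refine b.pow_mem_c0_iff hZ hq hne hxX ?_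
    have hc : Commute (f x) y := b₂.wc_comm_xo hx hy
    have hc' : Commute ((x : G) ^ p) (y₁ : G) := by
      have h1 : (⟨x, hK₁S x.2⟩ : S) ^ p * y₁ = y₁ * (⟨x, hK₁S x.2⟩ : S) ^ p := by
        apply e.injective
        rw [map_mul, map_mul, map_pow, e.apply_symm_apply]
        exact Subtype.ext hc.eq
      exact congrArg Subtype.val h1
    obtain ⟨w, hw, c, hcc, hwc⟩ := mem_sup_of_normal_right.1 (b.pow_xo_wc hZ hq _ hxX)
    have h2 : ⁅(y₁ : G), w⁆ ∈ c0 p G := by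
      have h3 : ⁅(y₁ : G), w * c⁆ = 1 := by
        rw [hwc]; exact commutatorElement_eq_one_iff_mul_comm.2 hc'.eq.symm
      rw [show ⁅(y₁ : G), w * c⁆ = ⁅(y₁ : G), w⁆ * (w * ⁅(y₁ : G), c⁆ * w⁻¹) by
        simp [commutatorElement_def, mul_assoc]] at h3
      rw [eq_inv_of_mul_eq_one_left h3]
      exact inv_mem (c0_normal.conj_mem _
        (mul_mem (c0_normal.conj_mem c hcc _) (inv_mem hcc)) w)
    have hwz : w ∈ zen S := b.ctx.fix_W_mod b.lag b.out y₁.2 hy₁ hw (by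
      rw [← b.ctx.W_inf_c0 b.lag b.out]
      exact ⟨b.ctx.zen_le_W (b.ctx.comm_mem_zen b.lag b.out y₁.2 hw), h2⟩)
    have hcI : c ∈ iPart p A := by
      have hcX : c ∈ xPart p A := by
        rw [show c = w⁻¹ * (w * c) by group, hwc]
        exact mul_mem (inv_mem (b.W_le_xPart hw)) (pow_mem (b.xo_le_xPart hxX) p)
      exact b.xPart_inf_c0.le ⟨hcX, hcc⟩
    have hwU : w ∈ (uPart p A).map (cj g) := by
      rw [show w = (w * c) * c⁻¹ by group, hwc]
      exact mul_mem (pow_mem x.2.1 p) (inv_mem (b.iPart_le_cj hgP hcI))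
    have hwc0 : w ∈ c0 p G := by
      refine b.ctx.center_le_c0 ?_
      rw [← b.ctx.inf_zen_conj hg]
      have hwg : g⁻¹ * w * g ∈ W := by simpa using hWn.conj_mem w hw g⁻¹
      have hwz' : w ∈ (zen S).map (cj g) :=
        mem_map_cj.2 (b.uPart_inf_W.le ⟨mem_map_cj.1 hwU, hwg⟩)
      exact ⟨hwz, hwz'⟩
    rw [← hwc]
    exact mul_mem hwc0 hcc
  -- counting
  have hK₁ : (wc p G).relIndex K₁ = (wc p G).relIndex (uPart p A ⊔ W) := by
    have e1 : K₁ ⊔ wc p G = (uPart p A).map (cj g) ⊔ wc p G := by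
      refine le_antisymm (sup_le_sup_right inf_le_left _) (sup_le (fun t ht => ?_) le_sup_right)
      obtain ⟨v, hv, hvx, i, hi, rfl⟩ := b.uConj_dec hgP ht
      exact mul_mem (mem_sup_left ⟨hv, hvx⟩) (mem_sup_right (mem_sup_right hi.2))
    rw [← relIndex_sup_right K₁ (wc p G), e1, relIndex_sup_right]
    conv_lhs => rw [← map_cj_normal (wc p G) g]
    rw [relIndex_map_map_of_injective _ _ (MulAut.conj g).injective,
      ← relIndex_sup_right (uPart p A) (wc p G),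
      ← relIndex_sup_right (uPart p A ⊔ W) (wc p G)]
    congr 1
    exact le_antisymm (sup_le_sup_right le_sup_left _)
      (sup_le (sup_le le_sup_left ((le_sup_left : W ≤ wc p G).trans le_sup_right)) le_sup_right)
  haveI hKn₂ : (wc p H).Normal := inferInstance
  have hU₂ : (wc p H).relIndex U₂ ≤ p ^ n := by
    refine le_trans (relIndex_le_of_le_right
      (le_sup_left : U₂ ≤ U₂ ⊔ centralizer (Cfsg.pCore p H : Set H))
      (by rw [relIndex]; exact index_ne_zero_of_finite)) ?_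
    rw [← b₂.relIndex_wc_eq b₂']
    exact relIndex_le_of_not_le b b₂ e hnt hnt₂ h12 h21
  have hge : (wc p H).relIndex U₂ ≤ (wc p H).relIndex f.range := by
    refine hU₂.trans (le_trans (b.le_relIndex_of_not_le hnt) ?_)
    rw [← hK₁, ← index_comap]
    exact Nat.le_of_dvd (Nat.pos_of_ne_zero index_ne_zero_of_finite)
      (index_dvd_of_le fun x hx => hker x hx)
  have hsurj : U₂ ≤ f.range ⊔ wc p H := by
    have h1 := relIndex_mul_relIndex (wc p H) (f.range ⊔ wc p H) (U₂ ⊔ wc p H) le_sup_right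
      (sup_le_sup_right hrange _)
    rw [relIndex_sup_right, relIndex_sup_right] at h1
    have hpos : 0 < (wc p H).relIndex f.range := Nat.pos_of_ne_zero (by
      rw [relIndex]; exact index_ne_zero_of_finite)
    have h2 : (f.range ⊔ wc p H).relIndex (U₂ ⊔ wc p H) = 1 := by
      have h3 : (f.range ⊔ wc p H).relIndex (U₂ ⊔ wc p H) ≤ 1 :=
        Nat.le_of_mul_le_mul_left (c := (wc p H).relIndex f.range) (by rw [h1, mul_one]; exact hge) hpos
      have h4 : (f.range ⊔ wc p H).relIndex (U₂ ⊔ wc p H) ≠ 0 := by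
        rw [relIndex]; exact index_ne_zero_of_finite
      omega
    exact le_sup_left.trans (relIndex_eq_one.1 h2)
  have hU₂p : ∀ u ∈ U₂, u ^ p ∈ c0 p H := by
    intro u hu
    obtain ⟨_, ⟨x, rfl⟩, k, hk, rfl⟩ := mem_sup_of_normal_right.1 (hsurj hu)
    have hfx : f x ∈ U₂ := hrange ⟨x, rfl⟩
    have hkU : k ∈ U₂ := by simpa using mul_mem (inv_mem hfx) hu
    rw [(show Commute (f x) k from b₂'.uPart_comm hfx hkU).mul_pow]
    have h0 : f x ^ p = 1 := by
      show ((e ⟨x, hK₁S x.2⟩ : H) ^ p) ^ p = 1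
      have h1 : (⟨x, hK₁S x.2⟩ : S) ^ (p * p) = 1 := Subtype.ext (by
        rw [coe_pow, coe_one, ← pow_two]; exact b.pow_sq_xo hZ hq x.2.2)
      rw [← pow_mul, ← coe_pow, ← map_pow, h1, map_one, coe_one]
    rw [h0, one_mul]
    exact b₂.wc_pow hZT hk
  apply hne₂
  intro x hx
  obtain ⟨o, hoP, ho⟩ := b₂'.ctx.exists_opp
  obtain ⟨u, hu, hux, u', hu', hu'x, rfl⟩ := b₂'.xo_dec ho hoP hx
  set π := QuotientGroup.mk' (c0 p H)
  have hcm : Commute (π u) (π u') := commutatorElement_eq_one_iff_commute.1 (by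
    rw [← map_commutatorElement]
    exact (QuotientGroup.eq_one_iff _).2 (b₂'.xoxo_mem hux hu'x))
  obtain ⟨v, hv, rfl⟩ := hu'
  refine (QuotientGroup.eq_one_iff _).1 (show π ((u * cj o v) ^ p) = 1 from ?_)
  rw [map_pow, map_mul, hcm.mul_pow, ← map_pow, ← map_pow,
    show π (u ^ p) = 1 from (QuotientGroup.eq_one_iff _).2 (hU₂p u hu), one_mul,
    cj_apply, conj_pow]
  exact (QuotientGroup.eq_one_iff _).2 (c0_normal.conj_mem _ (hU₂p v hv) o)

/-- The condition on a member of the larger family. -/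
abbrev Wild (p : ℕ) (G : Type*) [Group G] [Finite G] [Fact p.Prime] (A : Subgroup G) (n : ℕ) : Prop :=
  p ^ n < (wc p G).relIndex (uPart p A ⊔ centralizer (Cfsg.pCore p G : Set G)) ∨
    ¬ ∀ x ∈ xo p G, x ^ p ∈ c0 p G

theorem Base.not_le_of_wild (b : Base p S A n ψ) (hZ : ∀ z ∈ zen S, z ^ p = 1)
    (hw : Wild p G A n) : ¬ xo p G ≤ wc p G := by
  intro h
  have h1 : hSq p G = 1 := relIndex_eq_one.2 h
  rcases hw with hw | hw
  · rw [b.hSq_eq] at h1
    have := b.ctx.setup.one_lt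
    have h2 := Nat.eq_one_of_mul_eq_one_right h1
    omega
  · exact hw (b.pow_xo_of_hSq hZ h1)

theorem xo_le_push_wild (b : Base p S A n ψ) (b₂ : Base p T B m φ) (e : S ≃* T)
    (hZ : ∀ z ∈ zen S, z ^ p = 1) (hw : Wild p G A n) (hw₂ : Wild p H B m) :
    xo p G ≤ push e.symm (Cfsg.pCore p H) := by
  have hZT : ∀ z ∈ zen T, z ^ p = 1 := by
    intro z hz
    rw [← push_zen e] at hz
    obtain ⟨y, hy, rfl⟩ := (mem_push e).1 hz
    have h1 : y ^ p = 1 := Subtype.ext (by simpa using hZ _ hy)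
    rw [← coe_pow, ← map_pow, h1, map_one, coe_one]
  have hnt := b.not_le_of_wild hZ hw
  have hnt₂ := b₂.not_le_of_wild hZT hw₂
  by_cases hbig : p ^ n < (wc p G).relIndex (uPart p A ⊔ centralizer (Cfsg.pCore p G : Set G)) ∨
      p ^ m < (wc p H).relIndex (uPart p B ⊔ centralizer (Cfsg.pCore p H : Set H))
  · exact xo_le_push b b₂ e hnt hnt₂ hbig
  push Not at hbig
  exact xo_le_push_of_pow b b₂ e hnt hnt₂ hZ hbig.1 (hw.resolve_left (not_lt.2 hbig.1)) hbig.2
    (hw₂.resolve_left (not_lt.2 hbig.2))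

end Cfsg.Agent.Lib.GNiles
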