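import Mathlib
import Cfsg.Agent.Lib.GNiles.Pow
/-!
The family of all `O_p(G)` over the situations on `P` with `h > q` or a layer not of exponent `p`,
and the join of the abelian subgroups of largest order inside its intersection.
-/

set_option autoImplicit false
set_option linter.unusedSectionVars false

universe u

namespace Cfsg.Agent.Lib.GNiles

open Subgroup
open Cfsg.Agent.Lib
open Cfsg.Agent.Lib.SL2 (SLtwo PSLtwo)
open scoped commutatorElement

variable {P : Type u} [Group P] {G : Type u} [Group G] {S : Subgroup G}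

/-- `D` is `O_p(G)` for a situation on `P` with `h > q` or a layer not of exponent `p`. -/
def WildMember (p : ℕ) [Fact p.Prime] (P : Type u) [Group P] (D : Subgroup P) : Prop :=
  ∃ (G : Type u) (_ : Group G) (_ : Finite G) (S : Subgroup G) (e : P ≃* S) (n : ℕ) (F : Type)
    (_ : Field F) (_ : Fintype F) (ψ : G →* PSLtwo F) (A : Subgroup G),
    Base p S A n ψ ∧ Wild p G A n ∧ D = push (toTop e).symm (Cfsg.pCore p G)

/-- The intersection of the members. -/
def wildCore (p : ℕ) [Fact p.Prime] (P : Type u) [Group P] : Subgroup P :=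
  sInf {D | WildMember p P D}

/-- The join of the abelian subgroups of largest order in the intersection. -/
def wildLag (p : ℕ) [Fact p.Prime] (P : Type u) [Group P] : Subgroup P :=
  sSup {R | IsLag (⊤ : Subgroup P) R ∧ R ≤ wildCore p P}

variable {p : ℕ} [hp : Fact p.Prime] [Finite P] [Finite G]
  {F : Type} [Field F] [Fintype F] {n : ℕ} {A : Subgroup G} {ψ : G →* PSLtwo F}

theorem wildMember_aut {D : Subgroup P} (h : WildMember p P D) (σ : P ≃* P) :
    WildMember p P (D.comap σ.toMonoidHom) := by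
  obtain ⟨G, iG, iGf, S, e, n, F, iF, iFf, ψ, A, hb, hw, rfl⟩ := h
  refine ⟨G, iG, iGf, S, σ.trans e, n, F, iF, iFf, ψ, A, hb, hw, ?_⟩
  ext x
  rw [mem_comap, mem_pull_toTop, mem_pull_toTop]
  rfl

theorem wildCore_comap (σ : P ≃* P) : wildCore p P ≤ (wildCore p P).comap σ.toMonoidHom := by
  intro x hx
  rw [mem_comap, wildCore, mem_sInf]
  intro D hD
  exact (mem_sInf.1 hx) _ (wildMember_aut hD σ)

theorem wildLag_characteristic : (wildLag p P).Characteristic := by
  refine characteristic_of_comap fun σ => sSup_le fun R hR => ?_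
  rw [← map_le_iff_le_comap]
  refine le_sSup (s := {R | IsLag (⊤ : Subgroup P) R ∧ R ≤ wildCore p P}) ⟨lag_aut hR.1 σ, ?_⟩
  exact (Subgroup.map_mono hR.2).trans (map_le_iff_le_comap.2 (wildCore_comap σ))

theorem zen_pow (e : P ≃* S) (hZ : ∀ z ∈ center P, z ^ p = 1) : ∀ z ∈ zen S, z ^ p = 1 := by
  intro z hz
  rw [← img_center e] at hz
  obtain ⟨y, hy, rfl⟩ := hz
  rw [← map_pow, hZ y hy, map_one]

/-- `[O_p(G), O^p(G)]` lies in every member. -/
theorem xo_le_img_wildCore (b : Base p S A n ψ) (e : P ≃* S) (hZ : ∀ z ∈ center P, z ^ p = 1)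
    (hw : Wild p G A n) : xo p G ≤ img e (wildCore p P) := by
  intro x hx
  have hxS : x ∈ S := b.ctx.setup.le_S (xo_le_pCore hx)
  refine ⟨e.symm ⟨x, hxS⟩, ?_, by simp⟩
  show e.symm ⟨x, hxS⟩ ∈ wildCore p P
  rw [wildCore, mem_sInf]
  rintro D ⟨H, iH, iHf, T, f, m, F', iF, iFf, φ, B, hb, hw', rfl⟩
  have hle := xo_le_push_wild b hb ((e.symm).trans f) (zen_pow e hZ) hw hw' hx
  rw [mem_pull_toTop]
  exact (apply_mem_pull ((e.symm).trans f) (x := ⟨x, hxS⟩)).1 hle

/-- The iteration: some abelian subgroup of largest order lies in every member. -/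
theorem exists_lag_wildCore (hsat : Sat (⊤ : Subgroup P)) (hZ : ∀ z ∈ center P, z ^ p = 1) :
    ∃ R, IsLag (⊤ : Subgroup P) R ∧ R ≤ wildCore p P := by
  classical
  set bad : Subgroup P → ℕ := fun R => Nat.card {D : Subgroup P // WildMember p P D ∧ ¬ R ≤ D}
  obtain ⟨R, hR, hmin⟩ := Set.Finite.exists_minimalFor (f := bad)
    {R : Subgroup P | IsLag (⊤ : Subgroup P) R} (Set.toFinite _) (exists_lag (P := P))
  refine ⟨R, hR, le_sInf fun D hD => ?_⟩
  by_contra hRD
  obtain ⟨H, iH, iHf, T, f, m, F', iF, iFf, φ, B, hb, hw, rfl⟩ := hD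
  set R₁ := push (toTop f) R
  have hR₁ : IsLag T R₁ := hR.push (toTop f)
  have hR₁D : ¬ R₁ ≤ Cfsg.pCore p H := fun h => hRD fun x hx => by
    rw [mem_pull_toTop]
    exact h ((apply_mem_push (toTop f) (x := ⟨x, mem_top x⟩)).2 hx)
  have b₁ : Base p T R₁ m φ := ⟨hb.ctx, hsat.push (toTop f), hR₁, hR₁D⟩
  set W := centralizer (Cfsg.pCore p H : Set H)
  set R₂ := uPart p R₁ ⊔ W
  have hR₂ : IsLag T R₂ := hb.ctx.lagUW hR₁ hR₁D
  set R' := push (toTop f).symm R₂
  have hR' : IsLag (⊤ : Subgroup P) R' := hR₂.push (toTop f).symm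
  have hR₂D : R₂ ≤ Cfsg.pCore p H := sup_le inf_le_right hb.ctx.W_le
  have hsub : ∀ D : Subgroup P, WildMember p P D ∧ ¬ R' ≤ D → WildMember p P D ∧ ¬ R ≤ D := by
    rintro D' ⟨hD', hnle⟩
    refine ⟨hD', fun hle => hnle ?_⟩
    have hW : W ≤ img f (wildCore p P) := (b₁.W_le_xo).trans (sup_le
      (inf_le_left.trans (xo_le_img_wildCore hb f hZ hw)) ?_)
    · have hDfam : wildCore p P ≤ D' := sInf_le hD'
      intro x hx
      rw [mem_pull_toTop] at hx
      have h2 : uPart p R₁ ⊔ W ≤ img f D' := sup_le (inf_le_left.trans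
        ((push_toTop f R).le.trans (Subgroup.map_mono hle))) (hW.trans (Subgroup.map_mono hDfam))
      obtain ⟨y, hy, e1⟩ := h2 hx
      rwa [show x = y from f.injective (Subtype.ext e1.symm)]
    · intro z hz
      have hzT := hb.ctx.center_le_zen hz
      rw [← img_center f] at hzT
      obtain ⟨y, hy, rfl⟩ := hzT
      refine ⟨y, ?_, rfl⟩
      show y ∈ wildCore p P
      rw [wildCore, mem_sInf]
      rintro _ ⟨H', iH', iHf', T', f', m', F'', iF', iFf', φ', B', hb', -, rfl⟩
      rw [mem_pull_toTop]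
      exact hb'.ctx.zen_le_D ((img_center f').le ⟨y, hy, rfl⟩)
  have hlt : bad R' < bad R := by
    let incl : {D : Subgroup P // WildMember p P D ∧ ¬ R' ≤ D} →
        {D : Subgroup P // WildMember p P D ∧ ¬ R ≤ D} := fun D => ⟨D.1, hsub D.1 D.2⟩
    refine lt_of_le_of_ne (Nat.card_le_card_of_injective incl fun a b h => Subtype.ext
      (by simpa [incl] using congrArg Subtype.val h)) fun heq => ?_
    have hbij := (show Function.Injective incl from fun a b h => Subtype.ext
      (by simpa [incl] using congrArg Subtype.val h)).bijective_of_nat_card_le heq.ge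
    obtain ⟨⟨D, hD⟩, hDe⟩ := hbij.2 ⟨push (toTop f).symm (Cfsg.pCore p H),
      ⟨H, iH, iHf, T, f, m, F', iF, iFf, φ, B, hb, hw, rfl⟩, hRD⟩
    refine hD.2 ?_
    rw [show D = push (toTop f).symm (Cfsg.pCore p H) from congrArg Subtype.val hDe]
    exact push_mono _ hR₂D
  exact absurd (hmin hR' hlt.le) (not_le.2 hlt)

/-- One of `sigPart ∩ Z(P)` and the join over the wild family is normal. -/
theorem wild_normal (hP : IsPGroup p P) (hsat : Sat (⊤ : Subgroup P))
    (hJ : (⊤ : Subgroup P) ≤ sSup {R | IsLag (⊤ : Subgroup P) R})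
    (hZ : ∀ z ∈ center P, z ^ p = 1) (e : P ≃* S) (hsit : Cfsg.IsPushingUpSituation p S) :
    (img e (sigPart p P ⊓ center P)).Normal ∨ (img e (wildLag p P)).Normal := by
  have hzle : img e (sigPart p P ⊓ center P) ≤ zen S :=
    (Subgroup.map_mono inf_le_right).trans (img_center e).le
  by_cases hn : (zen S).Normal
  · obtain ⟨M, n, F, iF, iFt, ψ, d⟩ := PushingUp.exists_data hsit
    exact Or.inl (d.normal_of_center_le hzle hn)
  obtain ⟨n, F, iF, iFt, ψ, c⟩ := exists_ctx hsit hn
  set D := Cfsg.pCore p G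
  have hsatS : Sat S := hsat.push (toTop e)
  have hJS : S ≤ sSup {B | IsLag S B} := by
    intro x hx
    have hle : img e ⊤ ≤ sSup {B | IsLag S B} := (Subgroup.map_mono hJ).trans (by
      rw [map_le_iff_le_comap]
      refine sSup_le fun R hR => ?_
      rw [← map_le_iff_le_comap]
      refine le_sSup (s := {B | IsLag S B}) ?_
      show IsLag S (img e R)
      rw [← push_toTop]
      exact hR.push (toTop e))
    exact hle ((img_top e).ge hx)
  obtain ⟨A, hA, hAD⟩ : ∃ A, IsLag S A ∧ ¬ A ≤ D := by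
    by_contra hcon
    push Not at hcon
    have hSD : S = D := le_antisymm (hJS.trans (sSup_le hcon)) c.setup.le_S
    apply hn
    haveI : S.Normal := hSD ▸ (inferInstance : D.Normal)
    infer_instance
  have b : Base p S A n ψ := ⟨c, hsatS, hA, hAD⟩
  by_cases hw : Wild p G A n
  case neg =>
    rw [Wild, not_or, not_lt, not_not] at hw
    left
    have hle : img e (sigPart p P ⊓ center P) ≤ center G := fun x hx =>
      (c.W_inf_c0 hA hAD).le ⟨c.zen_le_W (hzle hx),
        sigPart_le hP b e hJS hw.1 hw.2 (Subgroup.map_mono inf_le_left hx)⟩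
    exact ⟨fun x hx g => by rwa [mem_center_iff.1 (hle hx) g, mul_inv_cancel_right]⟩
  right
  set N := img e (wildCore p P)
  have hxN : xo p G ≤ N := xo_le_img_wildCore b e hZ hw
  haveI hNc : (wildCore p P).Characteristic := characteristic_of_comap wildCore_comap
  have hN2 : (N ⊓ D).Normal := by
    refine Ctx.normal_of_sup (S := S) (K := opG p G) c.opG_sup (fun k hk x hx => ?_)
      fun s hs x hx => ⟨img_conj e hs hx.1, (inferInstance : D.Normal).conj_mem x hx.2 s⟩
    have h1 : ⁅k, x⁆ ∈ xo p G := by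
      rw [← commutatorElement_inv]; exact inv_mem (commutator_mem_commutator hx.2 hk)
    have h2 : ⁅k, x⁆ ∈ N ⊓ D := ⟨hxN h1, xo_le_pCore h1⟩
    rw [show k * x * k⁻¹ = ⁅k, x⁆ * x by rw [commutatorElement_def]; group]
    exact mul_mem h2 hx
  have hlagD : ∀ R, R ≤ wildCore p P → img e R ≤ D := by
    intro R hRN
    have hmem : WildMember p P (push (toTop e).symm D) :=
      ⟨G, inferInstance, inferInstance, S, e, n, F, iF, iFt, ψ, A, b, hw, rfl⟩
    rintro _ ⟨y, hy, rfl⟩
    exact (mem_pull_toTop e D y).1 ((hRN.trans (sInf_le hmem)) hy)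
  refine ⟨fun x hx g => ?_⟩
  suffices h : (img e (wildLag p P)).map (cj g) ≤ img e (wildLag p P) from h (mem_map_of_mem _ hx)
  rw [map_map, map_le_iff_le_comap, wildLag]
  refine sSup_le fun R hR => ?_
  rw [← map_le_iff_le_comap, ← map_map]
  set R₁ := (img e R).map (cj g)
  have hRle : img e R ≤ N ⊓ D := le_inf (Subgroup.map_mono hR.2) (hlagD R hR.2)
  haveI := hN2
  have hR₁le : R₁ ≤ N ⊓ D := (Subgroup.map_mono hRle).trans (map_cj_normal _ g).le
  have hR₁S : R₁ ≤ S := hR₁le.trans (inf_le_right.trans c.setup.le_S)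
  have hR₁ : IsLag S R₁ := (push_toTop e R ▸ hR.1.push (toTop e)).map_conj hR₁S
  intro y hy
  have hy' : y ∈ img e (push (toTop e).symm R₁) := by
    rw [← push_toTop, push_push_symm (toTop e) hR₁S]; exact hy
  refine Subgroup.map_mono (le_sSup (s := {R | IsLag (⊤ : Subgroup P) R ∧ R ≤ wildCore p P})
    ⟨hR₁.push (toTop e).symm, fun z hz => ?_⟩) hy'
  rw [mem_pull_toTop] at hz
  obtain ⟨w, hw', e1⟩ := (hR₁le hz).1
  exact (e.injective (Subtype.ext e1) : w = z) ▸ hw'

end Cfsg.Agent.Lib.GNiles
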