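import Mathlib
import Cfsg.Agent.Lib.GNiles.Family2
import Cfsg.Agent.Lib.GNiles.Assembly
/-!
The pair of characteristic subgroups whose second member contains a centrally large subgroup.
-/

set_option autoImplicit false
set_option linter.unusedSectionVars false

universe u

namespace Cfsg.Agent.Lib.GNiles

open Subgroup
open Cfsg.Agent.Lib
open scoped commutatorElement Pointwise

variable {p : ℕ} [hp : Fact p.Prime] {P : Type u} [Group P] [Finite P]

theorem maxCentralProduct_of_large {L R : Subgroup P} (hR : Cfsg.IsCentrallyLarge R) (hle : R ≤ L) :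
    Cfsg.maxCentralProduct L = Cfsg.maxCentralProduct P := by
  refine le_antisymm (csSup_le ⟨_, ⊥, rfl⟩ ?_) ?_
  · rintro k ⟨R', rfl⟩
    refine le_csSup CD.bddAbove_central ⟨R'.map L.subtype, ?_⟩
    exact PushingUp.measure_map L.subtype_injective R'
  · rw [← show Nat.card R * Nat.card (center R) = Cfsg.maxCentralProduct P from hR]
    refine le_csSup CD.bddAbove_central ⟨R.subgroupOf L, ?_⟩
    rw [← PushingUp.measure_map L.subtype_injective, map_subgroupOf_eq_of_le hle]

variable (p P) in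
/-- The conditions excluded in the theorem. -/
def Exceptional' : Prop :=
  ¬ IsMulCommutative P ∧ Cfsg.thompsonSubgroupA P = ⊤ ∧
    Cfsg.IsElementaryAbelian p (center P) ∧ Cfsg.IsElementaryAbelian p (frattini P) ∧
    (p = 2 → frattini P ≤ center P) ∧ (p = 3 → frattini P ≤ Subgroup.upperCentralSeries P 2) ∧
    (3 < p → frattini P ≤ center P ∧ Monoid.exponent P = p) ∧
    (∀ A ∈ Cfsg.maxAbelianSubgroups P, ∀ B ∈ Cfsg.maxAbelianSubgroups P, ∀ Q : Subgroup P,
      Nat.card ↥A ^ 2 = Nat.card P * Nat.card ↥(center P) ∧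
      Nat.card ↥Q * Nat.card ↥(center ↥Q) ≤ Nat.card P * Nat.card ↥(center P) ∧
      ((A ⊔ B : Subgroup P) : Set P) = (A : Set P) * (B : Set P) ∧
      A ⊔ B = centralizer ((A ⊓ B : Subgroup P) : Set P))

/-- `[Z(J), P] ∩ Z(P)` or `C_P(Z(J))`. -/
theorem case_centerT {G : Type u} [Group G] [Finite G] {S : Subgroup G} (e : P ≃* S)
    (hsit : Cfsg.IsPushingUpSituation p S) :
    (img e (⁅Cfsg.thompsonSubgroupA P ⊓ centralizer (Cfsg.thompsonSubgroupA P : Set P),
        (⊤ : Subgroup P)⁆ ⊓ center P)).Normal ∨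
      (img e (centralizer ((Cfsg.thompsonSubgroupA P ⊓
        centralizer (Cfsg.thompsonSubgroupA P : Set P) : Subgroup P) : Set P))).Normal := by
  rcases case_centerJ e hsit with h | h
  · exact Or.inl h
  set J := Cfsg.thompsonSubgroupA P
  set Z₁ := J ⊓ centralizer (J : Set P)
  obtain ⟨M, n, F, iF, iFt, ψ, d⟩ := PushingUp.exists_data hsit
  set D := Cfsg.pCore p G
  have hf : Function.Injective ((S.subtype).comp (e : P ≃* S).toMonoidHom) :=
    fun a b hab => e.injective (S.subtype_injective hab)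
  set Y := img e Z₁
  haveI hY : Y.Normal := by
    rw [show Y = img e J ⊓ centralizer (img e J : Set G) from PushingUp.map_inf_centralizer hf J]
    haveI := h
    infer_instance
  set C := centralizer (Y : Set G)
  haveI hC : C.Normal := inferInstance
  have hTC : img e (centralizer (Z₁ : Set P)) = S ⊓ C := by
    ext x
    constructor
    · rintro ⟨t, ht, rfl⟩
      refine ⟨(e t).2, mem_centralizer_iff.2 ?_⟩
      rintro _ ⟨z, hz, rfl⟩
      rw [← map_mul, ← map_mul, mem_centralizer_iff.1 ht z hz]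
    · rintro ⟨hxS, hxC⟩
      refine ⟨e.symm ⟨x, hxS⟩, mem_centralizer_iff.2 fun z hz => hf ?_, by simp⟩
      have h1 := mem_centralizer_iff.1 hxC _
        (mem_map_of_mem ((S.subtype).comp (e : P ≃* S).toMonoidHom) hz)
      simpa using h1
  by_cases hCS : C ⊔ S = ⊤
  · left
    haveI : Z₁.Normal := by
      haveI := inf_centralizer_characteristic (thompsonA_characteristic (P := P)); infer_instance
    refine ⟨fun x hx g => ?_⟩
    have hxz : x ∈ zen S := (img_center e).le (map_mono inf_le_right hx)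
    have hxY : x ∈ Y := map_mono (inf_le_left.trans (commutator_le_left _ _)) hx
    have hle : C ⊔ S ≤ centralizer ({x} : Set G) := sup_le
      (fun c hc => mem_centralizer_singleton_iff.2 ((mem_centralizer_iff.1 hc x hxY).symm))
      fun s hs => mem_centralizer_singleton_iff.2 (mem_centralizer_iff.1 hxz.2 s hs)
    have hg := mem_centralizer_singleton_iff.1 (hle (hCS.ge (mem_top g)))
    rwa [hg, mul_inv_cancel_right]
  · right
    have h1 : (C ⊔ D) ⊓ S = D := d.inf_eq_pCore le_sup_right (by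
      rwa [sup_assoc, sup_eq_right.2 d.pCore_le])
    have h2 : S ⊓ C = C ⊓ D := le_antisymm
      (le_inf inf_le_right ((le_inf (inf_le_right.trans le_sup_left) inf_le_left).trans h1.le))
      (le_inf (inf_le_right.trans d.pCore_le) inf_le_left)
    rw [hTC, h2]
    infer_instance

theorem exists_pair' [Nontrivial P] (hP : IsPGroup p P) (hexc : ¬ Exceptional' p P) :
    ∃ S₁ S₂ : Subgroup P, S₁ ≠ ⊥ ∧ S₂ ≠ ⊥ ∧ S₁.Characteristic ∧ S₂.Characteristic ∧
      S₁ ≤ center P ∧
      S₂ ≤ centralizer ((Cfsg.thompsonSubgroupA P ⊓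
        centralizer (Cfsg.thompsonSubgroupA P : Set P) : Subgroup P) : Set P) ∧
      (S₂.subgroupOf (centralizer ((Cfsg.thompsonSubgroupA P ⊓
        centralizer (Cfsg.thompsonSubgroupA P : Set P) : Subgroup P) : Set P))).Characteristic ∧
      Cfsg.maxCentralProduct S₂ = Cfsg.maxCentralProduct (centralizer ((Cfsg.thompsonSubgroupA P ⊓
        centralizer (Cfsg.thompsonSubgroupA P : Set P) : Subgroup P) : Set P)) ∧
      ∀ (G : Type u) [Group G] [Finite G] (S : Subgroup G) (e : P ≃* S),
        Cfsg.IsPushingUpSituation p S → (img e S₁).Normal ∨ (img e S₂).Normal := by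
  set J := Cfsg.thompsonSubgroupA P with hJdef
  set Z₁ := J ⊓ centralizer (J : Set P)
  set T := centralizer ((Z₁ : Subgroup P) : Set P)
  have htop : (⊤ : Subgroup P).Characteristic := inferInstance
  have hJchar : J.Characteristic := thompsonA_characteristic
  have hZ₁char : Z₁.Characteristic := inf_centralizer_characteristic hJchar
  have hcen : (center P).Characteristic := inferInstance
  obtain ⟨R₀, hR₀⟩ := exists_lag (P := P)
  by_cases hab : IsMulCommutative P
  · have hc : center P = ⊤ :=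
      eq_top_iff.2 fun x _ => mem_center_iff.2 fun g => hab.is_comm.comm g x
    have hT : T = ⊤ :=
      eq_top_iff.2 fun x _ => mem_centralizer_iff.2 fun g _ => hab.is_comm.comm g x
    exact ⟨⊤, ⊤, top_ne_bot, top_ne_bot, htop, htop, hc.ge, hT.ge,
      characteristic_subgroupOf_top hT htop, by rw [hT], fun G _ _ S e hsit =>
        Or.inl (case_abelian e hsit hab)⟩
  by_cases hZJ : ⁅Z₁, (⊤ : Subgroup P)⁆ ≠ ⊥
  · have hchar : (⁅Z₁, (⊤ : Subgroup P)⁆).Characteristic :=
      commutator_characteristic' hZ₁char htop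
    have hJT : J ≤ T := le_centralizer_iff.1 inf_le_right
    have hTne : T ≠ ⊥ := fun h => lag_ne_bot hR₀ (le_bot_iff.1 (h ▸ (le_trans (by
      rw [hJdef, thompsonA_eq]; exact le_sSup (s := {R | IsLag (⊤ : Subgroup P) R}) hR₀) hJT)))
    have hTchar : T.Characteristic := by
      refine characteristic_of_comap fun σ t ht => mem_centralizer_iff.2 fun z hz => ?_
      have h1 : σ.symm z ∈ Z₁ := characteristic_iff_le_comap.1 hZ₁char σ.symm hz
      have h2 := congrArg σ (mem_centralizer_iff.1 ht _ h1)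
      rwa [map_mul, map_mul, σ.apply_symm_apply] at h2
    refine ⟨⁅Z₁, (⊤ : Subgroup P)⁆ ⊓ center P, T, ?_, hTne, inf_characteristic hchar hcen,
      hTchar, inf_le_right, le_rfl, ?_, rfl, fun G _ _ S e hsit => case_centerT e hsit⟩
    · haveI : (⁅Z₁, (⊤ : Subgroup P)⁆).Normal := by
        haveI := hchar; infer_instance
      exact inf_center_ne_bot hP hZJ
    · rw [subgroupOf_self]; infer_instance
  push Not at hZJ
  have hZ₁ : Z₁ ≤ center P := by
    have h := commutator_eq_bot_iff_le_centralizer.1 hZJ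
    rwa [coe_top, centralizer_univ] at h
  have hT : T = ⊤ := centralizer_eq_top_iff_subset.2 hZ₁
  have mk : ∀ S₁ S₂ : Subgroup P, S₁ ≠ ⊥ → S₂ ≠ ⊥ → S₁.Characteristic → S₂.Characteristic →
      S₁ ≤ center P → (∃ R, Cfsg.IsCentrallyLarge R ∧ R ≤ S₂) →
      (∀ (G : Type u) [Group G] [Finite G] (S : Subgroup G) (e : P ≃* S),
        Cfsg.IsPushingUpSituation p S → (img e S₁).Normal ∨ (img e S₂).Normal) →
      ∃ S₁ S₂ : Subgroup P, S₁ ≠ ⊥ ∧ S₂ ≠ ⊥ ∧ S₁.Characteristic ∧ S₂.Characteristic ∧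
      S₁ ≤ center P ∧ S₂ ≤ T ∧ (S₂.subgroupOf T).Characteristic ∧
      Cfsg.maxCentralProduct S₂ = Cfsg.maxCentralProduct T ∧
      ∀ (G : Type u) [Group G] [Finite G] (S : Subgroup G) (e : P ≃* S),
        Cfsg.IsPushingUpSituation p S → (img e S₁).Normal ∨ (img e S₂).Normal := by
    rintro S₁ S₂ h1 h2 h3 h4 h5 ⟨R, hR, hRle⟩ h6
    refine ⟨S₁, S₂, h1, h2, h3, h4, h5, hT.symm ▸ le_top, characteristic_subgroupOf_top hT h4, ?_, h6⟩
    rw [maxCentralProduct_of_large hR hRle,
      maxCentralProduct_of_large hR (le_top.trans hT.ge)]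
  by_cases hnab : ∃ Q : Subgroup P, Cfsg.IsMinimalCentrallyLarge Q ∧ ¬ IsMulCommutative Q
  · obtain ⟨Q, hQ, hQab⟩ := hnab
    have hchar : (⁅Q, Q⁆).Characteristic := PushingUp.commutator_characteristic hP hQ
    have hQQ : ⁅Q, Q⁆ ≠ ⊥ := fun h =>
      hQab (le_centralizer_iff_isMulCommutative.1 (commutator_eq_bot_iff_le_centralizer.1 h))
    have hQJ : Q ≤ Cfsg.minimalCentrallyLargeJoin P :=
      le_sSup (s := {R : Subgroup P | Cfsg.IsMinimalCentrallyLarge R}) hQ
    refine mk (center P ⊓ ⁅Q, Q⁆) (Cfsg.minimalCentrallyLargeJoin P) ?_ ?_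
      (inf_characteristic hcen hchar) ?_ inf_le_left ⟨Q, hQ.1, hQJ⟩
      fun G _ _ S e hsit => case_mcl e hsit hQ
    · haveI : (⁅Q, Q⁆).Normal := by haveI := hchar; infer_instance
      rw [inf_comm]; exact inf_center_ne_bot hP hQQ
    · intro h
      have hQ0 : Q = ⊥ := le_bot_iff.1 (hQJ.trans h.le)
      exact hQQ (by rw [hQ0, commutator_bot_left])
    · exact characteristic_of_comap fun σ => map_le_iff_le_comap.1 (mclJoin_map σ)
  push Not at hnab
  obtain ⟨RC, hRC⟩ := CD.exists_centrallyLarge (G := P)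
  obtain ⟨Q₀, -, hQ₀⟩ := CD.exists_minimalCentrallyLarge_le hRC
  have hiff := (S3007.result (p := p) P hP Q₀ Q₀ hQ₀ hQ₀).2.2.2.2 (hnab Q₀ hQ₀)
  have hlagCL : ∀ R, IsLag (⊤ : Subgroup P) R → Cfsg.IsCentrallyLarge R := fun R hR =>
    ((hiff R).2 (mem_maxAbelian_iff.2 hR)).1
  obtain ⟨hJl, hJc⟩ := (CD.centrallyLarge_iff J).1
    (CD.centrallyLarge_sSup (T := Cfsg.maxAbelianSubgroups P) CD.exists_mem_maxAbelianSubgroups
      fun R hR => hlagCL R (mem_maxAbelian_iff.1 hR))
  have hCJ : centralizer (J : Set P) = center P :=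
    le_antisymm ((le_inf hJc le_rfl).trans hZ₁) (center_le_centralizer _)
  have hJtop : J = ⊤ := by
    refine eq_top_of_le_card J ?_
    have h := CD.cdMeasure_le_max (⊤ : Subgroup P)
    rw [← show Nat.card J * Nat.card (centralizer (J : Set P)) = Cfsg.maxCentralizerProduct P
      from hJl, hCJ, CD.cdMeasure, card_top, coe_top, centralizer_univ] at h
    exact Nat.le_of_mul_le_mul_right h Nat.card_pos
  have hmax : Cfsg.maxCentralizerProduct P = Nat.card P * Nat.card (center P) := by
    rw [← show Nat.card J * Nat.card (centralizer (J : Set P)) = Cfsg.maxCentralizerProduct P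
      from hJl, hCJ, hJtop, card_top]
  have hlarge : ∀ A, IsLag (⊤ : Subgroup P) A → Cfsg.IsCentralizerLarge A := fun A hA =>
    ((CD.centrallyLarge_iff A).1 (hlagCL A hA)).1
  have hsq : ∀ A, IsLag (⊤ : Subgroup P) A →
      Nat.card A * Nat.card A = Nat.card P * Nat.card (center P) := by
    intro A hA
    have h1 : Nat.card A * Nat.card (centralizer (A : Set P)) = Cfsg.maxCentralizerProduct P :=
      hlarge A hA
    rwa [CD.centralizer_maxAbelian (mem_maxAbelian_iff.2 hA), hmax] at h1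
  have hsat : Sat (⊤ : Subgroup P) :=
    { bound := fun H _ => by
        rw [top_inf_eq, zen_top, card_top, ← hmax]
        exact CD.cdMeasure_le_max H
      sq := fun A hA => by rw [zen_top, card_top]; exact hsq A hA }
  have hJ : (⊤ : Subgroup P) ≤ sSup {R | IsLag (⊤ : Subgroup P) R} := by
    rw [← thompsonA_eq, ← hJdef, hJtop]
  have hR₀CL := hlagCL R₀ hR₀
  by_cases hZp : ∃ z ∈ center P, z ^ p ≠ 1
  · obtain ⟨z, hz, hzp⟩ := hZp
    refine mk (Cfsg.powerClosure p 1 (center P)) ⊤ ?_ top_ne_bot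
      (powerClosure_characteristic hcen) htop ?_ ⟨R₀, hR₀CL, le_top⟩
      fun G _ _ S e hsit => case_center e hsit hJ
    · exact fun h => hzp (mem_bot.1 (h.le (subset_closure ⟨z, hz, by rw [pow_one]⟩)))
    · exact (closure_le _).2 (by rintro _ ⟨x, hx, rfl⟩; exact pow_mem hx _)
  push Not at hZp
  by_cases hSig : sigPart p P ≠ ⊥
  · have hchar := sigPart_characteristic (p := p) hP
    obtain ⟨R, hR, hRc⟩ := exists_lag_wildCore (p := p) hsat hZp
    have hRle : R ≤ wildLag p P :=
      le_sSup (s := {R | IsLag (⊤ : Subgroup P) R ∧ R ≤ wildCore p P}) ⟨hR, hRc⟩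
    refine mk (sigPart p P ⊓ center P) (wildLag p P) ?_ ?_ (inf_characteristic hchar hcen)
      wildLag_characteristic inf_le_right ⟨R, hlagCL R hR, hRle⟩
      fun G _ _ S e hsit => wild_normal hP hsat hJ hZp e hsit
    · haveI : (sigPart p P).Normal := by haveI := hchar; infer_instance
      exact inf_center_ne_bot hP hSig
    · exact fun h => lag_ne_bot hR (le_bot_iff.1 (hRle.trans h.le))
  push Not at hSig
  rw [sigPart, sup_eq_bot_iff] at hSig
  have hΦe : Cfsg.IsElementaryAbelian p (frattini P) :=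
    isElementaryAbelian_of_frattini_bot (hP.to_subgroup _) hSig.2
  have hΦZ : p ≠ 3 → frattini P ≤ center P := fun h3 => by
    have h := hSig.1
    rw [if_neg h3, commutator_eq_bot_iff_le_centralizer, coe_top, centralizer_univ] at h
    exact h
  have hΦ3 : p = 3 → frattini P ≤ Subgroup.upperCentralSeries P 2 := fun h3 x hx => by
    refine Subgroup.mem_upperCentralSeries_succ_iff.2 fun y => ?_
    rw [Subgroup.upperCentralSeries_one, mem_center_iff]
    intro g
    have h := hSig.1
    rw [if_pos h3] at h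
    have h2 : ⁅⁅x, y⁆, g⁆ = 1 := mem_bot.1
      (h.le (commutator_mem_commutator (commutator_mem_commutator hx (mem_top y)) (mem_top g)))
    exact (commutatorElement_eq_one_iff_mul_comm.1 h2).symm
  have hex : 3 < p ∧ Monoid.exponent P ≠ p := by
    by_contra hcon
    refine hexc ⟨hab, hJtop, ⟨inferInstance, hZp⟩, hΦe, fun h2 => hΦZ (by omega), hΦ3,
      fun h3 => ⟨hΦZ (by omega), by_contra fun h => hcon ⟨h3, h⟩⟩,
      fun A hA B hB Q => ⟨?_, ?_, ?_, ?_⟩⟩
    · rw [pow_two]; exact hsq A (mem_maxAbelian_iff.1 hA)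
    · rw [← hmax, CD.card_center_subgroup]
      exact (Nat.mul_le_mul_left _ (card_le_of_le inf_le_right)).trans (CD.cdMeasure_le_max Q)
    · exact (CD.centralizerLarge_sup_inf (hlarge A (mem_maxAbelian_iff.1 hA))
        (hlarge B (mem_maxAbelian_iff.1 hB))).2.2.1
    · have h := (CD.centralizerLarge_sup_inf (hlarge A (mem_maxAbelian_iff.1 hA))
        (hlarge B (mem_maxAbelian_iff.1 hB))).2.2.2.2
      rw [CD.centralizer_maxAbelian hA, CD.centralizer_maxAbelian hB] at h
      exact h.symm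
  have hp2 : p ≠ 2 := by omega
  have hΦ : frattini P ≤ center P := hΦZ (by omega)
  obtain ⟨R, hR⟩ := exists_omLag (p := p) hR₀
  have hRle : R ≤ sSup {R | IsOmLag p (⊤ : Subgroup P) R} :=
    le_sSup (s := {R | IsOmLag p (⊤ : Subgroup P) R}) hR
  refine mk (Cfsg.powerClosure p 1 (⊤ : Subgroup P)) (sSup {R | IsOmLag p (⊤ : Subgroup P) R})
    ?_ ?_ (powerClosure_characteristic htop)
    (characteristic_sSup fun σ R hR => omLag_aut hR σ) ?_ ⟨R, hlagCL R hR.lag, hRle⟩
    fun G _ _ S e hsit => case_power e hsit hp2 hP hsat hJ hZp hΦ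
  · intro h
    apply hex.2
    refine Monoid.exponent_eq_prime_iff hp.out |>.2 fun g hg => orderOf_eq_prime ?_ hg
    exact mem_bot.1 (h.le (subset_closure ⟨g, mem_top g, by rw [pow_one]⟩))
  · exact fun h => lag_ne_bot hR.lag (le_bot_iff.1 (hRle.trans h.le))
  · refine (closure_le _).2 ?_
    rintro _ ⟨x, -, rfl⟩
    rw [pow_one]
    exact hΦ (PFrattini.pow_mem_frattini hP x)

end Cfsg.Agent.Lib.GNiles
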